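import Mathlib.Tactic

/-!
# The arithmetic behind the classification of simple groups with a centralizer of order four
-/

set_option autoImplicit false

namespace CfsgLib.SmallCent

/-- The reciprocal sum of the degrees of a principal block with Klein four defect is not small. -/
theorem sigma_gt {A B C : ℤ} (hA : Odd A) (hB : Odd B) (hC : Odd C) (h : 1 + A + B + C = 0)
    (hpos : 0 < (1 : ℚ) + 1 / A + 1 / B + 1 / C) : (1 : ℚ) / 3 < 1 + 1 / A + 1 / B + 1 / C := by
  have key : ∀ a b c : ℤ, Odd a → Odd b → Odd c → 1 + a + b + c = 0 →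
      0 < (1 : ℚ) + 1 / a + 1 / b + 1 / c → a ≤ b → b ≤ c → (1 : ℚ) / 3 < 1 + 1 / a + 1 / b + 1 / c := by
    intro a b c ha hb hc h hp hab hbc
    have hc1 : 1 ≤ c := by
      rcases hc with ⟨k, rfl⟩; rcases ha with ⟨i, rfl⟩; rcases hb with ⟨l, rfl⟩; omega
    have hcQ : (0 : ℚ) < 1 / c := by
      have : (1 : ℚ) ≤ c := by exact_mod_cast hc1
      positivity
    have hneg : ∀ x : ℤ, Odd x → x ≠ -1 → (-(1 : ℚ) / 3) ≤ 1 / x := by
      intro x hx h1
      rcases lt_or_ge x 0 with hx0 | hx0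
      · have h3 : x ≤ -3 := by rcases hx with ⟨k, rfl⟩; omega
        have h3' : (x : ℚ) ≤ -3 := by exact_mod_cast h3
        rw [le_div_iff_of_neg (by linarith)]
        linarith
      · have : (0 : ℚ) ≤ 1 / (x : ℚ) := one_div_nonneg.2 (by exact_mod_cast hx0)
        linarith
    by_cases e1 : a = -1
    · subst e1
      have : c = -b := by omega
      subst this
      push_cast at hp
      rw [div_neg] at hp
      linarith
    by_cases e2 : b = -1
    · subst e2
      have : c = -a := by omega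
      subst this
      push_cast at hp
      rw [div_neg] at hp
      linarith
    have := hneg a ha e1
    have := hneg b hb e2
    linarith
  rcases le_total A B with hab | hab <;> rcases le_total B C with hbc | hbc <;> rcases le_total A C with hac | hac
  all_goals
    first
    | exact key A B C hA hB hC h hpos hab hbc
    | (have := key A C B hA hC hB (by omega) (by linarith) hac hbc; linarith)
    | (have := key B A C hB hA hC (by omega) (by linarith) hab hac; linarith)
    | (have := key B C A hB hC hA (by omega) (by linarith) hbc hac; linarith)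
    | (have := key C A B hC hA hB (by omega) (by linarith) hac hab; linarith)
    | (have := key C B A hC hB hA (by omega) (by linarith) hbc hab; linarith)

/-- Without a linear member the reciprocal sum is less than `5/3`. -/
theorem sigma_lt {A B C : ℤ} (hA : Odd A) (hB : Odd B) (hC : Odd C) (h : 1 + A + B + C = 0)
    (hA1 : A ≠ 1) (hB1 : B ≠ 1) (hC1 : C ≠ 1) : (1 : ℚ) + 1 / A + 1 / B + 1 / C < 5 / 3 := by
  have hle : ∀ x : ℤ, Odd x → x ≠ 1 → 1 / (x : ℚ) ≤ 1 / 3 ∧ (x < 0 → 1 / (x : ℚ) < 0) := by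
    intro x hx h1
    rcases lt_or_ge x 0 with hx0 | hx0
    · have h' : 1 / (x : ℚ) < 0 := one_div_neg.2 (by exact_mod_cast hx0)
      exact ⟨by linarith, fun _ => h'⟩
    · have h3 : 3 ≤ x := by rcases hx with ⟨k, rfl⟩; omega
      exact ⟨one_div_le_one_div_of_le (by norm_num) (by exact_mod_cast h3), fun h => absurd h (by omega)⟩
  obtain ⟨a1, a2⟩ := hle A hA hA1
  obtain ⟨b1, b2⟩ := hle B hB hB1
  obtain ⟨c1, c2⟩ := hle C hC hC1
  rcases lt_or_ge A 0 with hx | hx
  · have := a2 hx; linarith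
  rcases lt_or_ge B 0 with hy | hy
  · have := b2 hy; linarith
  · have := c2 (by omega); linarith

/-- The 2-part of the group order forces `v` to be one modulo eight. -/
theorem quarter_even {g o S j : ℤ} (h : g * (16 * j ^ 2) * 8 = 64 * o * (2 * S) ^ 2 * ((4 * j + 1) * (4 * j + 2)))
    (hg : Odd g) : Even j := by
  by_contra hj
  rw [Int.not_even_iff_odd] at hj
  have h1 : g * j ^ 2 = 4 * (o * S ^ 2 * ((4 * j + 1) * (2 * j + 1))) := by linarith [h]
  have h2 : Odd (g * j ^ 2) := hg.mul hj.pow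
  rw [h1, Int.odd_iff] at h2
  omega

/-- The group order is at most `90 o (o₁+o₂)²`. -/
theorem order_le {n o S v : ℚ} (ho : 0 ≤ o) (hv : v ≤ -3 ∨ 9 ≤ v)
    (h : n * (v - 1) ^ 2 = 64 * o * S ^ 2 * (v * (v + 1))) : n ≤ 90 * o * S ^ 2 := by
  have h1 : 0 < (v - 1) ^ 2 := by rcases hv with hv | hv <;> nlinarith
  have h2 : 64 * (v * (v + 1)) ≤ 90 * (v - 1) ^ 2 := by rcases hv with hv | hv <;> nlinarith
  have hoS : 0 ≤ o * S ^ 2 := by positivity
  refine le_of_mul_le_mul_right ?_ h1
  rw [h]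
  nlinarith [mul_le_mul_of_nonneg_left h2 hoS]

/-- For `o = 3` the order is `2520` or `3672`. -/
theorem order_three {g j : ℤ} (hg : Odd g) (hg0 : 0 < g)
    (h : g * j ^ 2 = 4 * 3 * 2 ^ 2 * ((4 * j + 1) * (2 * j + 1))) : 8 * g = 2520 ∨ 8 * g = 3672 := by
  have hdvd : j ^ 2 ∣ 48 := by
    have hcop : IsCoprime (j ^ 2) ((4 * j + 1) * (2 * j + 1)) := by
      refine IsCoprime.pow_left (IsCoprime.mul_right ?_ ?_)
      · exact ⟨-4, 1, by ring⟩
      · exact ⟨-2, 1, by ring⟩
    exact hcop.dvd_of_dvd_mul_right (y := (48 : ℤ)) ⟨g, by linarith⟩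
  have hj0 : j ≠ 0 := by rintro rfl; norm_num at hdvd
  have h2 : j ^ 2 ≤ 48 := Int.le_of_dvd (by norm_num) hdvd
  have hjl : -7 < j := by nlinarith
  have hju : j < 7 := by nlinarith
  rcases hg with ⟨k, rfl⟩
  interval_cases j <;> omega

/-- The equation coming from a constituent `a`. -/
theorem no_case_a {o v : ℤ} (ho : 5 ≤ o) (hv : v ≤ -3 ∨ 9 ≤ v)
    (h : (v - 1) * ((o + 1) ^ 2 * (v + 1)) = 3 * o ^ 2 * (v - 1) ^ 2) : False := by
  have hv0 : v - 1 ≠ 0 := by omega
  have h' : (o + 1) ^ 2 * (v + 1) = 3 * o ^ 2 * (v - 1) :=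
    mul_left_cancel₀ hv0 (by linear_combination h)
  have hoo : 5 * o ≤ o ^ 2 := by nlinarith
  rcases hv with hv | hv
  · nlinarith
  · nlinarith

/-- The equation coming from a constituent `b`. -/
theorem no_case_b {o v u : ℤ} (ho : 5 ≤ o) (hv : v ≤ -3 ∨ 9 ≤ v) (hv8 : 8 ∣ v - 1)
    (hu : u ≤ -7 ∨ 5 ≤ u) (hu4 : 4 ∣ u - 1)
    (h : (o + 1) ^ 2 * (v * (v + 1)) * (u - 1) ^ 2 = 3 * o ^ 2 * (v - 1) ^ 2 * (u * (u + 1))) : False := by
  have hu0 : 0 < u * (u + 1) := by rcases hu with hu | hu <;> nlinarith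
  have hv0 : 0 < (v - 1) ^ 2 := by rcases hv with hv | hv <;> nlinarith
  have hc : 25 * (o + 1) ^ 2 ≤ 36 * o ^ 2 := by nlinarith
  have hvb : 32 * (v * (v + 1)) ≤ 45 * (v - 1) ^ 2 := by rcases hv with hv | hv <;> nlinarith
  rcases hu with hu | hu
  swap
  · -- the left factor is too small
    have h1 : (u - 1) ^ 2 < u * (u + 1) := by nlinarith
    have h2 : (o + 1) ^ 2 * (v * (v + 1)) * (u - 1) ^ 2 < 3 * o ^ 2 * (v - 1) ^ 2 * (u * (u + 1)) := by
      rcases le_or_gt (v * (v + 1)) 0 with hvn | hvp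
      · have : (o + 1) ^ 2 * (v * (v + 1)) * (u - 1) ^ 2 ≤ 0 :=
          mul_nonpos_of_nonpos_of_nonneg (mul_nonpos_of_nonneg_of_nonpos (sq_nonneg _) hvn) (sq_nonneg _)
        have : 0 < 3 * o ^ 2 * (v - 1) ^ 2 * (u * (u + 1)) := by positivity
        linarith
      · have h3 : (o + 1) ^ 2 * (v * (v + 1)) < 3 * o ^ 2 * (v - 1) ^ 2 := by
          nlinarith [mul_le_mul hc hvb (by positivity) (by positivity)]
        calc _ < 3 * o ^ 2 * (v - 1) ^ 2 * (u - 1) ^ 2 :=
              mul_lt_mul_of_pos_right h3 (by nlinarith)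
          _ ≤ _ := mul_le_mul_of_nonneg_left h1.le (by positivity)
    linarith
  have h21 : 21 * (u - 1) ^ 2 ≤ 32 * (u * (u + 1)) := by nlinarith
  have hvpos : 0 < v * (v + 1) := by rcases hv with hv | hv <;> nlinarith
  have hv9 : v = 9 := by
    by_contra hne
    have hvb' : 256 * (v * (v + 1)) ≤ 306 * (v - 1) ^ 2 := by
      rcases hv with hv | hv
      · nlinarith
      · have h17 : 17 ≤ v := by omega
        nlinarith
    have h1 := mul_le_mul (mul_le_mul hc hvb' (by positivity) (by positivity)) h21 (by positivity) (by positivity)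
    have hp : 0 < o ^ 2 * (v - 1) ^ 2 * (u * (u + 1)) := by positivity
    nlinarith
  subst hv9
  have hu7 : u = -7 := by
    by_contra hne
    have h11 : u ≤ -11 := by omega
    have h55 : 55 * (u - 1) ^ 2 ≤ 72 * (u * (u + 1)) := by nlinarith
    have h1 := mul_le_mul hc h55 (by positivity) (by positivity)
    have hp : 0 < o ^ 2 * (u * (u + 1)) := by positivity
    nlinarith
  subst hu7
  have hb : o ≤ 7 := by nlinarith
  interval_cases o <;> norm_num at h

end CfsgLib.SmallCent
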