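import Cfsg.Agent.Lib.Blocks.KleinFormula
import Cfsg.Agent.Lib.Blocks.GaloisInv
import Cfsg.Agent.Lib.CharBlocks.Degree
import Cfsg.Agent.Lib.SmallCent.Numerics
import Mathlib.GroupTheory.Sylow

/-!
# Bounds on the order of a group with fused Klein four Sylow subgroups
-/

set_option autoImplicit false

noncomputable section

namespace CfsgLib.SmallCent

open Cfsg

variable {L : Type*} [Group L] [Finite L]

/-- Fused involutions exclude a normal 2-complement. -/
theorem not_complement_of_one_class (P : Sylow 2 L) (hP : IsKleinFour (P : Subgroup L))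
    (hone : ∀ s t : L, orderOf s = 2 → orderOf t = 2 → IsConj s t) :
    ∃ g₀ : ℕ, Odd g₀ ∧ Nat.card L = 4 * g₀ ∧ ¬ ∃ N : Subgroup L, N.Normal ∧ Nat.card N = g₀ := by
  haveI : Fact (Nat.Prime 2) := ⟨Nat.prime_two⟩
  haveI := hP
  have h4 : Nat.card (P : Subgroup L) = 4 := hP.card_four
  have hg : Odd (P : Subgroup L).index := Nat.not_even_iff_odd.mp fun h => P.not_dvd_index (even_iff_two_dvd.mp h)
  refine ⟨(P : Subgroup L).index, hg, by rw [← h4, Subgroup.card_mul_index], ?_⟩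
  rintro ⟨N, hN, hNc⟩
  haveI := hN
  have hidx : N.index = 4 := by
    have := N.card_mul_index
    rw [hNc, ← (P : Subgroup L).card_mul_index, h4, mul_comm 4] at this
    exact Nat.eq_of_mul_eq_mul_left hg.pos this
  have hq : Nat.card (L ⧸ N) = 2 ^ 2 := by rw [← Subgroup.index_eq_card, hidx]; norm_num
  have hcomm : ∀ a b : L ⧸ N, a * b = b * a := IsPGroup.commutative_of_card_eq_prime_sq hq
  haveI : Nontrivial (P : Subgroup L) := Finite.one_lt_card_iff_nontrivial.1 (by rw [h4]; norm_num)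
  obtain ⟨a, ha⟩ : ∃ a : (P : Subgroup L), a ≠ 1 := exists_ne 1
  obtain ⟨b, hb1, hba⟩ : ∃ b : (P : Subgroup L), b ≠ 1 ∧ b ≠ a := by
    by_contra hno
    push Not at hno
    have hsub : (Set.univ : Set (P : Subgroup L)) ⊆ {1, a} := fun b _ => by
      by_cases h : b = 1
      · exact Or.inl h
      · exact Or.inr (hno b h)
    have := Set.ncard_le_ncard hsub (Set.toFinite _)
    rw [Set.ncard_univ, h4] at this
    have := this.trans (Set.ncard_insert_le _ _)
    simp at this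
  have ord : ∀ u : (P : Subgroup L), u ≠ 1 → orderOf (u : L) = 2 := fun u hu => by
    rw [Subgroup.orderOf_coe]
    exact orderOf_eq_prime (by rw [pow_two, IsKleinFour.mul_self]) hu
  obtain ⟨g, hgab⟩ := isConj_iff.1 (hone a b (ord a ha) (ord b hb1))
  have e : ((a : L) : L ⧸ N) = ((b : L) : L ⧸ N) := by
    rw [← hgab, QuotientGroup.mk_mul, QuotientGroup.mk_mul, hcomm (g : L ⧸ N), mul_assoc,
      ← QuotientGroup.mk_mul, mul_inv_cancel, QuotientGroup.mk_one, mul_one]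
  rw [QuotientGroup.eq] at e
  have hd : orderOf ((a : L)⁻¹ * b) ∣ Nat.card N := (Subgroup.orderOf_mk (H := N) ((a : L)⁻¹ * b) e) ▸ orderOf_dvd_natCard _
  rw [show ((a : L)⁻¹ * b) = ((a⁻¹ * b : (P : Subgroup L)) : L) by simp, ord _ (fun h => hba (inv_mul_eq_one.1 h).symm),
    hNc] at hd
  exact hg.not_two_dvd_nat hd

/-- The order of a group with fused Klein four Sylow subgroups. -/
theorem klein_bounds (P : Sylow 2 L) (hP : IsKleinFour (P : Subgroup L))
    (hone : ∀ s t : L, orderOf s = 2 → orderOf t = 2 → IsConj s t) {J : L}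
    (hJ : J ∈ (P : Subgroup L)) (hJ2 : orderOf J = 2) :
    Nat.card L * Nat.card (Subgroup.centralizer ((P : Subgroup L) : Set L)) ^ 2 <
        24 * Nat.card (Subgroup.centralizer ({J} : Set L)) ^ 3 ∧
      ((∀ f : L →* ℂˣ, f = 1) → 24 * Nat.card (Subgroup.centralizer ({J} : Set L)) ^ 3 <
        5 * (Nat.card L * Nat.card (Subgroup.centralizer ((P : Subgroup L) : Set L)) ^ 2)) := by
  classical
  haveI := Fintype.ofFinite L
  obtain ⟨M, hM⟩ := CfsgLib.Blocks.exists_isPModular Nat.prime_two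
  haveI := hM.2.1
  obtain ⟨g₀, hg₀, hcard, hnc⟩ := not_complement_of_one_class P hP hone
  obtain ⟨χ₁, χ₂, χ₃, ε, hε, h1, h2, h12, h13, h23, hB, hval, -, -, -, -⟩ :=
    CfsgLib.Blocks.klein_principal_block hM P hP hone
  obtain ⟨v1, v2, v3⟩ := hval J hJ2
  have h3 : (χ₃ : L → ℂ) ≠ (fun _ => 1) := fun h => by rw [h] at v3; norm_num at v3
  obtain ⟨hrel, hf⟩ := CfsgLib.Blocks.klein_order_facts hM g₀ hg₀ hcard hnc P hJ hJ2 χ₁ χ₂ χ₃ 1 ε (-1) hB
    ⟨h1, h2, h3, h12, h13, h23⟩ ⟨Or.inl rfl, hε, Or.inr rfl⟩ ⟨by simpa using v1, v2, by simpa using v3⟩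
  set d₁ := charDegree (χ₁ : L → ℂ) with hd₁
  set d₂ := charDegree (χ₂ : L → ℂ) with hd₂
  set d₃ := charDegree (χ₃ : L → ℂ) with hd₃
  set A : ℤ := (d₁ : ℤ) with hA
  set B : ℤ := ε * d₂ with hB'
  set C : ℤ := -(d₃ : ℤ) with hC
  have oA : Odd A := Int.odd_coe_nat _ |>.2 (CfsgLib.Blocks.odd_degree_of_value χ₁ hJ2 (Or.inl rfl) (by simpa using v1))
  have oB : Odd B := by
    have h := (Int.odd_coe_nat _).2 (CfsgLib.Blocks.odd_degree_of_value χ₂ hJ2 hε v2)
    rcases hε with rfl | rfl <;> simpa [hB'] using h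
  have oC : Odd C := by
    rw [hC, odd_neg]
    exact (Int.odd_coe_nat _).2 (CfsgLib.Blocks.odd_degree_of_value χ₃ hJ2 (Or.inr rfl) (by simpa using v3))
  have hsum : 1 + A + B + C = 0 := by rw [hA, hB', hC]; linarith
  have eB : (ε : ℚ) / (d₂ : ℚ) = 1 / (B : ℚ) := by
    rw [hB']
    rcases hε with rfl | rfl <;> push_cast <;> simp [neg_div, div_neg]
  have eC : (((-1 : ℤ)) : ℚ) / (d₃ : ℚ) = 1 / (C : ℚ) := by
    rw [hC]; push_cast; simp [neg_div, div_neg]
  have eA : (((1 : ℤ)) : ℚ) / (d₁ : ℚ) = 1 / (A : ℚ) := by rw [hA]; push_cast; rfl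
  rw [eA, eB, eC] at hf
  set N : ℚ := (Nat.card L : ℚ) * (Nat.card (Subgroup.centralizer ((P : Subgroup L) : Set L)) : ℚ) ^ 2 with hN
  set R : ℚ := (Nat.card (Subgroup.centralizer ({J} : Set L)) : ℚ) ^ 3 with hR
  have hN0 : 0 < N := mul_pos (Nat.cast_pos.2 Nat.card_pos) (pow_pos (Nat.cast_pos.2 Nat.card_pos) 2)
  have hR0 : 0 < R := pow_pos (Nat.cast_pos.2 Nat.card_pos) 3
  have hpos : 0 < (1 : ℚ) + 1 / A + 1 / B + 1 / C := by
    by_contra hle
    nlinarith [mul_nonpos_of_nonneg_of_nonpos hN0.le (not_lt.1 hle)]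
  refine ⟨?_, fun hlin => ?_⟩
  · have h := sigma_gt oA oB oC hsum hpos
    have h' : N < 24 * R := by nlinarith [mul_lt_mul_of_pos_left h hN0]
    rw [hN, hR] at h'
    exact_mod_cast h'
  · have key : ∀ χ : IrrCharacter L, (χ : L → ℂ) ≠ (fun _ => 1) → charDegree (χ : L → ℂ) ≠ 1 := by
      intro χ hne h
      have hc := CfsgLib.Char.isCharacter_of_isIrr χ.2
      have h' : (χ : L → ℂ) 1 = 1 := by rw [← CfsgLib.CharBlocks.coe_charDegree_irr, h]; norm_num
      refine hne (funext fun g => ?_)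
      have := congrArg (fun f : L →* ℂˣ => ((f g : ℂˣ) : ℂ)) (hlin (CfsgLib.Char.linearHom hc h'))
      simpa [CfsgLib.Char.linearHom_apply] using this
    have k1 := key χ₁ h1
    have k2 := key χ₂ h2
    rw [← hd₁] at k1
    rw [← hd₂] at k2
    have hA1 : A ≠ 1 := by rw [hA]; exact_mod_cast k1
    have hB1 : B ≠ 1 := by
      rw [hB']
      rcases hε with rfl | rfl <;> omega
    have hC1 : C ≠ 1 := by rw [hC]; omega
    have h := sigma_lt oA oB oC hsum hA1 hB1 hC1
    have h' : 24 * R < 5 * N := by nlinarith [mul_lt_mul_of_pos_left h hN0]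
    rw [hN, hR] at h'
    exact_mod_cast h'

end CfsgLib.SmallCent
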