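import Cfsg.Agent.Lib.SmallCent.FourGroup
import Cfsg.Agent.Lib.Invol.KleinSylow
import Cfsg.Agent.Lib.SmallCent.KleinBounds
import Mathlib.GroupTheory.Transfer

/-!
# Subgroups between the four-group and the centralizer of an element of `O₁`
-/

set_option autoImplicit false

noncomputable section

namespace CfsgLib.SmallCent

open DihedralGroup CfsgLib.Invol

variable {G : Type*} [Group G] [Finite G]

/-- The centralizer in a subgroup, as an intersection. -/
theorem card_centralizer_subgroup (L : Subgroup G) (S : Set L) :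
    Nat.card (Subgroup.centralizer S) =
      Nat.card (L ⊓ Subgroup.centralizer (Subtype.val '' S) : Subgroup G) := by
  refine Nat.card_congr
    { toFun := fun g => ⟨((g : L) : G), (g : L).2, ?_⟩
      invFun := fun g => ⟨⟨g.1, g.2.1⟩, ?_⟩
      left_inv := fun g => rfl
      right_inv := fun g => rfl }
  · refine Subgroup.mem_centralizer_iff.2 ?_
    rintro _ ⟨a, ha, rfl⟩
    exact congrArg Subtype.val (Subgroup.mem_centralizer_iff.1 g.2 a ha)
  · exact Subgroup.mem_centralizer_iff.2 fun a ha =>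
      Subtype.ext (Subgroup.mem_centralizer_iff.1 g.2.2 _ ⟨a, ha, rfl⟩)

namespace Hyp

variable (h : Hyp G) {x : G}

/-- Elements of a subgroup over the four-group in the centralizers of `z`, or of `z` and `s`. -/
theorem card_inf_eq {L S : Subgroup G} {R : Subgroup G} (hVL : h.V1 ≤ L) (hR : R ≤ h.O) (hRS : R ≤ S)
    (hVS : h.V1 ≤ S) (hdec : ∀ g ∈ L, g ∈ S → ∃ y ∈ R, ∃ v ∈ h.V1, g = y * v) :
    Nat.card (L ⊓ S : Subgroup G) = 4 * Nat.card (L ⊓ R : Subgroup G) := by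
  rw [← h.card_V1, mul_comm, ← Nat.card_prod]
  symm
  refine Nat.card_congr (Equiv.ofBijective
    (fun p : (L ⊓ R : Subgroup G) × h.V1 => (⟨(p.1 : G) * p.2,
      mul_mem p.1.2.1 (hVL p.2.2), mul_mem (hRS p.1.2.2) (hVS p.2.2)⟩ : (L ⊓ S : Subgroup G))) ⟨?_, ?_⟩)
  · rintro ⟨a, v⟩ ⟨a', v'⟩ e
    have e' : (a : G) * v = a' * v' := congrArg Subtype.val e
    have h1 : (a' : G)⁻¹ * a = v' * (v : G)⁻¹ := by
      rw [inv_mul_eq_iff_eq_mul, ← mul_assoc, ← e', mul_inv_cancel_right]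
    obtain ⟨d, -, hd⟩ := mul_mem v'.2 (inv_mem v.2)
    have hd1 := h.eq_one_of_ι_mem (d := d) (by
      rw [hd, ← h1]; exact mul_mem (inv_mem (hR a'.2.2)) (hR a.2.2))
    rw [hd1, map_one] at hd
    rw [← hd, inv_mul_eq_one] at h1
    exact Prod.ext (Subtype.ext h1.symm) (Subtype.ext (mul_inv_eq_one.1 hd.symm).symm)
  · rintro ⟨g, hgL, hgS⟩
    obtain ⟨y, hy, v, hv, e⟩ := hdec g hgL hgS
    have hyL : y ∈ L := by
      rw [show y = g * v⁻¹ by rw [e, mul_inv_cancel_right]]; exact mul_mem hgL (inv_mem (hVL hv))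
    exact ⟨(⟨y, hyL, hy⟩, ⟨v, hv⟩), Subtype.ext e.symm⟩

/-- The members of a subgroup of `C(x)` in `C(z)`. -/
theorem card_inf_cz (hx : x ∈ h.O1) (hx1 : x ≠ 1) {L : Subgroup G} (hVL : h.V1 ≤ L)
    (hLX : L ≤ Subgroup.centralizer ({x} : Set G)) :
    Nat.card (L ⊓ Subgroup.centralizer ({h.z} : Set G) : Subgroup G) = 4 * Nat.card (L ⊓ h.O : Subgroup G) :=
  h.card_inf_eq hVL le_rfl h.O_le
    (fun v hv => Subgroup.mem_centralizer_singleton_iff.2 (h.commute_V1 hv h.z_mem_V1))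
    fun g hgL hgz => h.decomp_x hx hx1 (Subgroup.mem_centralizer_singleton_iff.1 hgz)
      (Subgroup.mem_centralizer_singleton_iff.1 (hLX hgL))

/-- The members of a subgroup in the centralizer of the four-group. -/
theorem card_inf_czs {L : Subgroup G} (hVL : h.V1 ≤ L) :
    Nat.card (L ⊓ Subgroup.centralizer ({h.z, h.s} : Set G) : Subgroup G) = 4 * Nat.card (L ⊓ h.O1 : Subgroup G) := by
  refine h.card_inf_eq hVL (fun y hy => (h.mem_O1.1 hy).1) (fun y hy => ?_) (fun v hv => ?_) fun g _ hg => ?_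
  · exact mem_centralizer_pair.2 ⟨h.mem_C.1 (h.O_le (h.mem_O1.1 hy).1), (h.mem_O1.1 hy).2⟩
  · exact mem_centralizer_pair.2 ⟨h.commute_V1 hv h.z_mem_V1, h.commute_V1 hv h.s_mem_V1⟩
  · obtain ⟨hgz, hgs⟩ := mem_centralizer_pair.1 hg
    obtain ⟨d, hd, hO, hc⟩ := h.decomp_commute (h.mem_C.2 hgz) (e := sr 0) hgs
    exact ⟨_, h.mem_O1.2 ⟨hO, hc⟩, h.ι d, ⟨d, (commute_s_iff d).1 hd, rfl⟩, (inv_mul_cancel_right _ _).symm⟩

/-- The four-group is a Sylow 2-subgroup of every subgroup of `C(x)` containing it. -/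
theorem exists_sylow (hx : x ∈ h.O1) (hx1 : x ≠ 1) {L : Subgroup G} (hVL : h.V1 ≤ L)
    (hLX : L ≤ Subgroup.centralizer ({x} : Set G)) :
    ∃ P : Sylow 2 L, (P : Subgroup L) = h.V1.subgroupOf L ∧ IsKleinFour (P : Subgroup L) := by
  haveI : Fact (Nat.Prime 2) := ⟨Nat.prime_two⟩
  have hc : Nat.card (h.V1.subgroupOf L) = 4 := by
    rw [Nat.card_congr (Subgroup.subgroupOfEquivOfLe hVL).toEquiv, h.card_V1]
  have h4 : 4 ∣ Nat.card L := h.card_V1 ▸ Subgroup.card_dvd_of_le hVL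
  have h8 : ¬ 8 ∣ Nat.card L := fun h8 => h.not_eight_dvd hx hx1 (h8.trans (Subgroup.card_dvd_of_le hLX))
  have hfac : (Nat.card L).factorization 2 = 2 := by
    have l1 := (Nat.prime_two.pow_dvd_iff_le_factorization (n := Nat.card L) (k := 2) Nat.card_pos.ne').1 h4
    have l2 : ¬ 3 ≤ (Nat.card L).factorization 2 := fun l =>
      h8 ((Nat.prime_two.pow_dvd_iff_le_factorization (n := Nat.card L) (k := 3) Nat.card_pos.ne').2 l)
    omega
  refine ⟨Sylow.ofCard (h.V1.subgroupOf L) (by rw [hc, hfac]; rfl), by rw [Sylow.coe_ofCard], ?_⟩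
  rw [Sylow.coe_ofCard]
  haveI := h.isKleinFour_V1
  refine ⟨hc, ?_⟩
  rw [Monoid.exponent_eq_of_mulEquiv (Subgroup.subgroupOfEquivOfLe hVL)]
  exact IsKleinFour.exponent_two

/-- Either the involutions are fused, or the odd elements form a normal subgroup. -/
theorem dichotomy (hx : x ∈ h.O1) (hx1 : x ≠ 1) {L : Subgroup G} (hVL : h.V1 ≤ L)
    (hLX : L ≤ Subgroup.centralizer ({x} : Set G)) :
    (∃ K : Subgroup L, K.Normal ∧ Odd (Nat.card K) ∧ ∀ g : L, ¬ 2 ∣ orderOf g → g ∈ K) ∨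
      ∀ a b : L, orderOf a = 2 → orderOf b = 2 → IsConj a b := by
  haveI : Fact (Nat.Prime 2) := ⟨Nat.prime_two⟩
  obtain ⟨P, -, hP⟩ := h.exists_sylow hx hx1 hVL hLX
  by_cases hcen : ∀ n ∈ Subgroup.normalizer ((P : Subgroup L) : Set L), ∀ a ∈ (P : Subgroup L), n * a = a * n
  · left
    have hle : Subgroup.normalizer ((P : Subgroup L) : Set L) ≤ Subgroup.centralizer ((P : Subgroup L) : Set L) :=
      fun n hn => Subgroup.mem_centralizer_iff.2 fun a ha => (hcen n hn a ha).symm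
    set f := MonoidHom.transferSylow P hle
    refine ⟨f.ker, inferInstance,
      Nat.not_even_iff_odd.1 fun he => MonoidHom.not_dvd_card_ker_transferSylow P hle (even_iff_two_dvd.1 he),
      fun g hg => ?_⟩
    have h1 : orderOf (f g) ∣ orderOf g := orderOf_map_dvd f g
    have h2 : orderOf (f g) ∣ 4 := hP.card_four ▸ orderOf_dvd_natCard (f g)
    exact orderOf_eq_one_iff.1 (Nat.eq_one_of_dvd_coprimes
      ((Nat.prime_two.coprime_iff_not_dvd.2 hg).symm.pow_right 2) h1 h2)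
  · right
    intro a b ha hb
    have h1 := CfsgLib.Invol.card_classes_of_not_central P hP hcen
    obtain ⟨hsub, -⟩ := Nat.card_eq_one_iff_unique.1 h1
    exact ConjClasses.mk_eq_mk_iff_isConj.1 (congrArg Subtype.val
      (hsub.elim ⟨ConjClasses.mk a, a, ha, rfl⟩ ⟨ConjClasses.mk b, b, hb, rfl⟩))

/-- The bounds for a fused subgroup. -/
theorem bounds (hx : x ∈ h.O1) (hx1 : x ≠ 1) {L : Subgroup G} (hVL : h.V1 ≤ L)
    (hLX : L ≤ Subgroup.centralizer ({x} : Set G))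
    (hone : ∀ a b : L, orderOf a = 2 → orderOf b = 2 → IsConj a b) :
    Nat.card L * (4 * Nat.card (L ⊓ h.O1 : Subgroup G)) ^ 2 < 24 * (4 * Nat.card (L ⊓ h.O : Subgroup G)) ^ 3 ∧
      ((∀ f : L →* ℂˣ, f = 1) → 24 * (4 * Nat.card (L ⊓ h.O : Subgroup G)) ^ 3 <
        5 * (Nat.card L * (4 * Nat.card (L ⊓ h.O1 : Subgroup G)) ^ 2)) := by
  obtain ⟨P, hPe, hP⟩ := h.exists_sylow hx hx1 hVL hLX
  have hz : (⟨h.z, hVL h.z_mem_V1⟩ : L) ∈ (P : Subgroup L) := by
    rw [hPe, Subgroup.mem_subgroupOf]; exact h.z_mem_V1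
  have hb := klein_bounds P hP hone hz (by rw [Subgroup.orderOf_mk, h.orderOf_z])
  have e1 : Subgroup.centralizer (Subtype.val '' ((P : Subgroup L) : Set L)) =
      Subgroup.centralizer ({h.z, h.s} : Set G) := by
    ext g
    rw [mem_centralizer_pair, ← h.commute_zs_iff, Subgroup.mem_centralizer_iff, hPe]
    refine ⟨fun hg v hv => (hg v ⟨⟨v, hVL hv⟩, hv, rfl⟩).symm, ?_⟩
    rintro hg _ ⟨a, ha, rfl⟩
    exact (hg _ ha).symm
  rw [card_centralizer_subgroup L ((P : Subgroup L) : Set L), card_centralizer_subgroup L _,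
    Set.image_singleton, e1, h.card_inf_cz hx hx1 hVL hLX, h.card_inf_czs hVL] at hb
  exact hb

end Hyp

end CfsgLib.SmallCent
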