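import Cfsg.Agent.Lib.SmallCent.Order
import Cfsg.Agent.Lib.Invol.QDW.CentralizerQType
import Cfsg.Agent.Lib.SmallGroups.Basic
import Cfsg.Agent.Lib.Invol.Counting
import Cfsg.Agent.S0111
import Cfsg.Agent.S3224
import Cfsg.Agent.S3331
import Cfsg.Agent.S0112
import Cfsg.Agent.S0115
import Cfsg.Agent.S4399
import Cfsg.Agent.S0201
import Cfsg.Agent.S0493

/-!
# Reduction of small centralizers to a dihedral Sylow subgroup of order eight
-/

set_option autoImplicit false

noncomputable section

namespace CfsgLib.SmallCent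

open DihedralGroup CfsgLib.Invol

variable {G : Type*} [Group G] [Finite G]

theorem card_centralizer_of_isConj {a b : G} (h : IsConj a b) :
    Nat.card (Subgroup.centralizer ({a} : Set G)) = Nat.card (Subgroup.centralizer ({b} : Set G)) := by
  obtain ⟨g, rfl⟩ := isConj_iff.1 h
  refine Nat.card_congr (Equiv.subtypeEquiv (MulAut.conj g).toEquiv fun x => ?_)
  simp only [SetLike.mem_coe, Subgroup.mem_centralizer_singleton_iff, MulEquiv.toEquiv_eq_coe, EquivLike.coe_coe,
    MulAut.conj_apply]
  constructor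
  · intro hx
    calc g * x * g⁻¹ * (g * a * g⁻¹) = g * (x * a) * g⁻¹ := by group
      _ = _ := by rw [hx]; group
  · intro hx
    refine mul_left_cancel (a := g) (mul_right_cancel (b := g⁻¹) ?_)
    calc g * (x * a) * g⁻¹ = g * x * g⁻¹ * (g * a * g⁻¹) := by group
      _ = _ := by rw [hx]; group

theorem card_le_centralizer {K : Subgroup G} {a : G} (hc : ∀ x ∈ K, Commute x a) :
    Nat.card K ≤ Nat.card (Subgroup.centralizer ({a} : Set G)) :=
  Subgroup.card_le_of_le fun x hx => Subgroup.mem_centralizer_singleton_iff.2 (hc x hx).eq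

theorem noncentral_four : ∀ d : DihedralGroup 4, d * d ≠ 1 → d = r 1 ∨ d = (r 1)⁻¹ := by decide

theorem rot_half_central {n h : ℕ} (hn : h + h = n) (x : DihedralGroup n) :
    x * r (h : ZMod n) = r (h : ZMod n) * x := by
  have hh : (h : ZMod n) + h = 0 := by rw [← Nat.cast_add, hn, ZMod.natCast_self]
  have hneg : -(h : ZMod n) = h := neg_eq_of_add_eq_zero_left hh
  rcases x with i | i
  · rw [r_mul_r, r_mul_r, add_comm]
  · rw [sr_mul_r, r_mul_sr, sub_eq_add_neg, hneg]

variable [IsSimpleGroup G]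

/-- Thompson transfer into a subgroup of index two with one involution. -/
theorem fuse_into (hG : ¬ IsMulCommutative G) (S : Sylow 2 G) {R : Subgroup G} (hR : R ≤ (S : Subgroup G))
    (hidx : R.relIndex (S : Subgroup G) = 2) {v : G} (hv : ∀ x ∈ R, orderOf x = 2 → x = v)
    {u : G} (hu : orderOf u = 2) : IsConj u v := by
  haveI : Fact (Nat.Prime 2) := ⟨Nat.prime_two⟩
  obtain ⟨k, hk⟩ := exists_mem_sylow_orderOf_two S hu
  have huo : orderOf (k * u * k⁻¹) = 2 := by rw [orderOf_conj_eq]; exact hu
  by_cases hkR : k * u * k⁻¹ ∈ R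
  · exact isConj_iff.2 ⟨k, hv _ hkR huo⟩
  rcases Cfsg.Agent.S0111.result S R hR hidx _ huo hk hkR with ⟨M, -, hM, -⟩ | ⟨g, hg⟩
  · exact absurd hM (CfsgLib.SmallGroups.index_ne_two_of_simple hG M)
  · refine isConj_iff.2 ⟨g * k, ?_⟩
    rw [← hv _ hg (by rw [orderOf_conj_eq]; exact huo)]
    group

/-- No cyclic Sylow 2-subgroup. -/
theorem not_cyclic_sylow (hG : ¬ IsMulCommutative G) (S : Sylow 2 G) (h2 : 2 ∣ Nat.card G)
    (hS : IsCyclic (S : Subgroup G)) : False := by
  haveI : Fact (Nat.Prime 2) := ⟨Nat.prime_two⟩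
  exact CfsgLib.SmallGroups.not_normalizer_le_centralizer hG h2 S
    (hS.normalizer_le_centralizer (P := S) ((Nat.minFac_eq_two_iff _).2 h2))

/-- All involutions are central in some Sylow subgroup when it is dihedral. -/
theorem dihedral_fused (hG : ¬ IsMulCommutative G) (S : Sylow 2 G) {n a : ℕ} (hn : n = 2 ^ (a + 1))
    (e : (S : Subgroup G) ≃* DihedralGroup n) {u : G} (hu : orderOf u = 2) :
    IsConj u (e.symm (r ((2 ^ a : ℕ) : ZMod n)) : G) := by
  haveI : NeZero n := ⟨by rw [hn]; positivity⟩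
  have hr : orderOf (e.symm (r 1) : G) = n := by
    rw [Subgroup.orderOf_coe, MulEquiv.orderOf_eq, DihedralGroup.orderOf_r_one]
  have hpow : (e.symm (r ((2 ^ a : ℕ) : ZMod n)) : G) = (e.symm (r 1) : G) ^ (2 ^ a) := by
    rw [← SubmonoidClass.coe_pow, ← map_pow, r_one_pow]
  have hR : Subgroup.zpowers (e.symm (r 1) : G) ≤ (S : Subgroup G) := Subgroup.zpowers_le.2 (e.symm (r 1)).2
  have hidx : (Subgroup.zpowers (e.symm (r 1) : G)).relIndex (S : Subgroup G) = 2 := by
    have h1 := ((Subgroup.zpowers (e.symm (r 1) : G)).subgroupOf (S : Subgroup G)).card_mul_index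
    rw [Nat.card_congr (Subgroup.subgroupOfEquivOfLe hR).toEquiv, Nat.card_zpowers, hr,
      Nat.card_congr e.toEquiv, DihedralGroup.nat_card, mul_comm 2] at h1
    exact Nat.eq_of_mul_eq_mul_left (Nat.pos_of_ne_zero (NeZero.ne n)) h1
  refine fuse_into hG S hR hidx (fun x hx hxo => mem_zpowers_unique_involution hx (hpow ▸ pow_mem (Subgroup.mem_zpowers _) _) hxo ?_) hu
  rw [hpow, orderOf_pow' _ (by positivity), hr, hn, pow_succ, Nat.gcd_mul_right_left,
    Nat.mul_div_cancel_left _ (by positivity)]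

/-- An element of order four with centralizer of order four gives the setting. -/
theorem exists_hyp (hG : ¬ IsMulCommutative G) {w : G} (hw : orderOf w = 4)
    (hc : Nat.card (Subgroup.centralizer ({w} : Set G)) = 4) : Nonempty (Hyp G) := by
  classical
  haveI : Fact (Nat.Prime 2) := ⟨Nat.prime_two⟩
  have hCw : Subgroup.centralizer ({w} : Set G) = Subgroup.zpowers w :=
    (Subgroup.eq_of_le_of_card_ge (Subgroup.zpowers_le.2 (Subgroup.mem_centralizer_singleton_iff.2 rfl))
      (by rw [hc, Nat.card_zpowers, hw])).symm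
  obtain ⟨S, hS⟩ := (IsPGroup.of_card (p := 2) (n := 2) (G := Subgroup.zpowers w) (by rw [Nat.card_zpowers, hw]; rfl)).exists_le_sylow
  have hwS : w ∈ (S : Subgroup G) := hS (Subgroup.mem_zpowers w)
  set w' : (S : Subgroup G) := ⟨w, hwS⟩ with hw'
  have hw'o : orderOf w' = 4 := by rw [hw', Subgroup.orderOf_mk]; exact hw
  have h2 : 2 ∣ Nat.card G := (show 2 ∣ 4 by norm_num).trans (hw ▸ orderOf_dvd_natCard w)
  have hnocyc : Nat.card (S : Subgroup G) ≠ 4 := fun h4 =>
    not_cyclic_sylow hG S h2 (isCyclic_of_orderOf_eq_card w' (by rw [h4, hw'o]))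
  obtain ⟨m, hm⟩ : ∃ m, Nat.card (S : Subgroup G) = 2 ^ m := S.2.exists_card_eq
  have h4 : 4 ∣ 2 ^ m := hm ▸ hw'o ▸ orderOf_dvd_natCard w'
  have hm3 : 3 ≤ m := by
    have := (Nat.pow_dvd_pow_iff_le_right (x := 2) (k := 2) (by norm_num)).1 h4
    by_contra hlt
    have : m = 2 := by omega
    exact hnocyc (by rw [hm, this]; rfl)
  have hAC : Subgroup.centralizer ((Subgroup.zpowers w' : Subgroup (S : Subgroup G)) : Set (S : Subgroup G)) =
      Subgroup.zpowers w' := by
    refine le_antisymm (fun c hc' => ?_) fun c hc' => Subgroup.mem_centralizer_iff.2 fun d hd => ?_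
    · have h1 : (c : G) ∈ Subgroup.centralizer ({w} : Set G) := Subgroup.mem_centralizer_singleton_iff.2
        (congrArg Subtype.val (Subgroup.mem_centralizer_iff.1 hc' w' (Subgroup.mem_zpowers _))).symm
      rw [hCw] at h1
      obtain ⟨i, hi⟩ := h1
      exact ⟨i, Subtype.ext (by simpa [hw'] using hi)⟩
    · obtain ⟨i, rfl⟩ := hc'
      obtain ⟨j, rfl⟩ := hd
      exact ((Commute.refl w').zpow_zpow j i).eq
  have hcl := Cfsg.Agent.S0112.result (p := 2) m hm (Subgroup.zpowers w')
    (by rw [Nat.card_zpowers, hw'o]; rfl) hAC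
  have hkl : IsKleinFour ((S : Subgroup G) ⧸ commutator (S : Subgroup G)) :=
    (Cfsg.Agent.S0115.result m hm3 hm).1 hcl
  have hab : Nat.card (Abelianization (S : Subgroup G)) = 4 := hkl.card_four
  have hexp : ∀ x : Abelianization (S : Subgroup G), x ^ 2 = 1 := fun x => by
    haveI := hkl
    rw [pow_two]
    exact IsKleinFour.mul_self (G := (S : Subgroup G) ⧸ commutator (S : Subgroup G)) x
  rcases Cfsg.Agent.S4399.result S.2 hab hexp with h | ⟨k, ⟨e⟩⟩ | ⟨k, hk, a, b, ha, hb, hrel⟩ | ⟨k, ⟨e⟩⟩
  · exact absurd h hnocyc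
  · -- dihedral
    have hsr : ∀ i, e w' ≠ sr i := fun i hi => by
      have := congrArg orderOf hi
      rw [MulEquiv.orderOf_eq, hw'o, DihedralGroup.orderOf_sr] at this
      omega
    obtain ⟨i, hi⟩ : ∃ i, e w' = r i := by
      rcases hd : e w' with i | i
      · exact ⟨i, rfl⟩
      · exact absurd hd (hsr i)
    have hk0 : k = 0 := by
      have h1 : Nat.card (Subgroup.zpowers (e.symm (r 1) : G)) ≤ 4 := by
        rw [← hc]
        refine card_le_centralizer fun x hx => ?_
        obtain ⟨j, rfl⟩ := hx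
        refine Commute.zpow_left ?_ j
        have hcomm : Commute (r 1 : DihedralGroup (2 ^ (k + 2))) (e w') := by
          rw [hi]; show _ * _ = _ * _; rw [r_mul_r, r_mul_r]; exact congrArg r (add_comm _ _)
        have := (hcomm.map e.symm.toMonoidHom).map (S : Subgroup G).subtype
        simpa [hw'] using this
      rw [Nat.card_zpowers, Subgroup.orderOf_coe, MulEquiv.orderOf_eq, DihedralGroup.orderOf_r_one,
        show (4 : ℕ) = 2 ^ 2 from rfl, Nat.pow_le_pow_iff_right (by norm_num)] at h1
      omega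
    subst hk0
    let e4 : (S : Subgroup G) ≃* DihedralGroup 4 := e
    let ι : DihedralGroup 4 →* G := (S : Subgroup G).subtype.comp e4.symm.toMonoidHom
    have hι : Function.Injective ι := Subtype.val_injective.comp e4.symm.injective
    have hrange : ι.range = (S : Subgroup G) := by
      show ((S : Subgroup G).subtype.comp e4.symm.toMonoidHom).range = _
      rw [MonoidHom.range_comp, MonoidHom.range_eq_top.2 e4.symm.surjective, ← MonoidHom.range_eq_map,
        Subgroup.range_subtype]
    have hwι : ι (e4 w') = w := by show ((e4.symm (e4 w')) : G) = w; rw [e4.symm_apply_apply]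
    have hne : e4 w' * e4 w' ≠ 1 := fun hh => by
      have hd : orderOf (e4 w') ∣ 2 := orderOf_dvd_of_pow_eq_one (by rw [pow_two]; exact hh)
      rw [MulEquiv.orderOf_eq, hw'o] at hd
      norm_num at hd
    refine ⟨⟨S, ι, ⟨hι, hrange, rfl, one_pos⟩, fun g hg => ?_, fun x y hx hy => ?_⟩⟩
    · have hgw : Commute g w := by
        rcases noncentral_four _ hne with he | he
        · rwa [← hwι, he]
        · rw [← hwι, he, map_inv]; exact hg.inv_right
      have hle : Subgroup.zpowers (ι (r 1)) ≤ Subgroup.centralizer ({w} : Set G) := by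
        rw [Subgroup.zpowers_le, hCw]
        rcases noncentral_four _ hne with he | he
        · rw [← he, hwι]; exact Subgroup.mem_zpowers w
        · rw [← inv_inv (r 1), ← he, map_inv, hwι]; exact inv_mem (Subgroup.mem_zpowers w)
      have heq := Subgroup.eq_of_le_of_card_ge hle (by
        rw [hc, Nat.card_zpowers, orderOf_injective ι hι, DihedralGroup.orderOf_r_one])
      rw [heq]
      exact Subgroup.mem_centralizer_singleton_iff.2 hgw.eq
    · exact (dihedral_fused hG S (a := 1) rfl e4 hx).trans (dihedral_fused hG S (a := 1) rfl e4 hy).symm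
  · -- semidihedral
    exfalso
    have hQD : Cfsg.IsQuasiDihedral (S : Subgroup G) :=
      ⟨k + 3, by omega, hk, a, b, ha, hb, by rw [hrel]; rfl⟩
    obtain ⟨l, -, ⟨e⟩⟩ := CfsgLib.Invol.QDW.exists_equiv_sd hQD
    obtain ⟨ι, hι, hr⟩ := CfsgLib.Invol.QDW.exists_embedding S e
    obtain ⟨-, hd⟩ := CfsgLib.Invol.QDW.Sd.fused_of_no_index_two hι hr
      (CfsgLib.SmallGroups.index_ne_two_of_simple hG)
    have hcq : Nat.card (Subgroup.centralizer ({ι (CfsgLib.Invol.QDW.Sd.qS l)} : Set G)) = 4 := by
      rcases CfsgLib.Invol.QDW.Sd.four_class hι hr hw with h' | h'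
      · rw [← card_centralizer_of_isConj h', hc]
      · rw [card_centralizer_of_isConj hd, ← card_centralizer_of_isConj h', hc]
    obtain ⟨u, hu, hz⟩ := CfsgLib.Invol.QDW.Sd.exists_sqrt (k := l)
    have hu8 : orderOf (ι u) = 2 ^ 3 := by
      rw [orderOf_injective ι hι]
      refine orderOf_eq_prime_pow ?_ ?_
      · rw [show (2 : ℕ) ^ 2 = 2 * 2 from rfl, pow_mul, pow_two u, hu, pow_two, hz]
        intro h1
        have h2 := CfsgLib.Invol.QDW.Sd.orderOf_zS (k := l)
        rw [h1, orderOf_one] at h2; omega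
      · rw [show (2 : ℕ) ^ (2 + 1) = 2 * 2 * 2 from rfl, pow_mul, pow_mul, pow_two u, hu, pow_two (CfsgLib.Invol.QDW.Sd.qS l), hz]
        rw [← CfsgLib.Invol.QDW.Sd.orderOf_zS (k := l), pow_orderOf_eq_one]
    have h8 : Nat.card (Subgroup.zpowers (ι u)) ≤ 4 := by
      rw [← hcq]
      refine card_le_centralizer fun x hx => ?_
      obtain ⟨j, rfl⟩ := hx
      refine Commute.zpow_left ?_ j
      rw [← hu, map_mul]
      exact (Commute.refl _).mul_right (Commute.refl _)
    rw [Nat.card_zpowers, hu8] at h8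
    norm_num at h8
  · -- quaternion
    exfalso
    have hne := Cfsg.Agent.S0201.result S k e fun N hN hodd => by
      rcases hN.eq_bot_or_eq_top with h' | h'
      · exact h'
      · rw [h', Subgroup.card_top] at hodd
        exact absurd h2 hodd.not_two_dvd_nat
    rw [CfsgLib.SmallGroups.eq_bot_or_comm_of_centre (G := G) hG, Subgroup.card_bot] at hne
    omega

/-- An involution with centralizer of order four gives a group of order sixty. -/
theorem card_of_involution (hG : ¬ IsMulCommutative G) (hnc : ¬ IsCyclic G) {w : G} (hw : orderOf w = 2)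
    (hc : Nat.card (Subgroup.centralizer ({w} : Set G)) = 4) : Nat.card G = 60 := by
  classical
  haveI : Fact (Nat.Prime 2) := ⟨Nat.prime_two⟩
  have h2 : 2 ∣ Nat.card G := hw ▸ orderOf_dvd_natCard w
  obtain ⟨S, hS⟩ := (IsPGroup.of_card (p := 2) (n := 2) (G := Subgroup.centralizer ({w} : Set G)) (by rw [hc]; rfl)).exists_le_sylow
  have hwS : w ∈ (S : Subgroup G) := hS (Subgroup.mem_centralizer_singleton_iff.2 rfl)
  set w' : (S : Subgroup G) := ⟨w, hwS⟩ with hw'
  have hw'o : orderOf w' = 2 := by rw [hw', Subgroup.orderOf_mk]; exact hw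
  have hC' : Nat.card (Subgroup.centralizer ({w'} : Set (S : Subgroup G))) = 4 := by
    rw [← hc]
    refine Nat.card_congr
      { toFun := fun x => ⟨((x : (S : Subgroup G)) : G), Subgroup.mem_centralizer_singleton_iff.2
          (congrArg Subtype.val (Subgroup.mem_centralizer_singleton_iff.1 x.2))⟩
        invFun := fun x => ⟨⟨x, hS x.2⟩, Subgroup.mem_centralizer_singleton_iff.2
          (Subtype.ext (Subgroup.mem_centralizer_singleton_iff.1 x.2))⟩
        left_inv := fun x => rfl
        right_inv := fun x => rfl }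
  obtain ⟨m, hm⟩ : ∃ m, Nat.card (S : Subgroup G) = 2 ^ m := S.2.exists_card_eq
  -- the Sylow subgroup has order four
  have h4 : Nat.card (S : Subgroup G) = 4 := by
    by_contra h4
    have hm3 : 3 ≤ m := by
      have h1 : 2 ^ 2 ∣ 2 ^ m := by
        rw [show (2 : ℕ) ^ 2 = 4 from rfl, ← hm, ← hC']; exact Subgroup.card_subgroup_dvd_card _
      have := (Nat.pow_dvd_pow_iff_le_right (x := 2) (by norm_num)).1 h1
      by_contra hlt
      exact h4 (by rw [hm, show m = 2 by omega]; rfl)
    have hbig : ∀ v : G, IsConj w v → (∀ x ∈ (S : Subgroup G), Commute x v) → False := by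
      intro v hv hvc
      have h1 := card_le_centralizer hvc
      rw [← card_centralizer_of_isConj hv, hc, hm] at h1
      have : 2 ^ 3 ≤ 2 ^ m := Nat.pow_le_pow_right (by norm_num) hm3
      omega
    rcases Cfsg.Agent.S3224.result S.2 w' hw'o hC' with ⟨n, ⟨e⟩⟩ | hQD | h4'
    · have hn : n = 2 ^ (m - 2 + 1) := by
        have h1 := Nat.card_congr e.toEquiv
        rw [DihedralGroup.nat_card, hm, show m = m - 2 + 1 + 1 by omega, pow_succ] at h1
        omega
      refine hbig _ (dihedral_fused hG S hn e hw) fun x hx => ?_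
      have := congrArg (fun y => ((e.symm y : (S : Subgroup G)) : G))
        (rot_half_central (n := n) (h := 2 ^ (m - 2)) (by rw [hn, pow_succ]; omega) (e ⟨x, hx⟩))
      simp only [map_mul, Subgroup.coe_mul, e.symm_apply_apply] at this
      exact this
    · obtain ⟨l, -, ⟨e⟩⟩ := CfsgLib.Invol.QDW.exists_equiv_sd hQD
      obtain ⟨ι, hι, hr⟩ := CfsgLib.Invol.QDW.exists_embedding S e
      obtain ⟨hb, -⟩ := CfsgLib.Invol.QDW.Sd.fused_of_no_index_two hι hr
        (CfsgLib.SmallGroups.index_ne_two_of_simple hG)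
      refine hbig (ι (CfsgLib.Invol.QDW.Sd.zS l)) ?_ fun x hx => ?_
      · rcases CfsgLib.Invol.QDW.Sd.involution_class hι hr hw with h' | h'
        · exact h'
        · exact h'.trans hb.symm
      · rw [← hr] at hx
        obtain ⟨y, rfl⟩ := hx
        show ι y * _ = _ * ι y
        rw [← map_mul, ← map_mul, CfsgLib.Invol.QDW.Sd.zS_central]
    · exact h4 h4'
  -- the Klein case
  have hSC : Subgroup.centralizer ({w} : Set G) = (S : Subgroup G) :=
    Subgroup.eq_of_le_of_card_ge hS (by rw [h4, hc])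
  have hsq : ∀ x : (S : Subgroup G), x * x = 1 := by
    intro x
    have hd : orderOf x ∣ 2 ^ 2 := by rw [show (2 : ℕ) ^ 2 = 4 from rfl, ← h4]; exact orderOf_dvd_natCard x
    obtain ⟨i, hi, e⟩ := (Nat.dvd_prime_pow Nat.prime_two).1 hd
    interval_cases i
    · rw [orderOf_eq_one_iff.1 e, one_mul]
    · rw [← pow_two]; exact orderOf_dvd_iff_pow_eq_one.1 (by rw [e]; norm_num)
    · exact (not_cyclic_sylow hG S h2 (isCyclic_of_orderOf_eq_card x (by rw [e, h4]; rfl))).elim
  have hklein : IsKleinFour (S : Subgroup G) := by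
    haveI : Nontrivial (S : Subgroup G) := Finite.one_lt_card_iff_nontrivial.1 (by rw [h4]; norm_num)
    exact ⟨h4, Monoid.exponent_eq_prime_iff Nat.prime_two |>.2 fun g hg =>
      orderOf_eq_prime (by rw [pow_two]; exact hsq g) hg⟩
  have hone : ∀ s t : G, orderOf s = 2 → orderOf t = 2 → IsConj s t := by
    have key : ∀ s : G, orderOf s = 2 → IsConj s w := by
      intro s hs
      refine fuse_into hG S (Subgroup.zpowers_le.2 hwS) ?_ (fun x hx hxo => ?_) hs
      · have h1 := ((Subgroup.zpowers w).subgroupOf (S : Subgroup G)).card_mul_index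
        rw [Nat.card_congr (Subgroup.subgroupOfEquivOfLe (Subgroup.zpowers_le.2 hwS)).toEquiv,
          Nat.card_zpowers, hw, h4] at h1
        show ((Subgroup.zpowers w).subgroupOf (S : Subgroup G)).index = 2
        omega
      · exact mem_zpowers_unique_involution hx (Subgroup.mem_zpowers w) hxo hw
    exact fun s t hs ht => (key s hs).trans (key t ht).symm
  have hCS : Nat.card (Subgroup.centralizer ((S : Subgroup G) : Set G)) = 4 := by
    have : Subgroup.centralizer ((S : Subgroup G) : Set G) = (S : Subgroup G) := by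
      refine le_antisymm ?_ fun x hx => Subgroup.mem_centralizer_iff.2 fun y hy => ?_
      · refine le_trans (fun x hx => Subgroup.mem_centralizer_singleton_iff.2 ?_) hSC.le
        exact (Subgroup.mem_centralizer_iff.1 hx w hwS).symm
      · have hinv : ∀ z : (S : Subgroup G), z⁻¹ = z := fun z => inv_eq_of_mul_eq_one_right (hsq z)
        have e : (⟨y, hy⟩ : (S : Subgroup G)) * ⟨x, hx⟩ = ⟨x, hx⟩ * ⟨y, hy⟩ := by
          rw [← hinv (_ * _), mul_inv_rev, hinv, hinv]
        exact congrArg Subtype.val e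
    rw [this, h4]
  have hb := (klein_bounds S hklein hone hwS hw).1
  rw [hCS, hc] at hb
  exact Cfsg.Agent.S0493.result hnc (by omega)

end CfsgLib.SmallCent
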