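import Cfsg.Agent.Lib.Blocks.DihBlock.Local
import Mathlib.GroupTheory.FixedPointFree

/-!
# Setting: dihedral Sylow 2-subgroup of order eight, self-centralizing element of order four
-/

set_option autoImplicit false

noncomputable section

namespace CfsgLib.SmallCent

open Cfsg CfsgLib.Invol CfsgLib.Invol.DihSylow DihedralGroup
open CfsgLib.Blocks

variable {G : Type*} [Group G]

/-- The hypothesis. -/
structure Hyp (G : Type*) [Group G] where
  P : Sylow 2 G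
  ι : DihedralGroup 4 →* G
  hd : Data P ι 1
  hcw : ∀ g : G, Commute g (ι (r 1)) → g ∈ Subgroup.zpowers (ι (r 1))
  hone : ∀ a b : G, orderOf a = 2 → orderOf b = 2 → IsConj a b

namespace Hyp

variable (h : Hyp G)

/-- The central involution. -/
def z : G := h.ι (r 2)
/-- The element of order four. -/
def w : G := h.ι (r 1)
/-- A non-central involution. -/
def s : G := h.ι (sr 0)
/-- The other class of non-central involutions. -/
def u : G := h.ι (sr 1)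

/-- The centralizer of `z`. -/
def C : Subgroup G := Subgroup.centralizer ({h.z} : Set G)

theorem mem_C {g : G} : g ∈ h.C ↔ Commute g h.z := Subgroup.mem_centralizer_singleton_iff

theorem orderOf_ι (x : DihedralGroup 4) : orderOf (h.ι x) = orderOf x := orderOf_injective h.ι h.hd.inj x

theorem commute_ι {x y : DihedralGroup 4} (hxy : x * y = y * x) : Commute (h.ι x) (h.ι y) := by
  show h.ι x * h.ι y = h.ι y * h.ι x
  rw [← map_mul, hxy, map_mul]

theorem ι_mem_C (x : DihedralGroup 4) : h.ι x ∈ h.C := h.mem_C.2 (h.commute_ι (by revert x; decide))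

theorem two_eq : ((2 * 1 : ℕ) : ZMod 4) = 2 := by decide

theorem zz_eq : zz h.ι 1 = h.z := by rw [zz, two_eq]; rfl

theorem orderOf_eq_two {x : DihedralGroup 4} (h1 : x ≠ 1) (h2 : x * x = 1) : orderOf (h.ι x) = 2 := by
  rw [h.orderOf_ι]; exact orderOf_eq_prime (by rw [pow_two, h2]) h1

theorem orderOf_z : orderOf h.z = 2 := h.orderOf_eq_two (by decide) (by decide)
theorem orderOf_s : orderOf h.s = 2 := h.orderOf_eq_two (by decide) (by decide)
theorem orderOf_u : orderOf h.u = 2 := h.orderOf_eq_two (by decide) (by decide)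

theorem orderOf_w : orderOf h.w = 4 := by
  rw [w, h.orderOf_ι, DihedralGroup.orderOf_r_one]

theorem w_mul_w : h.w * h.w = h.z := by rw [w, z, ← map_mul]; rfl

theorem commute_s_z : Commute h.s h.z := h.commute_ι (by decide)
theorem commute_u_z : Commute h.u h.z := h.commute_ι (by decide)
theorem u_eq : h.u = h.s * h.w := by rw [u, s, w, ← map_mul]; rfl
theorem s_mem_C : h.s ∈ h.C := h.ι_mem_C _
theorem u_mem_C : h.u ∈ h.C := h.ι_mem_C _
theorem w_mem_C : h.w ∈ h.C := h.ι_mem_C _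
theorem z_mem_C : h.z ∈ h.C := h.ι_mem_C _

variable [Finite G]

theorem CJ_eq : DihBlock.CJ h.ι 1 = h.C := by
  unfold DihBlock.CJ C
  rw [h.zz_eq]

/-- The centralizer retracts on the Sylow subgroup. -/
theorem exists_retract' : ∃ π : h.C →* DihedralGroup 4,
    (∀ d, π ⟨h.ι d, h.ι_mem_C d⟩ = d) ∧ Odd (Nat.card π.ker) := by
  obtain ⟨π, hπ⟩ := DihBlock.exists_retract h.hd
  have e := h.CJ_eq
  refine ⟨π.comp (Subgroup.inclusion e.ge), fun d => hπ.splits d, ?_⟩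
  have : Nat.card (π.comp (Subgroup.inclusion e.ge)).ker = Nat.card π.ker := Nat.card_congr
    { toFun := fun x => ⟨Subgroup.inclusion e.ge x.1, x.2⟩
      invFun := fun x => ⟨Subgroup.inclusion e.le x.1, x.2⟩
      left_inv := fun x => rfl
      right_inv := fun x => rfl }
  rw [this]
  exact hπ.odd_ker

/-- The retraction. -/
def π : h.C →* DihedralGroup 4 := h.exists_retract'.choose

theorem π_ι (d : DihedralGroup 4) : h.π ⟨h.ι d, h.ι_mem_C d⟩ = d := h.exists_retract'.choose_spec.1 d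

/-- The odd core of the centralizer. -/
def O : Subgroup G := h.π.ker.map h.C.subtype

theorem O_le : h.O ≤ h.C := Subgroup.map_subtype_le _

theorem card_O : Nat.card h.O = Nat.card h.π.ker :=
  (Nat.card_congr (h.π.ker.equivMapOfInjective _ h.C.subtype_injective).toEquiv).symm

theorem odd_O : Odd (Nat.card h.O) := h.card_O ▸ h.exists_retract'.choose_spec.2

theorem mem_O {g : G} : g ∈ h.O ↔ ∃ hg : g ∈ h.C, h.π ⟨g, hg⟩ = 1 := by
  refine ⟨?_, fun ⟨hg, h1⟩ => ⟨⟨g, hg⟩, h1, rfl⟩⟩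
  rintro ⟨c, hc, rfl⟩
  exact ⟨c.2, hc⟩

theorem not_two_dvd_of_mem {g : G} (hg : g ∈ h.O) : ¬ 2 ∣ orderOf g := fun h2 =>
  h.odd_O.not_two_dvd_nat (h2.trans (Subgroup.orderOf_mk g hg ▸ orderOf_dvd_natCard _))

theorem mem_O_of_odd {g : G} (hg : g ∈ h.C) (ho : ¬ 2 ∣ orderOf g) : g ∈ h.O := by
  refine h.mem_O.2 ⟨hg, ?_⟩
  have h1 : orderOf (h.π ⟨g, hg⟩) ∣ orderOf g := by
    simpa using orderOf_map_dvd h.π (⟨g, hg⟩ : h.C)
  have h2 : orderOf (h.π ⟨g, hg⟩) ∣ 2 ^ 3 := by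
    have := orderOf_dvd_natCard (h.π ⟨g, hg⟩)
    rwa [DihedralGroup.nat_card] at this
  have hc : Nat.Coprime (orderOf g) (2 ^ 3) := (Nat.prime_two.coprime_iff_not_dvd.2 ho).symm.pow_right 3
  exact orderOf_eq_one_iff.1 (Nat.eq_one_of_dvd_coprimes hc h1 h2)

theorem conj_mem_O {g x : G} (hg : g ∈ h.C) (hx : x ∈ h.O) : g * x * g⁻¹ ∈ h.O :=
  h.mem_O_of_odd (mul_mem (mul_mem hg (h.O_le hx)) (inv_mem hg))
    (by rw [orderOf_conj_eq]; exact h.not_two_dvd_of_mem hx)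

theorem decomp {g : G} (hg : g ∈ h.C) :
    g * (h.ι (h.π ⟨g, hg⟩))⁻¹ ∈ h.O := by
  refine h.mem_O.2 ⟨mul_mem hg (inv_mem (h.ι_mem_C _)), ?_⟩
  show h.π (⟨g, hg⟩ * (⟨_, h.ι_mem_C _⟩ : h.C)⁻¹) = 1
  rw [map_mul, map_inv, h.π_ι, mul_inv_cancel]

theorem eq_one_of_ι_mem {d : DihedralGroup 4} (hd : h.ι d ∈ h.O) : d = 1 := by
  obtain ⟨hg, h1⟩ := h.mem_O.1 hd
  rwa [h.π_ι] at h1

/-- The element of order four has no fixed point on `O`. -/
theorem fpf {x : G} (hx : x ∈ h.O) (hc : Commute x h.w) : x = 1 := by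
  obtain ⟨k, hk⟩ := Subgroup.mem_zpowers_iff.1 (h.hcw x hc)
  have h4 : orderOf x ∣ 4 := by
    rw [← hk]
    exact (orderOf_dvd_of_mem_zpowers ⟨k, rfl⟩).trans (h.orderOf_w (G := G)).dvd
  have hcop : Nat.Coprime (orderOf x) (2 ^ 2) :=
    (Nat.prime_two.coprime_iff_not_dvd.2 (h.not_two_dvd_of_mem hx)).symm.pow_right 2
  exact orderOf_eq_one_iff.1 (Nat.eq_one_of_dvd_coprimes hcop dvd_rfl h4)

/-- Conjugation by `w` on `O`. -/
def conjW : h.O →* h.O where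
  toFun x := ⟨h.w * x * h.w⁻¹, h.conj_mem_O h.w_mem_C x.2⟩
  map_one' := Subtype.ext (by simp)
  map_mul' x y := Subtype.ext (by simp [mul_assoc])

theorem conjW_fpf : MonoidHom.FixedPointFree h.conjW := fun x hx =>
  Subtype.ext (h.fpf x.2 ((mul_inv_eq_iff_eq_mul.1 (congrArg Subtype.val hx)).symm))

theorem conjW_involutive : Function.Involutive h.conjW := fun x => Subtype.ext (by
  show h.w * (h.w * (x : G) * h.w⁻¹) * h.w⁻¹ = x
  calc _ = h.w * h.w * (x : G) * (h.w * h.w)⁻¹ := by group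
    _ = (x : G) := by rw [h.w_mul_w, mul_inv_eq_iff_eq_mul]; exact ((h.mem_C.1 (h.O_le x.2)).symm).eq)

theorem inverts {x : G} (hx : x ∈ h.O) : h.w * x * h.w⁻¹ = x⁻¹ :=
  congrArg Subtype.val (congrFun (MonoidHom.FixedPointFree.coe_eq_inv_of_involutive h.conjW_fpf
    h.conjW_involutive) ⟨x, hx⟩)

theorem O_comm {x y : G} (hx : x ∈ h.O) (hy : y ∈ h.O) : Commute x y :=
  congrArg Subtype.val (MonoidHom.FixedPointFree.commute_all_of_involutive h.conjW_fpf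
    h.conjW_involutive ⟨x, hx⟩ ⟨y, hy⟩).eq

/-- The fixed points of `s` on `O`. -/
def O1 : Subgroup G := h.O ⊓ Subgroup.centralizer ({h.s} : Set G)
/-- The fixed points of `u` on `O`. -/
def O2 : Subgroup G := h.O ⊓ Subgroup.centralizer ({h.u} : Set G)

theorem mem_O1 {x : G} : x ∈ h.O1 ↔ x ∈ h.O ∧ Commute x h.s := by
  rw [O1, Subgroup.mem_inf, Subgroup.mem_centralizer_singleton_iff]; rfl

theorem mem_O2 {x : G} : x ∈ h.O2 ↔ x ∈ h.O ∧ Commute x h.u := by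
  rw [O2, Subgroup.mem_inf, Subgroup.mem_centralizer_singleton_iff]; rfl

theorem s_conj_s {x : G} : h.s * (h.s * x * h.s⁻¹) * h.s⁻¹ = x := by
  have : h.s * h.s = 1 := by rw [← pow_two, ← h.orderOf_s, pow_orderOf_eq_one]
  calc _ = h.s * h.s * x * (h.s * h.s)⁻¹ := by group
    _ = x := by rw [this]; group

theorem u_conj {x : G} (hx : x ∈ h.O) : h.u * x * h.u⁻¹ = (h.s * x * h.s⁻¹)⁻¹ := by
  rw [h.u_eq]
  calc _ = h.s * (h.w * x * h.w⁻¹) * h.s⁻¹ := by group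
    _ = _ := by rw [h.inverts hx]; group

theorem s_inverts {x : G} (hx : x ∈ h.O2) : h.s * x * h.s⁻¹ = x⁻¹ := by
  obtain ⟨hO, hc⟩ := h.mem_O2.1 hx
  have h1 := h.u_conj hO
  rw [← hc.eq, mul_inv_cancel_right] at h1
  exact inv_eq_iff_eq_inv.1 h1.symm

theorem u_inverts {x : G} (hx : x ∈ h.O1) : h.u * x * h.u⁻¹ = x⁻¹ := by
  obtain ⟨hO, hc⟩ := h.mem_O1.1 hx
  rw [h.u_conj hO, ← hc.eq, mul_inv_cancel_right]

theorem O1_inf_O2 {x : G} (h1 : x ∈ h.O1) (h2 : x ∈ h.O2) : x = 1 := by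
  have e := h.s_inverts h2
  rw [← (h.mem_O1.1 h1).2.eq, mul_inv_cancel_right] at e
  have h2' : orderOf x ∣ 2 := orderOf_dvd_of_pow_eq_one (by
    rw [pow_two]; nth_rewrite 1 [e]; exact inv_mul_cancel x)
  exact orderOf_eq_one_iff.1 (Nat.eq_one_of_dvd_coprimes
    (Nat.prime_two.coprime_iff_not_dvd.2 (h.not_two_dvd_of_mem (h.mem_O1.1 h1).1)).symm dvd_rfl h2')

theorem exists_mul {x : G} (hx : x ∈ h.O) : ∃ a ∈ h.O1, ∃ b ∈ h.O2, a * b = x := by
  obtain ⟨y, hy⟩ := (powCoprime (G := h.O) (n := 2) (Nat.coprime_two_right.2 h.odd_O)).surjective ⟨x, hx⟩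
  have hyx : (y : G) ^ 2 = x := congrArg Subtype.val hy
  set v := h.s * (y : G) * h.s⁻¹ with hv
  have hvO : v ∈ h.O := h.conj_mem_O h.s_mem_C y.2
  have hc : Commute (y : G) v := h.O_comm y.2 hvO
  refine ⟨y * v, h.mem_O1.2 ⟨mul_mem y.2 hvO, (mul_inv_eq_iff_eq_mul.1 ?_).symm⟩,
    y * v⁻¹, h.mem_O2.2 ⟨mul_mem y.2 (inv_mem hvO), (mul_inv_eq_iff_eq_mul.1 ?_).symm⟩, ?_⟩
  · rw [show h.s * ((y : G) * v) * h.s⁻¹ = (h.s * (y : G) * h.s⁻¹) * (h.s * v * h.s⁻¹) by group, ← hv,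
      hv, h.s_conj_s, ← hv, hc.eq]
  · rw [h.u_conj (mul_mem y.2 (inv_mem hvO)),
      show h.s * ((y : G) * v⁻¹) * h.s⁻¹ = (h.s * (y : G) * h.s⁻¹) * (h.s * v * h.s⁻¹)⁻¹ by group, ← hv,
      hv, h.s_conj_s, ← hv, mul_inv_rev, inv_inv]
  · rw [← hyx, pow_two]
    calc (y : G) * v * ((y : G) * v⁻¹) = (y : G) * (v * (y : G)) * v⁻¹ := by group
      _ = _ := by rw [← hc.eq]; group

theorem card_O_eq : Nat.card h.O = Nat.card h.O1 * Nat.card h.O2 := by
  rw [← Nat.card_prod]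
  symm
  refine Nat.card_congr (Equiv.ofBijective
    (fun p : h.O1 × h.O2 => (⟨(p.1 : G) * p.2, mul_mem (h.mem_O1.1 p.1.2).1 (h.mem_O2.1 p.2.2).1⟩ : h.O)) ⟨?_, ?_⟩)
  · rintro ⟨a, b⟩ ⟨a', b'⟩ e
    have e' : (a : G) * b = a' * b' := congrArg Subtype.val e
    have h1 : (a' : G)⁻¹ * a = b' * (b : G)⁻¹ := by
      rw [inv_mul_eq_iff_eq_mul, ← mul_assoc, ← e', mul_inv_cancel_right]
    have h0 := h.O1_inf_O2 (mul_mem (inv_mem a'.2) a.2) (h1 ▸ mul_mem b'.2 (inv_mem b.2))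
    have ha : (a : G) = a' := (inv_mul_eq_one.1 h0).symm
    refine Prod.ext (Subtype.ext ha) (Subtype.ext ?_)
    rw [ha] at e'
    exact mul_left_cancel e'
  · rintro ⟨x, hx⟩
    obtain ⟨a, ha, b, hb, e⟩ := h.exists_mul hx
    exact ⟨(⟨a, ha⟩, ⟨b, hb⟩), Subtype.ext e⟩

theorem odd_O1 : Odd (Nat.card h.O1) := (Nat.odd_mul.1 (h.card_O_eq ▸ h.odd_O)).1
theorem odd_O2 : Odd (Nat.card h.O2) := (Nat.odd_mul.1 (h.card_O_eq ▸ h.odd_O)).2

theorem card_C : Nat.card h.C = 8 * Nat.card h.O := by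
  have h1 := h.π.ker.card_mul_index
  rw [Subgroup.index_ker, MonoidHom.range_eq_top.2 (fun d => ⟨_, h.π_ι d⟩), Subgroup.card_top,
    DihedralGroup.nat_card] at h1
  rw [h.card_O, ← h1]; ring

/-- The elements of `C` commuting with a given element of the Sylow subgroup. -/
theorem decomp_commute {g : G} (hg : g ∈ h.C) {e : DihedralGroup 4} (hc : Commute g (h.ι e)) :
    ∃ d, d * e = e * d ∧ g * (h.ι d)⁻¹ ∈ h.O ∧ Commute (g * (h.ι d)⁻¹) (h.ι e) := by
  refine ⟨h.π ⟨g, hg⟩, ?_, h.decomp hg, ?_⟩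
  · have e1 : (⟨g, hg⟩ : h.C) * ⟨h.ι e, h.ι_mem_C e⟩ = ⟨h.ι e, h.ι_mem_C e⟩ * ⟨g, hg⟩ := Subtype.ext hc.eq
    have := congrArg h.π e1
    rwa [map_mul, map_mul, h.π_ι] at this
  · refine hc.mul_left (h.commute_ι ?_).inv_left
    have e1 : (⟨g, hg⟩ : h.C) * ⟨h.ι e, h.ι_mem_C e⟩ = ⟨h.ι e, h.ι_mem_C e⟩ * ⟨g, hg⟩ := Subtype.ext hc.eq
    have := congrArg h.π e1
    rwa [map_mul, map_mul, h.π_ι] at this

/-- The four-group through `s`, as a set of indices. -/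
def isV1 : DihedralGroup 4 → Bool
  | r i => i == 0 || i == 2
  | sr i => i == 0 || i == 2

theorem commute_s_iff : ∀ d : DihedralGroup 4, d * sr 0 = sr 0 * d ↔ isV1 d = true := by decide

theorem mem_centralizer_pair {a b g : G} :
    g ∈ Subgroup.centralizer ({a, b} : Set G) ↔ Commute g a ∧ Commute g b := by
  rw [Subgroup.mem_centralizer_iff]
  exact ⟨fun hc => ⟨(hc a (Or.inl rfl)).symm, (hc b (Or.inr rfl)).symm⟩, fun hc x hx => by
    rcases hx with rfl | rfl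
    · exact hc.1.eq.symm
    · exact hc.2.eq.symm⟩

/-- `C(⟨z,s⟩) = O₁ × ⟨z,s⟩`. -/
theorem card_centralizer_z_s : Nat.card (Subgroup.centralizer ({h.z, h.s} : Set G)) = 4 * Nat.card h.O1 := by
  have h4 : Nat.card {d : DihedralGroup 4 // isV1 d = true} = 4 := by
    rw [Nat.card_eq_fintype_card, Fintype.card_subtype]; rfl
  rw [← h4, mul_comm, ← Nat.card_prod]
  symm
  refine Nat.card_congr (Equiv.ofBijective
    (fun p : h.O1 × {d : DihedralGroup 4 // isV1 d = true} =>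
      (⟨(p.1 : G) * h.ι p.2.1, ?_⟩ : Subgroup.centralizer ({h.z, h.s} : Set G))) ⟨?_, ?_⟩)
  · obtain ⟨hO, hs⟩ := h.mem_O1.1 p.1.2
    exact mem_centralizer_pair.2 ⟨(h.mem_C.1 (h.O_le hO)).mul_left (h.mem_C.1 (h.ι_mem_C _)),
      hs.mul_left (h.commute_ι ((commute_s_iff _).2 p.2.2))⟩
  · rintro ⟨a, d⟩ ⟨a', d'⟩ e
    have e' : (a : G) * h.ι d.1 = a' * h.ι d'.1 := congrArg Subtype.val e
    have h1 : (a' : G)⁻¹ * a = h.ι (d'.1 * d.1⁻¹) := by
      rw [map_mul, map_inv, inv_mul_eq_iff_eq_mul, ← mul_assoc, ← e', mul_inv_cancel_right]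
    have h0 := h.eq_one_of_ι_mem (h1 ▸ mul_mem (inv_mem (h.mem_O1.1 a'.2).1) (h.mem_O1.1 a.2).1)
    rw [mul_inv_eq_one] at h0
    rw [h0, mul_inv_cancel, map_one, inv_mul_eq_one] at h1
    exact Prod.ext (Subtype.ext h1.symm) (Subtype.ext h0.symm)
  · rintro ⟨g, hg⟩
    obtain ⟨hz, hs⟩ := mem_centralizer_pair.1 hg
    obtain ⟨d, hd, hO, hc⟩ := h.decomp_commute (h.mem_C.2 hz) (e := sr 0) hs
    exact ⟨(⟨_, h.mem_O1.2 ⟨hO, hc⟩⟩, ⟨d, (commute_s_iff d).1 hd⟩), Subtype.ext (inv_mul_cancel_right g _)⟩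

/-- The automorphism exchanging the two classes of non-central involutions. -/
def shiftHom : DihedralGroup 4 →* DihedralGroup 4 where
  toFun
    | r i => r i
    | sr i => sr (i + 1)
  map_one' := rfl
  map_mul' := by decide

theorem shiftHom_bijective : Function.Bijective shiftHom := by decide

omit [Finite G] in
/-- The symmetric setting. -/
def swap : Hyp G where
  P := h.P
  ι := h.ι.comp shiftHom
  hd :=
    { inj := h.hd.inj.comp shiftHom_bijective.1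
      range := by
        rw [MonoidHom.range_comp, MonoidHom.range_eq_top.2 shiftHom_bijective.2, ← MonoidHom.range_eq_map, h.hd.range]
      hm := h.hd.hm
      hq := h.hd.hq }
  hcw := h.hcw
  hone := h.hone

theorem swap_O : h.swap.O = h.O := by
  ext g
  exact ⟨fun hg => h.mem_O_of_odd (h.swap.O_le hg) (h.swap.not_two_dvd_of_mem hg),
    fun hg => h.swap.mem_O_of_odd (h.O_le hg) (h.not_two_dvd_of_mem hg)⟩

theorem swap_O1 : h.swap.O1 = h.O2 := by
  rw [O1, O2, h.swap_O]; rfl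

theorem swap_O2 : h.swap.O2 = h.O1 := by
  ext x
  rw [h.swap.mem_O2, h.swap_O, h.mem_O1]
  refine and_congr_right fun hx => ?_
  have e : h.swap.u = h.s * h.z := by
    show h.ι (sr (1 + 1)) = h.ι (sr 0) * h.ι (r 2)
    rw [← map_mul]; rfl
  rw [e]
  have hz : Commute x h.z := h.mem_C.1 (h.O_le hx)
  refine ⟨fun hc => ?_, fun hc => hc.mul_right hz⟩
  have := hc.mul_right hz.inv_right
  rwa [mul_inv_cancel_right] at this

theorem card_centralizer_z_u : Nat.card (Subgroup.centralizer ({h.z, h.u} : Set G)) = 4 * Nat.card h.O2 := by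
  rw [← h.swap_O1, ← h.swap.card_centralizer_z_s]
  rfl

end Hyp

end CfsgLib.SmallCent
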