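import Cfsg.Agent.Lib.Blocks.DihBlock.OrderFormula
import Cfsg.Agent.Lib.Blocks.GaloisInv
import Cfsg.Agent.Lib.Blocks.Functional
import Cfsg.Agent.Lib.SmallCent.Setup
import Cfsg.Agent.Lib.SmallCent.Numerics

/-!
# The principal block rows at the element of order four and the order equation
-/

set_option autoImplicit false

noncomputable section

namespace CfsgLib.SmallCent

open Cfsg CfsgLib.Invol CfsgLib.Invol.DihSylow DihedralGroup CfsgLib.Blocks
open scoped ComplexConjugate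

variable {G : Type*} [Group G] [Finite G]

/-- Degree congruence from a real integral value at an element of order four. -/
theorem four_dvd_degree_sub {g : G} (hg : orderOf g = 4) (χ : IrrCharacter G) {e f : ℤ}
    (he : (χ : G → ℂ) g = e) (hf : (χ : G → ℂ) (g ^ 2) = f) :
    (4 : ℤ) ∣ (charDegree (χ : G → ℂ) : ℤ) - f := by
  classical
  haveI := Fintype.ofFinite G
  obtain ⟨n, -, hn⟩ := exists_multiplicities (CfsgLib.Char.isCharacter_of_isIrr χ.2) g
  have h1 := hn 1 (by rw [hg]; simp)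
  have hexp : Complex.exp (2 * Real.pi * Complex.I / 4) = Complex.I := by
    rw [show 2 * (Real.pi : ℂ) * Complex.I / 4 = ((Real.pi / 2 : ℝ) : ℂ) * Complex.I by push_cast; ring,
      Complex.exp_mul_I, ← Complex.ofReal_cos, ← Complex.ofReal_sin, Real.cos_pi_div_two, Real.sin_pi_div_two]
    simp
  have h3 : (χ : G → ℂ) (g ^ 3) = e := by
    rw [show g ^ 3 = g⁻¹ from eq_inv_of_mul_eq_one_left (by rw [← pow_succ, show 3 + 1 = orderOf g by rw [hg], pow_orderOf_eq_one]),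
      CfsgLib.Char.char_inv (CfsgLib.Char.isCharacter_of_isIrr χ.2), he, map_intCast]
  rw [hg] at h1
  simp only [Finset.sum_range_succ, Finset.sum_range_zero, zero_add, pow_zero, pow_one, one_mul,
    Nat.cast_ofNat, hexp, Complex.inv_I, he, hf, h3, ← CfsgLib.CharBlocks.coe_charDegree_irr χ] at h1
  refine ⟨(n 1 : ℤ), ?_⟩
  apply Int.cast_injective (α := ℂ)
  push_cast
  linear_combination (-1 : ℂ) * h1 + (-(f : ℂ) + (e : ℂ) * Complex.I) * Complex.I_mul_I

namespace Hyp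

variable (h : Hyp G)

/-- The rows. -/
structure RowData (h : Hyp G) where
  a : IrrCharacter G
  b : IrrCharacter G
  c : IrrCharacter G
  δ : ℤ
  t : ℤ
  t' : ℤ
  hδ : δ = 1 ∨ δ = -1
  ht : t = 1 ∨ t = -1
  ht' : t' = 1 ∨ t' = -1
  a_w : (a : G → ℂ) h.w = δ
  a_z : (a : G → ℂ) h.z = δ
  b_w : (b : G → ℂ) h.w = -(t : ℂ)
  b_z : (b : G → ℂ) h.z = t
  c_w : (c : G → ℂ) h.w = -(t' : ℂ)
  c_z : (c : G → ℂ) h.z = t'
  a_ne : a ≠ CfsgLib.Char.irrOne
  b_ne : b ≠ CfsgLib.Char.irrOne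
  c_ne : c ≠ CfsgLib.Char.irrOne
  vanish : ∀ χ : IrrCharacter G, (χ : G → ℂ) h.w ≠ 0 →
    χ = CfsgLib.Char.irrOne ∨ χ = a ∨ χ = b ∨ χ = c
  v_mod : (8 : ℤ) ∣ δ * charDegree (a : G → ℂ) - 1
  v_ne : δ * (charDegree (a : G → ℂ) : ℤ) ≠ 1
  order_eq : (Nat.card G : ℤ) * (δ * charDegree (a : G → ℂ) - 1) ^ 2 =
    64 * Nat.card h.O * (Nat.card h.O1 + Nat.card h.O2 : ℤ) ^ 2 *
      ((δ * charDegree (a : G → ℂ)) * (δ * charDegree (a : G → ℂ) + 1))

theorem card_P : Nat.card (h.P : Subgroup G) = 8 := by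
  rw [← h.hd.range, Nat.card_congr (MonoidHom.ofInjective h.hd.inj).toEquiv.symm, DihedralGroup.nat_card]

theorem exists_card_eq (h : Hyp G) : ∃ g₀ : ℕ, Odd g₀ ∧ Nat.card G = 8 * g₀ := by
  haveI : Fact (Nat.Prime 2) := ⟨Nat.prime_two⟩
  exact ⟨(h.P : Subgroup G).index, Nat.not_even_iff_odd.mp fun he => h.P.not_dvd_index (even_iff_two_dvd.mp he),
    by rw [← h.card_P, Subgroup.card_mul_index]⟩

theorem card_centralizer_z_u' :
    Nat.card (Subgroup.centralizer ({h.z, h.ι (sr (-1))} : Set G)) = 4 * Nat.card h.O2 := by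
  rw [← h.card_centralizer_z_u]
  have e : h.ι (sr (-1)) = h.u * h.z := by rw [u, z, ← map_mul]; rfl
  congr 2
  rw [e]
  ext g
  rw [mem_centralizer_pair, mem_centralizer_pair]
  refine ⟨fun hc => ⟨hc.1, ?_⟩, fun hc => ⟨hc.1, hc.2.mul_right hc.1⟩⟩
  have := hc.2.mul_right hc.1.inv_right
  rwa [mul_inv_cancel_right] at this

theorem exists_rowData : Nonempty (RowData h) := by
  classical
  haveI := Fintype.ofFinite G
  obtain ⟨M, hM⟩ := CfsgLib.Blocks.exists_isPModular Nat.prime_two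
  haveI := hM.2.1
  have hψ : (ZMod.stdAddChar (N := 4)).IsPrimitive := ZMod.isPrimitive_stdAddChar _
  have hψ2 : (ZMod.stdAddChar (N := 4)) (2 : ZMod 4) = -1 := by
    have := DihBlock.psi_half (m := 4) (q := 1) rfl one_pos hψ
    simpa [two_eq] using this
  obtain ⟨a, b, c, f, s, t₂, t₃, hs, ht₂, ht₃, ha1, hb1, hc1, hab, hac, hbc, -, -, hB, hrows, -⟩ :=
    DihBlock.exists_rows hM h.hd hψ
  have r1 := hrows 1 (by decide)
  have r2 := hrows 2 (by decide)
  have haw : (a : G → ℂ) h.w = ((-s : ℤ) : ℂ) := by rw [w, r1.1]; push_cast; rfl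
  have haz : (a : G → ℂ) h.z = ((-s : ℤ) : ℂ) := by rw [z, r2.1]; push_cast; rfl
  have hbw : (b : G → ℂ) h.w = -(t₂ : ℂ) := by rw [w, r1.2.1, two_eq, mul_one, hψ2]; ring
  have hbz : (b : G → ℂ) h.z = t₂ := by
    rw [z, r2.2.1, two_eq, show (2 : ZMod 4) * 2 = 0 by decide, AddChar.map_zero_eq_one, mul_one]
  have hcw : (c : G → ℂ) h.w = -(t₃ : ℂ) := by rw [w, r1.2.2.1, two_eq, mul_one, hψ2]; ring
  have hcz : (c : G → ℂ) h.z = t₃ := by
    rw [z, r2.2.2.1, two_eq, show (2 : ZMod 4) * 2 = 0 by decide, AddChar.map_zero_eq_one, mul_one]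
  have hδ : -s = 1 ∨ -s = -1 := by omega
  have hw4 : orderOf h.w = 4 := h.orderOf_w
  have hsq : h.w ^ 2 = h.z := by rw [pow_two, h.w_mul_w]
  have hmod4 := four_dvd_degree_sub hw4 a haw (by rw [hsq]; exact haz)
  obtain ⟨hne, hord⟩ := DihBlock.order_formula hM h.hd hψ
    (fun t ht => by rw [h.zz_eq]; exact h.hone _ _ h.orderOf_z ht) a
    (by rw [hB]; exact Or.inr (Or.inl rfl)) ha1 (-s) hδ
    (fun l hl => by rw [(hrows l hl).1]; push_cast; rfl)
  rw [h.zz_eq, h.CJ_eq, h.card_C, show h.ι (sr 0) = h.s from rfl, h.card_centralizer_z_s,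
    h.card_centralizer_z_u'] at hord
  set d : ℕ := charDegree (a : G → ℂ) with hd'
  set v : ℤ := -s * d with hv
  have hv1 : v ≠ 1 := by
    rw [hv]; rcases hs with rfl | rfl <;> omega
  have heq : (Nat.card G : ℤ) * (v - 1) ^ 2 =
      64 * Nat.card h.O * (Nat.card h.O1 + Nat.card h.O2 : ℤ) ^ 2 * (v * (v + 1)) := by
    have ho1 : (0 : ℚ) < Nat.card h.O1 := Nat.cast_pos.2 Nat.card_pos
    have ho2 : (0 : ℚ) < Nat.card h.O2 := Nat.cast_pos.2 Nat.card_pos
    rw [← Int.cast_inj (α := ℚ)]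
    push_cast [h.card_O_eq, hv] at hord ⊢
    field_simp at hord ⊢
    rcases hs with rfl | rfl <;> push_cast at hord ⊢ <;> linear_combination hord / 16
  obtain ⟨g₀, hg₀, hG⟩ := h.exists_card_eq
  obtain ⟨j, hj⟩ : (4 : ℤ) ∣ v - 1 := by
    rw [hv]
    rcases hs with rfl | rfl
    · obtain ⟨k, hk⟩ := hmod4; exact ⟨-k, by omega⟩
    · obtain ⟨k, hk⟩ := hmod4; exact ⟨k, by omega⟩
  obtain ⟨i1, hi1⟩ := h.odd_O1
  obtain ⟨i2, hi2⟩ := h.odd_O2
  have hev : Even j := quarter_even (g := (g₀ : ℤ)) (o := (Nat.card h.O : ℤ)) (S := (i1 + i2 + 1 : ℤ)) (by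
    rw [hG, show v = 4 * j + 1 by omega, hi1, hi2] at heq
    push_cast at heq
    linear_combination heq) ((Int.odd_coe_nat _).2 hg₀)
  have hw0 : ∀ χ : IrrCharacter G, (χ : G → ℂ) h.w ≠ 0 →
      χ = CfsgLib.Char.irrOne ∨ χ = a ∨ χ = b ∨ χ = c := by
    intro χ hχ
    by_contra hno
    push Not at hno
    have h2 := CfsgLib.Char.second_orthogonality h.w h.w
    rw [if_pos (IsConj.refl _)] at h2
    have hcard : Nat.card (Subgroup.centralizer ({h.w} : Set G)) = 4 := by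
      rw [← hw4, ← Nat.card_zpowers]
      congr 2
      refine le_antisymm (fun g hg => h.hcw g (Subgroup.mem_centralizer_singleton_iff.1 hg))
        (Subgroup.zpowers_le.2 (Subgroup.mem_centralizer_singleton_iff.2 rfl))
    rw [hcard] at h2
    let S : Finset (IrrCharacter G) := {CfsgLib.Char.irrOne, a, b, c}
    have hS : ∀ φ ∈ S, (φ : G → ℂ) h.w * conj ((φ : G → ℂ) h.w) = 1 := by
      intro φ hφ
      simp only [S, Finset.mem_insert, Finset.mem_singleton] at hφ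
      rcases hφ with rfl | rfl | rfl | rfl
      · rw [CfsgLib.Char.irrOne_apply, map_one, mul_one]
      · rw [haw, map_intCast]; rcases hs with rfl | rfl <;> norm_num
      · rw [hbw, map_neg, map_intCast]; rcases ht₂ with rfl | rfl <;> norm_num
      · rw [hcw, map_neg, map_intCast]; rcases ht₃ with rfl | rfl <;> norm_num
    have hSc : S.card = 4 := by
      simp [S, ha1.symm, hb1.symm, hc1.symm, hab, hac, hbc]
    have hsum : ∑ φ ∈ insert χ S, (φ : G → ℂ) h.w * conj ((φ : G → ℂ) h.w) =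
        (χ : G → ℂ) h.w * conj ((χ : G → ℂ) h.w) + 4 := by
      rw [Finset.sum_insert (by simp [S, hno.1, hno.2.1, hno.2.2.1, hno.2.2.2]), Finset.sum_congr rfl hS,
        Finset.sum_const, hSc]
      norm_num
    have hle : (∑ φ ∈ insert χ S, Complex.normSq ((φ : G → ℂ) h.w)) ≤
        ∑ φ : IrrCharacter G, Complex.normSq ((φ : G → ℂ) h.w) :=
      Finset.sum_le_sum_of_subset_of_nonneg (Finset.subset_univ _) (fun _ _ _ => Complex.normSq_nonneg _)
    have e1 : ((∑ φ ∈ insert χ S, Complex.normSq ((φ : G → ℂ) h.w) : ℝ) : ℂ) =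
        ((Complex.normSq ((χ : G → ℂ) h.w) + 4 : ℝ) : ℂ) := by
      push_cast
      simp only [← Complex.mul_conj]
      exact hsum
    have e2 : ((∑ φ : IrrCharacter G, Complex.normSq ((φ : G → ℂ) h.w) : ℝ) : ℂ) = ((4 : ℝ) : ℂ) := by
      push_cast
      simp only [← Complex.mul_conj]
      exact_mod_cast h2
    rw [Complex.ofReal_inj.1 e1, Complex.ofReal_inj.1 e2] at hle
    exact absurd (Complex.normSq_pos.2 hχ) (by linarith)
  exact ⟨⟨a, b, c, -s, t₂, t₃, hδ, ht₂, ht₃, haw, haz, hbw, hbz, hcw, hcz, ha1, hb1, hc1, hw0,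
    by obtain ⟨k, rfl⟩ := hev; exact ⟨k, by rw [← hd', ← hv]; omega⟩,
    by rw [← hd', ← hv]; exact hv1, by rw [← hd', ← hv]; exact heq⟩⟩

end Hyp

end CfsgLib.SmallCent
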