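import Cfsg.Agent.Lib.SmallCent.Setup

/-!
# Odd parts of involution centralizers and fusion in the four-group
-/

set_option autoImplicit false

noncomputable section

namespace CfsgLib.SmallCent

open DihedralGroup CfsgLib.Invol

variable {G : Type*} [Group G] [Finite G]

theorem not_two_dvd_orderOf {K : Subgroup G} (hK : Odd (Nat.card K)) {x : G} (hx : x ∈ K) :
    ¬ 2 ∣ orderOf x :=
  fun h2 => hK.not_two_dvd_nat (h2.trans (Subgroup.orderOf_mk x hx ▸ orderOf_dvd_natCard _))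

theorem eq_one_of_commute_inverted {x t : G} (hx : ¬ 2 ∣ orderOf x) (hc : Commute x t)
    (hi : t * x * t⁻¹ = x⁻¹) : x = 1 := by
  rw [← hc.eq, mul_inv_cancel_right] at hi
  have h2 : orderOf x ∣ 2 := orderOf_dvd_of_pow_eq_one (by
    rw [pow_two]; nth_rewrite 1 [hi]; exact inv_mul_cancel x)
  exact orderOf_eq_one_iff.1 (Nat.eq_one_of_dvd_coprimes
    (Nat.prime_two.coprime_iff_not_dvd.2 hx).symm dvd_rfl h2)

theorem conj_r_one : ∀ d : DihedralGroup 4, d * d = 1 → d ≠ 1 → d ≠ r 2 → r 1 * d * (r 1)⁻¹ = d * r 2 := by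
  decide

namespace Hyp

variable (h : Hyp G)

/-- An element carrying `z` to a given involution. -/
def toInv (t : G) : G := by
  classical exact if ht : orderOf t = 2 then (isConj_iff.1 (h.hone h.z t h.orderOf_z ht)).choose else 1

theorem toInv_spec {t : G} (ht : orderOf t = 2) : h.toInv t * h.z * (h.toInv t)⁻¹ = t := by
  rw [toInv, dif_pos ht]
  exact (isConj_iff.1 (h.hone h.z t h.orderOf_z ht)).choose_spec

/-- The odd part of the centralizer of an involution. -/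
def oddC (t : G) : Subgroup G := h.O.map (MulAut.conj (h.toInv t)).toMonoidHom

theorem mem_oddC {t x : G} (ht : orderOf t = 2) : x ∈ h.oddC t ↔ Commute x t ∧ ¬ 2 ∣ orderOf x := by
  have e := h.toInv_spec ht
  set g := h.toInv t with hg
  constructor
  · rintro ⟨y, hy, rfl⟩
    show Commute (g * y * g⁻¹) t ∧ _
    refine ⟨?_, ?_⟩
    · rw [← e]; exact (h.mem_C.1 (h.O_le hy)).conj g
    · show ¬ 2 ∣ orderOf (g * y * g⁻¹)
      rw [orderOf_conj_eq]; exact h.not_two_dvd_of_mem hy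
  · rintro ⟨hc, ho⟩
    refine ⟨g⁻¹ * x * g, h.mem_O_of_odd (h.mem_C.2 ?_) ?_, by show g * (g⁻¹ * x * g) * g⁻¹ = x; group⟩
    · have := hc.conj g⁻¹
      rw [← e] at this
      simpa [mul_assoc] using this
    · have : orderOf (g⁻¹ * x * g) = orderOf x := by simpa using orderOf_conj_eq g⁻¹ x
      rwa [this]

theorem card_oddC (t : G) : Nat.card (h.oddC t) = Nat.card h.O :=
  (Nat.card_congr (h.O.equivMapOfInjective _ (MulAut.conj (h.toInv t)).injective).toEquiv).symm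

theorem odd_card_oddC (t : G) : Odd (Nat.card (h.oddC t)) := h.card_oddC t ▸ h.odd_O

theorem oddC_z : h.oddC h.z = h.O := by
  ext x
  rw [h.mem_oddC h.orderOf_z]
  exact ⟨fun hx => h.mem_O_of_odd (h.mem_C.2 hx.1) hx.2,
    fun hx => ⟨h.mem_C.1 (h.O_le hx), h.not_two_dvd_of_mem hx⟩⟩

theorem conj_mem_oddC {t x g : G} (ht : orderOf t = 2) (hx : x ∈ h.oddC t) :
    g * x * g⁻¹ ∈ h.oddC (g * t * g⁻¹) := by
  obtain ⟨hc, ho⟩ := (h.mem_oddC ht).1 hx
  exact (h.mem_oddC ((orderOf_conj_eq g t).trans ht)).2 ⟨hc.conj g, by rwa [orderOf_conj_eq]⟩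

theorem oddC_comm {t x y : G} (hx : x ∈ h.oddC t) (hy : y ∈ h.oddC t) : Commute x y := by
  obtain ⟨a, ha, rfl⟩ := hx
  obtain ⟨b, hb, rfl⟩ := hy
  exact (h.O_comm ha hb).conj _

/-- An involution of `C` other than `z` is moved to its product with `z`, inverting `O`. -/
theorem exists_swap {x : G} (hx : x ∈ h.C) (hx2 : orderOf x = 2) (hne : x ≠ h.z) :
    ∃ c ∈ h.C, c * x * c⁻¹ = x * h.z ∧ ∀ y ∈ h.O, c * y * c⁻¹ = y⁻¹ := by
  have hxx : x * x = 1 := by rw [← pow_two, ← hx2, pow_orderOf_eq_one]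
  set d := h.π ⟨x, hx⟩ with hd
  have hdd : d * d = 1 := by
    rw [hd, ← map_mul, ← map_one h.π]; exact congrArg h.π (Subtype.ext hxx)
  have hy := h.decomp hx
  rw [← hd] at hy
  set y := x * (h.ι d)⁻¹ with hy'
  have hx' : x = y * h.ι d := by rw [hy', inv_mul_cancel_right]
  have hd1 : d ≠ 1 := fun e => by
    rw [e, map_one, inv_one, mul_one] at hy'
    exact h.not_two_dvd_of_mem hy (hy' ▸ hx2 ▸ dvd_rfl)
  have hd2 : d ≠ r 2 := fun e => by
    refine hne ?_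
    have hc : Commute y h.z := h.mem_C.1 (h.O_le hy)
    have hxz : x = y * h.z := by rw [hx', e]; rfl
    have hzz : h.z * h.z = 1 := by rw [← pow_two, ← h.orderOf_z, pow_orderOf_eq_one]
    have h2 : orderOf y ∣ 2 := orderOf_dvd_of_pow_eq_one (by
      rw [hxz] at hxx
      calc y ^ 2 = y * y * (h.z * h.z) := by rw [hzz, mul_one, pow_two]
        _ = y * (y * h.z) * h.z := by group
        _ = y * (h.z * y) * h.z := by rw [hc.eq]
        _ = 1 := by rw [← mul_assoc, mul_assoc _ y h.z]; exact hxx)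
    have : y = 1 := orderOf_eq_one_iff.1 (Nat.eq_one_of_dvd_coprimes
      (Nat.prime_two.coprime_iff_not_dvd.2 (h.not_two_dvd_of_mem hy)).symm dvd_rfl h2)
    rw [hxz, this, one_mul]
  have hsr : r 1 * d * (r 1)⁻¹ = d * r 2 := conj_r_one d hdd hd1 hd2
  -- a square root of `y` conjugates `ι d` to `x`
  have hiy : h.ι d * y * (h.ι d)⁻¹ = y⁻¹ := by
    have hdi : (h.ι d)⁻¹ = h.ι d := by
      rw [← map_inv, inv_eq_of_mul_eq_one_right hdd]
    rw [hx'] at hxx
    rw [hdi]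
    exact eq_inv_of_mul_eq_one_right (by rw [← hxx]; group)
  obtain ⟨m, hm⟩ := Nat.odd_iff.2 (Nat.two_dvd_ne_zero.1 (h.not_two_dvd_of_mem hy))
  set k := y ^ (m + 1) with hk
  have hkk : k * k = y := by
    rw [hk, ← pow_add, show m + 1 + (m + 1) = (2 * m + 1) + 1 by ring, ← hm, pow_succ, pow_orderOf_eq_one, one_mul]
  have hkd : k * h.ι d * k⁻¹ = x := by
    have : h.ι d * k * (h.ι d)⁻¹ = k⁻¹ := by rw [hk, ← conj_pow, hiy, inv_pow]
    rw [hx']
    calc k * h.ι d * k⁻¹ = k * (h.ι d * k * (h.ι d)⁻¹)⁻¹ * h.ι d := by group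
      _ = k * k * h.ι d := by rw [this, inv_inv]
      _ = y * h.ι d := by rw [hkk]
  have hkO : k ∈ h.O := pow_mem hy _
  have hkz : Commute k h.z := h.mem_C.1 (h.O_le hkO)
  refine ⟨k * h.w * k⁻¹, mul_mem (mul_mem (h.O_le hkO) h.w_mem_C) (inv_mem (h.O_le hkO)), ?_, fun v hv => ?_⟩
  · have hw : h.w * h.ι d * h.w⁻¹ = h.ι d * h.z := by
      rw [w, z, ← map_inv, ← map_mul, ← map_mul, hsr, map_mul]
    calc k * h.w * k⁻¹ * x * (k * h.w * k⁻¹)⁻¹ = k * (h.w * (k⁻¹ * x * k) * h.w⁻¹) * k⁻¹ := by group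
      _ = k * (h.ι d * h.z) * k⁻¹ := by rw [← hkd, show k⁻¹ * (k * h.ι d * k⁻¹) * k = h.ι d by group, hw]
      _ = k * h.ι d * k⁻¹ * h.z := by rw [mul_assoc (k * h.ι d) k⁻¹ h.z, hkz.inv_left.eq]; group
      _ = x * h.z := by rw [hkd]
  · have h1 : k⁻¹ * v * k = v := by rw [mul_assoc, (h.O_comm hv hkO).eq, inv_mul_cancel_left]
    calc k * h.w * k⁻¹ * v * (k * h.w * k⁻¹)⁻¹ = k * (h.w * (k⁻¹ * v * k) * h.w⁻¹) * k⁻¹ := by group
      _ = k * v⁻¹ * k⁻¹ := by rw [h1, h.inverts hv]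
      _ = v⁻¹ := by rw [(h.O_comm hkO (inv_mem hv)).eq, mul_inv_cancel_right]

theorem z_ne_s : h.z ≠ h.s := fun e => absurd (h.hd.inj e) (by decide)

theorem orderOf_zs : orderOf (h.z * h.s) = 2 := by
  rw [z, s, ← map_mul]; exact h.orderOf_eq_two (by decide) (by decide)

theorem w_conj_s : h.w * h.s * h.w⁻¹ = h.z * h.s := by
  rw [w, z, s, ← map_inv, ← map_mul, ← map_mul, ← map_mul]; rfl

/-- An element fixing `s`, moving `z` to `z s` and inverting the odd part of `C(s)`. -/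
theorem exists_fuse : ∃ c : G, c * h.s * c⁻¹ = h.s ∧ c * h.z * c⁻¹ = h.z * h.s ∧
    ∀ y ∈ h.oddC h.s, c * y * c⁻¹ = y⁻¹ := by
  set g := h.toInv h.s with hg
  have e : g * h.z * g⁻¹ = h.s := h.toInv_spec h.orderOf_s
  set x := g⁻¹ * h.z * g with hx
  have hxC : x ∈ h.C := h.mem_C.2 (by
    have := (h.commute_s_z.symm).conj g⁻¹
    rw [inv_inv, ← hx] at this
    have e' : g⁻¹ * h.s * g = h.z := by rw [← e]; group
    rwa [e'] at this)
  have hx2 : orderOf x = 2 := by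
    rw [hx]; simpa using (orderOf_conj_eq g⁻¹ h.z).trans h.orderOf_z
  have hne : x ≠ h.z := fun e' => h.z_ne_s (by
    calc h.z = g * x * g⁻¹ := by rw [hx]; group
      _ = h.s := by rw [e', e])
  obtain ⟨c, hc, hcx, hinv⟩ := h.exists_swap hxC hx2 hne
  have hcz : c * h.z * c⁻¹ = h.z := by rw [(h.mem_C.1 hc).eq, mul_inv_cancel_right]
  refine ⟨g * c * g⁻¹, ?_, ?_, ?_⟩
  · calc _ = g * (c * (g⁻¹ * h.s * g) * c⁻¹) * g⁻¹ := by group
      _ = h.s := by rw [show g⁻¹ * h.s * g = h.z by rw [← e]; group, hcz, e]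
  · calc _ = g * (c * x * c⁻¹) * g⁻¹ := by rw [hx]; group
      _ = g * x * g⁻¹ * (g * h.z * g⁻¹) := by rw [hcx]; group
      _ = h.z * h.s := by rw [e, hx]; group
  · rintro y ⟨v, hv, rfl⟩
    show g * c * g⁻¹ * (g * v * g⁻¹) * (g * c * g⁻¹)⁻¹ = (g * v * g⁻¹)⁻¹
    calc _ = g * (c * v * c⁻¹) * g⁻¹ := by group
      _ = _ := by rw [hinv v hv]; group

end Hyp

end CfsgLib.SmallCent
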