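import Cfsg.Agent.Lib.Char.Ortho
import Cfsg.Agent.Lib.CharBlocks.Degree
import Mathlib.GroupTheory.Subgroup.Simple

/-!
# Small character facts for simple groups
-/

set_option autoImplicit false

noncomputable section

namespace CfsgLib.SmallCent

open Cfsg CfsgLib.Char
open scoped ComplexConjugate

/-- Two further constituents. -/
theorem two_others {ι : Type*} [DecidableEq ι] (s : Finset ι) (f : ι → ℤ) (h : ∑ i ∈ s, f i ^ 2 = 2) :
    ∃ a ∈ s, ∃ b ∈ s, a ≠ b ∧ (f a = 1 ∨ f a = -1) ∧ (f b = 1 ∨ f b = -1) ∧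
      ∀ i ∈ s, i ≠ a → i ≠ b → f i = 0 := by
  have hle : ∀ i ∈ s, f i ^ 2 ≤ 1 := by
    intro i hi
    have h2 : f i ^ 2 ≤ 2 := h ▸ Finset.single_le_sum (f := fun j => f j ^ 2) (fun j _ => sq_nonneg _) hi
    have h1 : -1 ≤ f i := by nlinarith
    have h1' : f i ≤ 1 := by nlinarith
    nlinarith
  have heq : ∀ i ∈ s, f i ^ 2 = if f i = 0 then 0 else 1 := by
    intro i hi
    split_ifs with h0
    · rw [h0]; rfl
    · have : 0 < f i ^ 2 := by positivity
      have := hle i hi
      omega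
  rw [Finset.sum_congr rfl heq, Finset.sum_ite, Finset.sum_const_zero, zero_add, Finset.sum_const,
    nsmul_eq_mul, mul_one] at h
  have hc : (s.filter fun i => ¬ f i = 0).card = 2 := by exact_mod_cast h
  obtain ⟨a, b, hab, he⟩ := Finset.card_eq_two.1 hc
  have ha : a ∈ s.filter fun i => ¬ f i = 0 := by rw [he]; simp
  have hb : b ∈ s.filter fun i => ¬ f i = 0 := by rw [he]; simp
  rw [Finset.mem_filter] at ha hb
  have pm : ∀ i ∈ s, ¬ f i = 0 → f i = 1 ∨ f i = -1 := by
    intro i hi h0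
    have := heq i hi
    rw [if_neg h0, sq] at this
    exact Int.eq_one_or_neg_one_of_mul_eq_one this
  refine ⟨a, ha.1, b, hb.1, hab, pm a ha.1 ha.2, pm b hb.1 hb.2, fun i hi hia hib => ?_⟩
  by_contra h0
  have : i ∈ s.filter fun i => ¬ f i = 0 := Finset.mem_filter.2 ⟨hi, h0⟩
  rw [he] at this
  simp [hia, hib] at this

variable {G : Type*} [Group G] [Finite G]

/-- In a non-abelian simple group only the identity is a scalar in a nontrivial representation. -/
theorem eq_one_of_norm_value [IsSimpleGroup G] (hG : ¬ IsMulCommutative G) (χ : IrrCharacter G)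
    (hχ : χ ≠ CfsgLib.Char.irrOne) {g : G}
    (hg : ‖(χ : G → ℂ) g‖ = (charDegree (χ : G → ℂ) : ℝ)) : g = 1 := by
  haveI := Fintype.ofFinite G
  obtain ⟨χf, n, ρ, hirr, rfl⟩ := χ
  have hd : charDegree ρ.character = n := by
    have h1 := CfsgLib.Char.character_eq_degree_iff ρ (1 : G)
    have h2 : ρ.character (1 : G) = (n : ℂ) := by simp [Representation.char_one]
    exact CfsgLib.CharBlocks.charDegree_eq h2
  have hn : Module.finrank ℂ (Fin n → ℂ) = n := Module.finrank_fin_fun ℂ
  change ‖ρ.character g‖ = ((charDegree ρ.character : ℕ) : ℝ) at hg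
  rw [hd] at hg
  replace hg : ‖ρ.character g‖ = ((Module.finrank ℂ (Fin n → ℂ) : ℕ) : ℝ) := hg.trans (congrArg Nat.cast hn.symm)
  obtain ⟨ω, hω⟩ := (CfsgLib.Char.norm_character_eq_iff ρ g).1 hg
  set N : Subgroup G := MonoidHom.ker ρ.toHomUnits with hN
  have hmem : ∀ k : G, k ∈ N ↔ ρ k = LinearMap.id := by
    intro k
    rw [hN, MonoidHom.mem_ker, ← Units.val_inj]
    rfl
  have hcomm : ∀ k : G, g * k * g⁻¹ * k⁻¹ ∈ N := by
    intro k
    rw [hmem]
    have h1 : ρ g * ρ k = ρ k * ρ g := by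
      refine LinearMap.ext fun v => ?_
      simp [Module.End.mul_apply, hω]
    rw [map_mul, map_mul, map_mul, h1, mul_assoc (ρ k), ← map_mul ρ g, mul_inv_cancel, map_one, mul_one,
      ← map_mul, mul_inv_cancel, map_one]
    rfl
  rcases (inferInstance : N.Normal).eq_bot_or_eq_top with e | e
  · have hcen : g ∈ Subgroup.center G := by
      rw [Subgroup.mem_center_iff]
      intro k
      have := hcomm k
      rw [e, Subgroup.mem_bot, mul_inv_eq_one, mul_inv_eq_iff_eq_mul] at this
      exact this.symm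
    rcases (inferInstance : (Subgroup.center G).Normal).eq_bot_or_eq_top with ec | ec
    · rw [ec, Subgroup.mem_bot] at hcen; exact hcen
    · exact absurd ⟨⟨fun a b => (Subgroup.mem_center_iff.1 (ec ▸ Subgroup.mem_top b) a)⟩⟩ hG
  · exfalso
    have hall : ∀ k : G, ρ.character k = (n : ℂ) := fun k => by
      rw [(CfsgLib.Char.character_eq_degree_iff ρ k).2 ((hmem k).1 (e ▸ Subgroup.mem_top k)), hn]
    have h0 := CfsgLib.Char.classInner_irr_ne (φ := ρ.character) (ψ := fun _ => (1 : ℂ))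
      ⟨n, ρ, hirr, rfl⟩ CfsgLib.Char.isIrrCharacter_one (fun e' => hχ (Subtype.ext e'))
    rw [CfsgLib.Char.classInner_one_right, Finset.sum_congr rfl fun k _ => hall k, Finset.sum_const,
      Finset.card_univ, nsmul_eq_mul, ← Nat.card_eq_fintype_card] at h0
    have hn0 : (n : ℂ) ≠ 0 := by
      have := CfsgLib.Char.irr_one_ne_zero (χ := ρ.character) ⟨n, ρ, hirr, rfl⟩
      rwa [hall 1] at this
    rcases mul_eq_zero.1 h0 with h0' | h0'
    · exact CfsgLib.Char.card_ne_zero' (inv_eq_zero.1 h0')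
    · exact (mul_ne_zero CfsgLib.Char.card_ne_zero' hn0) h0'

end CfsgLib.SmallCent
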