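import Cfsg.Agent.Lib.SmallCent.ExcTI
import Cfsg.Agent.Lib.SmallCent.CharTools
import Cfsg.Agent.Lib.Char.ClassAlgebra
import Cfsg.Agent.Lib.Char.Generalized

/-!
# The case `O₂ = 1`, `H/O ≅ S₄`, `|O| ≥ 5` does not occur
-/

set_option autoImplicit false

noncomputable section

namespace CfsgLib.SmallCent

open Cfsg DihedralGroup CfsgLib.Invol CfsgLib.Char
open scoped ComplexConjugate

variable {G : Type*} [Group G] [Finite G]

theorem noncentral_conj : ∀ d : DihedralGroup 4, d * d = 1 → Hyp.isV1 d = false →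
    ∃ e, e * sr 1 * e⁻¹ = d := by decide

namespace Hyp

variable {h : Hyp G}

namespace LinData

variable (D : LinData h)

/-- The complex values of the linear character. -/
def f : h.L →* ℂ := (Units.coeHom ℂ).comp D.Λ

/-- The function to induce. -/
def θ : h.L → ℂ := fun l => 1 - D.f l

theorem f_pow (l : h.L) : D.f l ^ (3 * Nat.card h.O) = 1 := by
  show ((D.Λ l : ℂˣ) : ℂ) ^ _ = 1
  rw [← Units.val_pow_eq_pow_val, D.pow_eq, Units.val_one]

theorem conj_f (l : h.L) : conj (D.f l) = (D.f l)⁻¹ := by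
  have h0 : 0 < Nat.card h.O := Nat.card_pos
  exact (Complex.inv_eq_conj (Complex.norm_eq_one_of_pow_eq_one (D.f_pow l) (by omega))).symm

theorem f_eq_one_iff (l : h.L) : D.f l = 1 ↔ D.Λ l = 1 := Units.val_eq_one

theorem θ_eq_zero {l : h.L} (hl : D.Λ l = 1) : D.θ l = 0 := by
  show 1 - D.f l = 0
  rw [(D.f_eq_one_iff l).2 hl, sub_self]

theorem f_conj_u (l : h.L) (hu : h.u * l * h.u⁻¹ ∈ h.L) : D.f ⟨h.u * l * h.u⁻¹, hu⟩ = (D.f l)⁻¹ := by
  refine eq_inv_of_mul_eq_one_left ?_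
  show ((D.Λ _ : ℂˣ) : ℂ) * ((D.Λ l : ℂˣ) : ℂ) = 1
  rw [← Units.val_mul, D.conj_u l hu, Units.val_one]

theorem sum_f [Fintype h.L] : ∑ l, D.f l = 0 :=
  sum_hom_units_eq_zero _ fun e => D.x₀_ne (h.O_le_L D.x₀_mem)
    ((D.f_eq_one_iff _).1 (DFunLike.congr_fun e _))

theorem sum_f_inv [Fintype h.L] : ∑ l, (D.f l)⁻¹ = 0 := by
  simp only [← D.conj_f]
  rw [← map_sum, D.sum_f, map_zero]

theorem sum_f_sq [Fintype h.L] : ∑ l, D.f l ^ 2 = 0 := by
  have hne : D.f * D.f ≠ 1 := fun e => D.x₀_ne (h.O_le_L D.x₀_mem) ((D.f_eq_one_iff _).1 (by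
    have h1 : D.f ⟨D.x₀, h.O_le_L D.x₀_mem⟩ ^ 2 = 1 := by rw [pow_two]; exact DFunLike.congr_fun e _
    have h2 := D.f_pow ⟨D.x₀, h.O_le_L D.x₀_mem⟩
    have h3 := orderOf_dvd_of_pow_eq_one h1
    have h4 := orderOf_dvd_of_pow_eq_one h2
    exact orderOf_eq_one_iff.1 (Nat.eq_one_of_dvd_coprimes
      (Nat.coprime_two_left.2 ((by decide : Odd 3).mul h.odd_O)) h3 h4)))
  rw [← sum_hom_units_eq_zero _ hne]
  exact Finset.sum_congr rfl fun l _ => (pow_two _)

variable [Fintype G]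

/-- The exceptional generalized character. -/
def α : G → ℂ := indFun h.L D.θ

theorem isGen_α : IsGeneralizedCharacter G D.α :=
  isGen_indFun _ (isGen_sub isGen_one (isGen_of_irr (isIrrCharacter_hom D.f)))

theorem α_eq_zero {g : G} (hg : g ^ (2 ^ 2) = 1) : D.α g = 0 := by
  refine indFun_eq_zero_of_forall _ fun x hx => D.θ_eq_zero (D.Λ_eq_one_of_pow (k := 2) (Subtype.ext ?_))
  have e := conj_pow (i := 2 ^ 2) (a := x⁻¹) (b := g)
  rw [inv_inv, hg] at e
  rw [SubmonoidClass.coe_pow, OneMemClass.coe_one]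
  exact e.trans (by group)

variable [IsSimpleGroup G]

theorem α_apply (h2 : h.O2 = ⊥) (ho : 5 ≤ Nat.card h.O) (h12 : Nat.card h.L = 12 * Nat.card h.O)
    (l : h.L) (hl : D.Λ l ≠ 1) : D.α l = 2 - D.f l - (D.f l)⁻¹ := by
  classical
  have hO : h.O ≠ ⊥ := fun e => by rw [e, Subgroup.card_bot] at ho; omega
  have huL := u_not_mem_L h2 hO
  have huH : h.u ∈ h.H := h.C_le_H h.u_mem_C
  have huu : h.u * h.u = 1 := by rw [← pow_two, ← h.orderOf_u, pow_orderOf_eq_one]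
  have hui : h.u⁻¹ = h.u := inv_eq_of_mul_eq_one_right huu
  have hval : ∀ x : G, extendByZero h.L D.θ (x⁻¹ * (l : G) * x) =
      (if x ∈ h.L then D.θ l else 0) + (if x * h.u ∈ h.L then 1 - (D.f l)⁻¹ else 0) := by
    intro x
    by_cases hx : x ∈ h.L
    · rw [if_pos hx, if_neg (fun h' => huL (by simpa using mul_mem (inv_mem hx) h')), add_zero]
      have hm : x⁻¹ * (l : G) * x ∈ h.L := mul_mem (mul_mem (inv_mem hx) l.2) hx
      rw [extendByZero_of_mem _ hm, show (⟨_, hm⟩ : h.L) = (⟨x, hx⟩ : h.L)⁻¹ * l * ⟨x, hx⟩ from rfl]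
      show 1 - D.f _ = 1 - D.f l
      rw [mul_assoc, map_mul, mul_comm, ← map_mul, mul_inv_cancel_right]
    · rw [if_neg hx, zero_add]
      by_cases hxu : x * h.u ∈ h.L
      · rw [if_pos hxu]
        set m : h.L := (⟨x * h.u, hxu⟩ : h.L)⁻¹ * l * ⟨x * h.u, hxu⟩ with hm
        have hfm : D.f m = D.f l := by
          rw [hm, mul_assoc, map_mul, mul_comm, ← map_mul, mul_inv_cancel_right]
        have e : x⁻¹ * (l : G) * x = h.u * m * h.u⁻¹ := by
          show _ = h.u * ((x * h.u)⁻¹ * (l : G) * (x * h.u)) * h.u⁻¹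
          group
        rw [e, extendByZero_of_mem _ (h.L_conj huH m.2)]
        show 1 - D.f _ = _
        rw [D.f_conj_u, hfm]
      · rw [if_neg hxu]
        by_cases hm : x⁻¹ * (l : G) * x ∈ h.L
        · rw [extendByZero_of_mem _ hm]
          refine D.θ_eq_zero (not_not.1 fun hne => ?_)
          have hH : x⁻¹ ∈ h.H := D.ti h2 ho h12 (t := (l : G)) ⟨l.2, hl⟩
            (by rw [inv_inv]; exact ⟨hm, hne⟩)
          rcases H_cases h2 hO (inv_mem hH) with h' | h'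
          · rw [inv_inv] at h'; exact hx h'
          · rw [inv_inv] at h'; exact hxu h'
        · exact extendByZero_of_notMem _ hm
  rw [α, indFun_apply, Finset.sum_congr rfl fun x _ => hval x, Finset.sum_add_distrib]
  have e2 : ∑ x : G, (if x * h.u ∈ h.L then 1 - (D.f l)⁻¹ else 0) =
      ∑ x : G, (if x ∈ h.L then 1 - (D.f l)⁻¹ else 0) :=
    Fintype.sum_equiv (Equiv.mulRight h.u) _ _ fun x => rfl
  rw [e2]
  simp only [← Finset.sum_filter, Finset.sum_const, nsmul_eq_mul, ← Fintype.card_subtype,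
    ← Nat.card_eq_fintype_card]
  have hc : (Nat.card h.L : ℂ) ≠ 0 := card_subgroup_ne_zero _
  show (Nat.card h.L : ℂ)⁻¹ * ((Nat.card h.L : ℂ) * (1 - D.f l) + (Nat.card h.L : ℂ) * (1 - (D.f l)⁻¹)) = _
  field_simp
  ring

theorem inner_one (h2 : h.O2 = ⊥) : classInner D.α (fun _ => 1) = 1 := by
  haveI := Fintype.ofFinite h.L
  rw [α, frobenius_reciprocity _ _ (isClassFunction_const 1)]
  show classInner D.θ (fun _ => (1 : ℂ)) = 1
  rw [classInner_one_right]
  simp only [θ, Finset.sum_sub_distrib, D.sum_f, sub_zero, Finset.sum_const, Finset.card_univ,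
    nsmul_eq_mul, mul_one, ← Nat.card_eq_fintype_card]
  exact inv_mul_cancel₀ card_ne_zero'

theorem inner_self (h2 : h.O2 = ⊥) (ho : 5 ≤ Nat.card h.O) (h12 : Nat.card h.L = 12 * Nat.card h.O) :
    classInner D.α D.α = 3 := by
  haveI := Fintype.ofFinite h.L
  conv_lhs => arg 1; rw [α]
  rw [frobenius_reciprocity _ _ (isClassFunction_of_isGen D.isGen_α), classInner_def]
  have key : ∀ l : h.L, D.θ l * conj (D.α l) = 3 - 3 * D.f l - (D.f l)⁻¹ + D.f l ^ 2 := by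
    intro l
    by_cases hl : D.Λ l = 1
    · rw [D.θ_eq_zero hl, (D.f_eq_one_iff l).2 hl]; norm_num
    · rw [D.α_apply h2 ho h12 l hl, map_sub, map_sub, map_inv₀, D.conj_f, inv_inv, map_ofNat]
      show (1 - D.f l) * (2 - (D.f l)⁻¹ - D.f l) = _
      have h0 : D.f l ≠ 0 := Units.ne_zero _
      field_simp
      ring
  rw [Finset.sum_congr rfl fun l _ => key l]
  simp only [Finset.sum_add_distrib, Finset.sum_sub_distrib, ← Finset.mul_sum, D.sum_f, D.sum_f_inv,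
    D.sum_f_sq, Finset.sum_const, Finset.card_univ, nsmul_eq_mul, ← Nat.card_eq_fintype_card]
  have hc : (Nat.card h.L : ℂ) ≠ 0 := card_ne_zero'
  field_simp
  ring

/-- The involutions of `H` outside `L`. -/
def J [DecidableEq G] (h : Hyp G) [Fintype h.L] : Finset G :=
  (Finset.univ : Finset h.L).image fun l : h.L => (l : G) * h.u * (l : G)⁻¹

theorem mem_J [DecidableEq G] [Fintype h.L] (h2 : h.O2 = ⊥) (hO : h.O ≠ ⊥)
    (h12 : Nat.card h.L = 12 * Nat.card h.O) {i : G} (hiH : i ∈ h.H) (hiL : i ∉ h.L) (hi : i * i = 1) :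
    i ∈ LinData.J h := by
  haveI : Fact (Nat.Prime 2) := ⟨Nat.prime_two⟩
  have hPH : (h.P : Subgroup G) ≤ h.H := fun p hp => by
    rw [← h.hd.range] at hp
    obtain ⟨d, rfl⟩ := hp
    exact h.C_le_H (h.ι_mem_C d)
  obtain ⟨a, ha⟩ := CfsgLib.Invol.exists_mem_sylow_orderOf_two (h.P.subtype hPH) (t := (⟨i, hiH⟩ : h.H))
    (by
      rw [Subgroup.orderOf_mk]
      exact orderOf_eq_prime (by rw [pow_two]; exact hi) fun e => hiL (e ▸ one_mem _))
  rw [Sylow.coe_subtype, Subgroup.mem_subgroupOf, ← h.hd.range] at ha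
  obtain ⟨d, hd⟩ := ha
  have hd' : h.ι d = (a : G) * i * (a : G)⁻¹ := hd
  have hdd : d * d = 1 := h.hd.inj (by
    rw [map_mul, map_one, hd']
    calc (a : G) * i * (a : G)⁻¹ * ((a : G) * i * (a : G)⁻¹) = (a : G) * (i * i) * (a : G)⁻¹ := by group
      _ = 1 := by rw [hi]; group)
  have hdV : isV1 d = false := by
    rw [← Bool.not_eq_true]
    intro hV
    refine hiL ?_
    have := h.L_conj (inv_mem a.2) (V1_le_L h2 (show h.ι d ∈ h.V1 from ⟨d, hV, rfl⟩))
    rwa [hd', show (a : G)⁻¹ * ((a : G) * i * (a : G)⁻¹) * ((a : G)⁻¹)⁻¹ = i by group] at this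
  obtain ⟨e, he⟩ := noncentral_conj d hdd hdV
  have hie : i = ((a : G)⁻¹ * h.ι e) * h.u * ((a : G)⁻¹ * h.ι e)⁻¹ := by
    calc i = (a : G)⁻¹ * ((a : G) * i * (a : G)⁻¹) * a := by group
      _ = _ := by
        rw [← hd', ← he, map_mul, map_mul, map_inv, u]
        group
  have hk : (a : G)⁻¹ * h.ι e ∈ h.H := mul_mem (inv_mem a.2) (h.C_le_H (h.ι_mem_C e))
  rw [LinData.J, Finset.mem_image]
  rcases H_cases h2 hO hk with h' | h'
  · exact ⟨⟨_, h'⟩, Finset.mem_univ _, hie.symm⟩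
  · refine ⟨⟨_, h'⟩, Finset.mem_univ _, ?_⟩
    show (a : G)⁻¹ * h.ι e * h.u * h.u * ((a : G)⁻¹ * h.ι e * h.u)⁻¹ = i
    rw [hie]; group

include D in
theorem card_J [DecidableEq G] [Fintype h.L] (h12 : Nat.card h.L = 12 * Nat.card h.O) (h2 : h.O2 = ⊥) :
    (LinData.J h).card = 6 * Nat.card h.O := by
  have hz : h.z ∈ h.L := V1_le_L h2 h.z_mem_V1
  have hzz : h.z * h.z = 1 := h.mul_self_V1 h.z_mem_V1
  have hzne : h.z ≠ 1 := fun e => by
    have := h.orderOf_z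
    rw [e, orderOf_one] at this; omega
  have hfib := Finset.card_eq_sum_card_image (fun l : h.L => (l : G) * h.u * (l : G)⁻¹) Finset.univ
  rw [Finset.sum_congr rfl (g := fun _ => 2)] at hfib
  · rw [Finset.sum_const, smul_eq_mul, Finset.card_univ, ← Nat.card_eq_fintype_card, h12] at hfib
    show ((Finset.univ : Finset h.L).image fun l : h.L => (l : G) * h.u * (l : G)⁻¹).card = _
    omega
  · intro i hi
    obtain ⟨l₀, -, rfl⟩ := Finset.mem_image.1 hi
    refine Finset.card_eq_two.2 ⟨l₀, l₀ * ⟨h.z, hz⟩, fun e => hzne ?_, Finset.ext fun l => ?_⟩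
    · exact congrArg Subtype.val (mul_eq_left.1 e.symm)
    rw [Finset.mem_filter, Finset.mem_insert, Finset.mem_singleton]
    constructor
    · rintro ⟨-, hl⟩
      have hc : Commute ((l₀ : G)⁻¹ * l) h.u := by
        refine mul_inv_eq_iff_eq_mul.1 ?_
        calc (l₀ : G)⁻¹ * l * h.u * ((l₀ : G)⁻¹ * l)⁻¹ = (l₀ : G)⁻¹ * ((l : G) * h.u * (l : G)⁻¹) * l₀ := by group
          _ = h.u := by rw [hl]; group
      rcases D.u_cent _ (mul_mem (inv_mem l₀.2) l.2) hc with e | e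
      · exact Or.inl (Subtype.ext (inv_mul_eq_one.1 e).symm)
      · exact Or.inr (Subtype.ext (by rw [Subgroup.coe_mul]; exact inv_mul_eq_iff_eq_mul.1 e))
    · rintro (rfl | rfl)
      · exact ⟨Finset.mem_univ _, rfl⟩
      · refine ⟨Finset.mem_univ _, ?_⟩
        show (l₀ : G) * h.z * h.u * ((l₀ : G) * h.z)⁻¹ = (l₀ : G) * h.u * (l₀ : G)⁻¹
        rw [mul_assoc (l₀ : G) h.z h.u, h.commute_u_z.symm.eq]
        group

omit [IsSimpleGroup G] in
/-- Summing over the conjugates of `z`. -/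
theorem sum_conj_z [DecidableEq G] [Fintype h.L] (F : G → ℂ)
    (hJ : ∀ i ∈ LinData.J h, orderOf i = 2)
    (hF : ∀ a : G, a * h.z * a⁻¹ ∉ LinData.J h → F (a * h.z * a⁻¹) = 0) :
    ∑ a : G, F (a * h.z * a⁻¹) = (8 * Nat.card h.O : ℂ) * ∑ i ∈ LinData.J h, F i := by
  rw [← Finset.sum_subset (Finset.subset_univ (Finset.univ.filter fun a : G => a * h.z * a⁻¹ ∈ LinData.J h))
    fun a _ ha => hF a (by simpa using ha), ← Finset.sum_fiberwise_of_maps_to (t := LinData.J h)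
    (g := fun a : G => a * h.z * a⁻¹) (fun a ha => (Finset.mem_filter.1 ha).2), Finset.mul_sum]
  refine Finset.sum_congr rfl fun i hi => ?_
  rw [Finset.sum_congr rfl fun a ha => congrArg F (Finset.mem_filter.1 ha).2, Finset.sum_const, nsmul_eq_mul]
  congr 1
  rw [show (8 * Nat.card h.O : ℂ) = ((Nat.card h.C : ℕ) : ℂ) by rw [h.card_C]; push_cast; rfl]
  congr 1
  obtain ⟨a₀, ha₀⟩ := isConj_iff.1 (h.hone h.z i h.orderOf_z (hJ i hi))
  haveI := Fintype.ofFinite h.C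
  rw [Nat.card_eq_fintype_card, ← Finset.card_univ]
  refine Finset.card_bij' (fun a _ => (⟨a₀⁻¹ * a, ?_⟩ : h.C)) (fun c _ => a₀ * c) ?_ ?_ ?_ ?_
  · exact h.mem_C.2 (mul_inv_eq_iff_eq_mul.1 (by
      have ha := (Finset.mem_filter.1 ‹_›).2
      calc a₀⁻¹ * a * h.z * (a₀⁻¹ * a)⁻¹ = a₀⁻¹ * (a * h.z * a⁻¹) * a₀ := by group
        _ = h.z := by rw [ha, ← ha₀]; group))
  · exact fun _ _ => Finset.mem_univ _
  · intro c _
    have hc : a₀ * c * h.z * (a₀ * c)⁻¹ = i := by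
      calc a₀ * c * h.z * (a₀ * c)⁻¹ = a₀ * ((c : G) * h.z * (c : G)⁻¹) * a₀⁻¹ := by group
        _ = i := by rw [(h.mem_C.1 c.2).eq, mul_inv_cancel_right, ha₀]
    exact Finset.mem_filter.2 ⟨Finset.mem_filter.2 ⟨Finset.mem_univ _, hc ▸ hi⟩, hc⟩
  · exact fun a _ => mul_inv_cancel_left a₀ a
  · exact fun c _ => Subtype.ext (inv_mul_cancel_left a₀ (c : G))

/-- The character sum over pairs of involutions. -/
theorem sum_pairs (h2 : h.O2 = ⊥) (ho : 5 ≤ Nat.card h.O) (h12 : Nat.card h.L = 12 * Nat.card h.O) :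
    ∑ a : G, ∑ b : G, D.α (a * h.z * a⁻¹ * (b * h.z * b⁻¹)) =
      192 * (Nat.card G : ℂ) * (Nat.card h.O : ℂ) ^ 3 := by
  classical
  haveI := Fintype.ofFinite h.L
  have hO : h.O ≠ ⊥ := fun e => by rw [e, Subgroup.card_bot] at ho; omega
  have huu : h.u * h.u = 1 := by rw [← pow_two, ← h.orderOf_u, pow_orderOf_eq_one]
  have hui : h.u⁻¹ = h.u := inv_eq_of_mul_eq_one_right huu
  have huH : h.u ∈ h.H := h.C_le_H h.u_mem_C
  have hJo : ∀ i ∈ LinData.J h, orderOf i = 2 := by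
    intro i hi
    obtain ⟨l, -, rfl⟩ := Finset.mem_image.1 hi
    rw [CfsgLib.Invol.orderOf_conj_eq]; exact h.orderOf_u
  set F : G → G → ℂ := fun i j => extendByZero h.L D.θ (i * j) with hFdef
  have key : ∀ i j : G, i * i = 1 → j * j = 1 → F i j ≠ 0 → i ∈ LinData.J h ∧ j ∈ LinData.J h := by
    intro i j hi hj hne
    have hm : i * j ∈ h.L := by
      by_contra hm
      exact hne (extendByZero_of_notMem _ hm)
    have hΛ : D.Λ ⟨i * j, hm⟩ ≠ 1 := fun e => hne (by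
      show extendByZero h.L D.θ (i * j) = 0
      rw [extendByZero_of_mem _ hm]; exact D.θ_eq_zero e)
    have hii : i⁻¹ = i := inv_eq_of_mul_eq_one_right hi
    have hjj : j⁻¹ = j := inv_eq_of_mul_eq_one_right hj
    have ht : i * (i * j) * i⁻¹ = (i * j)⁻¹ := by
      rw [mul_inv_rev, hjj, ← mul_assoc i i j, hi, one_mul]
    have hiH : i ∈ h.H := D.ti h2 ho h12 (t := i * j) ⟨hm, hΛ⟩ (by
      rw [ht]
      refine ⟨inv_mem hm, fun e => hΛ ?_⟩
      rwa [show (⟨(i * j)⁻¹, inv_mem hm⟩ : h.L) = (⟨i * j, hm⟩ : h.L)⁻¹ from rfl, map_inv, inv_eq_one] at e)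
    have hje : j = i * (i * j) := by rw [← mul_assoc, hi, one_mul]
    have hiL : i ∉ h.L := by
      intro hiL
      have hjL : j ∈ h.L := hje ▸ mul_mem hiL hm
      refine hΛ (D.Λ_eq_one_of_pow (k := 1) (Subtype.ext ?_))
      rw [SubmonoidClass.coe_pow, pow_one, pow_two]
      exact h.mul_self_V1 (mul_mem (D.invol i hiL hi) (D.invol j hjL hj))
    have hjL : j ∉ h.L := fun hjL => hiL (by
      have := mul_mem hm (inv_mem hjL)
      rwa [mul_inv_cancel_right] at this)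
    exact ⟨mem_J h2 hO h12 hiH hiL hi, mem_J h2 hO h12 (hje ▸ mul_mem hiH (h.L_le_H hm)) hjL hj⟩
  have hzz : h.z * h.z = 1 := h.mul_self_V1 h.z_mem_V1
  have hcz : ∀ a : G, a * h.z * a⁻¹ * (a * h.z * a⁻¹) = 1 := fun a => by
    calc _ = a * (h.z * h.z) * a⁻¹ := by group
      _ = 1 := by rw [hzz]; group
  -- the sum over pairs
  have hT : ∑ a : G, ∑ b : G, F (a * h.z * a⁻¹) (b * h.z * b⁻¹) =
      (8 * Nat.card h.O : ℂ) * ((8 * Nat.card h.O : ℂ) * ((6 * Nat.card h.O : ℂ) * (6 * Nat.card h.O : ℂ))) := by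
    rw [sum_conj_z (fun i => ∑ b : G, F i (b * h.z * b⁻¹)) hJo fun a ha => Finset.sum_eq_zero fun b _ =>
      not_not.1 fun hne => ha (key _ _ (hcz a) (hcz b) hne).1]
    congr 1
    rw [Finset.sum_congr rfl fun i hi => sum_conj_z (F i) hJo fun b hb => not_not.1 fun hne =>
      hb (key _ _ (by rw [← pow_two, ← hJo i hi, pow_orderOf_eq_one]) (hcz b) hne).2, ← Finset.mul_sum]
    congr 1
    have hmem : ∀ i ∈ LinData.J h, ∀ j ∈ LinData.J h, i * j ∈ h.L := by
      intro i hi j hj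
      obtain ⟨l, -, rfl⟩ := Finset.mem_image.1 hi
      obtain ⟨m, -, rfl⟩ := Finset.mem_image.1 hj
      have e : (l : G) * h.u * (l : G)⁻¹ * ((m : G) * h.u * (m : G)⁻¹) =
          l * (h.u * ((l : G)⁻¹ * m) * h.u⁻¹) * (m : G)⁻¹ := by rw [hui]; group
      rw [e]
      exact mul_mem (mul_mem l.2 (h.L_conj huH (mul_mem (inv_mem l.2) m.2))) (inv_mem m.2)
    have hzero : ∀ i ∈ LinData.J h, ∑ j ∈ LinData.J h, extendByZero h.L D.f (i * j) = 0 := by
      intro i hi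
      have hmap : (LinData.J h).map (mulRightEmbedding D.x₀) = LinData.J h := by
        refine Finset.eq_of_subset_of_card_le (fun k hk => ?_) (le_of_eq (Finset.card_map _).symm)
        obtain ⟨j, hj, rfl⟩ := Finset.mem_map.1 hk
        obtain ⟨l, -, rfl⟩ := Finset.mem_image.1 hj
        have hjH : (l : G) * h.u * (l : G)⁻¹ ∈ h.H :=
          mul_mem (mul_mem (h.L_le_H l.2) huH) (inv_mem (h.L_le_H l.2))
        have hjL : (l : G) * h.u * (l : G)⁻¹ ∉ h.L := fun e => u_not_mem_L h2 hO (by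
          have := mul_mem (mul_mem (inv_mem l.2) e) l.2
          rwa [show (l : G)⁻¹ * ((l : G) * h.u * (l : G)⁻¹) * l = h.u by group] at this)
        show (l : G) * h.u * (l : G)⁻¹ * D.x₀ ∈ LinData.J h
        refine mem_J h2 hO h12 (mul_mem hjH (h.L_le_H (h.O_le_L D.x₀_mem))) (fun e => hjL ?_) ?_
        · have := mul_mem e (inv_mem (h.O_le_L D.x₀_mem))
          rwa [mul_inv_cancel_right] at this
        · have hji : ((l : G) * h.u * (l : G)⁻¹)⁻¹ = (l : G) * h.u * (l : G)⁻¹ := by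
            rw [mul_inv_rev, mul_inv_rev, inv_inv, hui, mul_assoc]
          have := inverts_of_not_mem h2 hO hjH hjL D.x₀_mem
          rw [hji] at this
          calc _ = (l : G) * h.u * (l : G)⁻¹ * D.x₀ * ((l : G) * h.u * (l : G)⁻¹) * D.x₀ := by group
            _ = 1 := by rw [this, inv_mul_cancel]
      have hstep : ∑ j ∈ LinData.J h, extendByZero h.L D.f (i * j) =
          D.f ⟨D.x₀, h.O_le_L D.x₀_mem⟩ * ∑ j ∈ LinData.J h, extendByZero h.L D.f (i * j) := by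
        rw [Finset.mul_sum]
        conv_lhs => rw [← hmap, Finset.sum_map]
        refine Finset.sum_congr rfl fun j hj => ?_
        have hm := hmem i hi j hj
        rw [mulRightEmbedding_apply, ← mul_assoc,
          extendByZero_of_mem _ (mul_mem hm (h.O_le_L D.x₀_mem)), extendByZero_of_mem _ hm, ← map_mul]
        rw [show (⟨i * j * D.x₀, mul_mem hm (h.O_le_L D.x₀_mem)⟩ : h.L) =
          ⟨i * j, hm⟩ * ⟨D.x₀, h.O_le_L D.x₀_mem⟩ from rfl, map_mul, map_mul, mul_comm]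
      have hne : D.f ⟨D.x₀, h.O_le_L D.x₀_mem⟩ ≠ 1 := fun e => D.x₀_ne _ ((D.f_eq_one_iff _).1 e)
      by_contra h0
      exact hne (mul_right_cancel₀ h0 ((one_mul _).trans hstep).symm)
    have hin : ∀ i ∈ LinData.J h, ∑ j ∈ LinData.J h, F i j = (6 * Nat.card h.O : ℂ) := by
      intro i hi
      have e : ∀ j ∈ LinData.J h, F i j = 1 - extendByZero h.L D.f (i * j) := fun j hj => by
        show extendByZero h.L D.θ (i * j) = _
        rw [extendByZero_of_mem _ (hmem i hi j hj), extendByZero_of_mem _ (hmem i hi j hj)]; rfl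
      rw [Finset.sum_congr rfl e, Finset.sum_sub_distrib, hzero i hi, sub_zero, Finset.sum_const,
        nsmul_eq_mul, mul_one, card_J D h12 h2]
      push_cast; rfl
    rw [Finset.sum_congr rfl hin, Finset.sum_const, nsmul_eq_mul, card_J D h12 h2]
    push_cast; rfl
  have hconj : ∀ x : G, ∑ a : G, ∑ b : G, extendByZero h.L D.θ (x⁻¹ * (a * h.z * a⁻¹ * (b * h.z * b⁻¹)) * x) =
      ∑ a : G, ∑ b : G, F (a * h.z * a⁻¹) (b * h.z * b⁻¹) := by
    intro x
    refine Fintype.sum_equiv (Equiv.mulLeft x⁻¹) _ _ fun a => ?_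
    refine Fintype.sum_equiv (Equiv.mulLeft x⁻¹) _ _ fun b => ?_
    show _ = extendByZero h.L D.θ ((x⁻¹ * a) * h.z * (x⁻¹ * a)⁻¹ * ((x⁻¹ * b) * h.z * (x⁻¹ * b)⁻¹))
    congr 1
    group
  have hsum : ∑ a : G, ∑ b : G, D.α (a * h.z * a⁻¹ * (b * h.z * b⁻¹)) =
      (Nat.card h.L : ℂ)⁻¹ * ∑ x : G, ∑ a : G, ∑ b : G,
        extendByZero h.L D.θ (x⁻¹ * (a * h.z * a⁻¹ * (b * h.z * b⁻¹)) * x) := by
    simp only [α, indFun_apply, ← Finset.mul_sum]
    congr 1
    rw [Finset.sum_congr rfl fun a _ => Finset.sum_comm]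
    exact Finset.sum_comm
  rw [hsum, Finset.sum_congr rfl fun x _ => hconj x, hT, Finset.sum_const, Finset.card_univ, nsmul_eq_mul,
    ← Nat.card_eq_fintype_card, h12]
  have ho0 : (Nat.card h.O : ℂ) ≠ 0 := by exact_mod_cast Nat.card_pos.ne'
  push_cast
  field_simp
  ring

end LinData

theorem sum_char_conj [Fintype G] {χ : G → ℂ} (hχ : IsIrrCharacter G χ) (z : G) :
    ∑ a : G, ∑ b : G, χ (a * z * a⁻¹ * (b * z * b⁻¹)) = (Nat.card G : ℂ) ^ 2 * χ z ^ 2 / χ 1 := by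
  rw [Finset.sum_comm, Finset.sum_congr rfl fun b _ => sum_char_conj_mul hχ z (b * z * b⁻¹),
    Finset.sum_congr rfl fun b _ => by rw [isClassFunction_of_isIrr hχ z b], Finset.sum_const,
    Finset.card_univ, nsmul_eq_mul, ← Nat.card_eq_fintype_card]
  ring

/-- **The case `|L| = 12 |O|`, `|O| ≥ 5` does not occur.** -/
theorem not_twelve [IsSimpleGroup G] (hG : ¬ IsMulCommutative G) (h2 : h.O2 = ⊥) (ho : 5 ≤ Nat.card h.O)
    (h12 : Nat.card h.L = 12 * Nat.card h.O) : False := by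
  classical
  haveI := Fintype.ofFinite G
  have hO : h.O ≠ ⊥ := fun e => by rw [e, Subgroup.card_bot] at ho; omega
  obtain ⟨D⟩ := exists_linData h2 hO h12
  obtain ⟨R⟩ := h.exists_rowData
  obtain ⟨m, hm, hinner, hsq⟩ := gen_decomp D.isGen_α
  have hm1 : m irrOne = 1 := by
    have e := hinner irrOne
    rw [show ((irrOne : IrrCharacter G) : G → ℂ) = fun _ => 1 from rfl, D.inner_one h2] at e
    exact_mod_cast e.symm
  rw [D.inner_self h2 ho h12] at hsq
  have hsq' : ∑ χ, m χ ^ 2 = 3 := by exact_mod_cast hsq.symm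
  have hrest : ∑ χ ∈ Finset.univ.erase irrOne, m χ ^ 2 = 2 := by
    have := Finset.add_sum_erase Finset.univ (fun χ => m χ ^ 2) (Finset.mem_univ (irrOne : IrrCharacter G))
    rw [hsq'] at this
    simp only [hm1, one_pow] at this
    linarith
  obtain ⟨χ₁, hχ₁, χ₂, hχ₂, hne, he₁, he₂, h0⟩ := two_others _ m hrest
  have hdec : ∀ g, D.α g = 1 + (m χ₁ : ℂ) * (χ₁ : G → ℂ) g + (m χ₂ : ℂ) * (χ₂ : G → ℂ) g := by
    intro g
    conv_lhs => rw [hm]
    rw [Finset.sum_apply, ← Finset.add_sum_erase Finset.univ _ (Finset.mem_univ (irrOne : IrrCharacter G)),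
      Finset.sum_eq_add χ₁ χ₂ hne (fun c hc hc' => by
        simp [h0 c hc hc'.1 hc'.2]) (fun h' => absurd hχ₁ h') (fun h' => absurd hχ₂ h')]
    simp only [Pi.smul_apply, smul_eq_mul, hm1, irrOne_apply, Int.cast_one, mul_one, add_assoc]
  have hχ₁1 : χ₁ ≠ irrOne := (Finset.mem_erase.1 hχ₁).1
  have hχ₂1 : χ₂ ≠ irrOne := (Finset.mem_erase.1 hχ₂).1
  have hw2 : h.w ^ 2 = h.z := by rw [pow_two, h.w_mul_w]
  have hzz : h.z * h.z = 1 := h.mul_self_V1 h.z_mem_V1
  have hz4 : h.z ^ (2 ^ 2) = 1 := by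
    rw [show (2 : ℕ) ^ 2 = 2 * 2 from rfl, pow_mul, pow_two h.z, hzz, one_pow]
  have hw4 : h.w ^ (2 ^ 2) = 1 := by
    rw [show (2 : ℕ) ^ 2 = 4 from rfl, ← h.orderOf_w, pow_orderOf_eq_one]
  have e1 := (hdec 1).symm.trans (D.α_eq_zero (one_pow _))
  have ez := (hdec h.z).symm.trans (D.α_eq_zero hz4)
  have ew := (hdec h.w).symm.trans (D.α_eq_zero hw4)
  have hid : (Nat.card G : ℂ) ^ 2 * (1 + (m χ₁ : ℂ) * ((χ₁ : G → ℂ) h.z ^ 2 / (χ₁ : G → ℂ) 1) +
      (m χ₂ : ℂ) * ((χ₂ : G → ℂ) h.z ^ 2 / (χ₂ : G → ℂ) 1)) =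
        192 * (Nat.card G : ℂ) * (Nat.card h.O : ℂ) ^ 3 := by
    rw [← D.sum_pairs h2 ho h12]
    simp only [hdec, Finset.sum_add_distrib, ← Finset.mul_sum, sum_char_conj χ₁.2, sum_char_conj χ₂.2,
      Finset.sum_const, Finset.card_univ, nsmul_eq_mul, ← Nat.card_eq_fintype_card]
    ring
  have hG0 : (Nat.card G : ℂ) ≠ 0 := card_ne_zero'
  have hd : ∀ χ : IrrCharacter G, (χ : G → ℂ) 1 = (charDegree (χ : G → ℂ) : ℂ) :=
    fun χ => (CfsgLib.CharBlocks.coe_charDegree_irr χ).symm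
  have hdpos : ∀ χ : IrrCharacter G, 0 < charDegree (χ : G → ℂ) := fun χ => by
    have := irr_one_ne_zero χ.2
    rw [hd χ] at this
    exact Nat.pos_of_ne_zero (by exact_mod_cast this)
  have hO1 : (Nat.card h.O1 : ℤ) + Nat.card h.O2 = Nat.card h.O + 1 := by
    rw [h.card_O_eq, h2, Subgroup.card_bot, mul_one]; rfl
  set v := R.δ * (charDegree (R.a : G → ℂ) : ℤ) with hv
  have hv' : v ≤ -3 ∨ 9 ≤ v := by
    have h8 : (8 : ℤ) ∣ v - 1 := R.v_mod
    have h1 : v ≠ 1 := R.v_ne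
    omega
  have hord : (Nat.card G : ℤ) * (v - 1) ^ 2 =
      64 * Nat.card h.O * (Nat.card h.O + 1 : ℤ) ^ 2 * (v * (v + 1)) := hO1 ▸ R.order_eq
  have ho' : (5 : ℤ) ≤ Nat.card h.O := by exact_mod_cast ho
  have ho0 : (Nat.card h.O : ℤ) ≠ 0 := by omega
  -- exactly one of the constituents is nonzero at `w`
  obtain ⟨χ, ψ, hχ1, hψ1, hw0, hχw, hψw, e1', ez', hid', hmχ, hmψ⟩ :
      ∃ χ ψ : IrrCharacter G, χ ≠ irrOne ∧ ψ ≠ irrOne ∧ (χ : G → ℂ) h.w ≠ 0 ∧
        (m χ : ℂ) * (χ : G → ℂ) h.w = -1 ∧ (ψ : G → ℂ) h.w = 0 ∧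
        (1 : ℂ) + (m χ : ℂ) * (χ : G → ℂ) 1 + (m ψ : ℂ) * (ψ : G → ℂ) 1 = 0 ∧
        (1 : ℂ) + (m χ : ℂ) * (χ : G → ℂ) h.z + (m ψ : ℂ) * (ψ : G → ℂ) h.z = 0 ∧
        (Nat.card G : ℂ) * (1 + (m χ : ℂ) * ((χ : G → ℂ) h.z ^ 2 / (χ : G → ℂ) 1) +
          (m ψ : ℂ) * ((ψ : G → ℂ) h.z ^ 2 / (ψ : G → ℂ) 1)) = 192 * (Nat.card h.O : ℂ) ^ 3 ∧
        (m χ = 1 ∨ m χ = -1) ∧ (m ψ = 1 ∨ m ψ = -1) := by
    have hid1 := mul_left_cancel₀ hG0 (a := (Nat.card G : ℂ))
      (b := (Nat.card G : ℂ) * (1 + (m χ₁ : ℂ) * ((χ₁ : G → ℂ) h.z ^ 2 / (χ₁ : G → ℂ) 1) +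
          (m χ₂ : ℂ) * ((χ₂ : G → ℂ) h.z ^ 2 / (χ₂ : G → ℂ) 1)))
      (c := 192 * (Nat.card h.O : ℂ) ^ 3) (by linear_combination hid)
    have hpm : ∀ χ : IrrCharacter G, χ ≠ irrOne → (χ : G → ℂ) h.w ≠ 0 →
        (χ : G → ℂ) h.w = 1 ∨ (χ : G → ℂ) h.w = -1 := by
      intro χ h1 hχ
      rcases R.vanish χ hχ with rfl | rfl | rfl | rfl
      · exact absurd rfl h1
      · rw [R.a_w]; rcases R.hδ with e | e <;> simp [e]
      · rw [R.b_w]; rcases R.ht with e | e <;> simp [e]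
      · rw [R.c_w]; rcases R.ht' with e | e <;> simp [e]
    by_cases hA : (χ₁ : G → ℂ) h.w = 0
    · refine ⟨χ₂, χ₁, hχ₂1, hχ₁1, fun hB => ?_, by rw [hA] at ew; linear_combination ew, hA,
        by linear_combination e1, by linear_combination ez, by linear_combination hid1, he₂, he₁⟩
      rw [hA, hB] at ew; norm_num at ew
    · by_cases hB : (χ₂ : G → ℂ) h.w = 0
      · exact ⟨χ₁, χ₂, hχ₁1, hχ₂1, hA, by rw [hB] at ew; linear_combination ew, hB, e1, ez, hid1, he₁, he₂⟩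
      · exfalso
        rcases hpm χ₁ hχ₁1 hA with p | p <;> rcases hpm χ₂ hχ₂1 hB with q | q <;> rw [p, q] at ew <;>
          rcases he₁ with e | e <;> rcases he₂ with e' | e' <;> rw [e, e'] at ew <;> norm_num at ew
  have h64 : (64 * (Nat.card h.O : ℤ)) ≠ 0 := by omega
  have hdχ : (charDegree (χ : G → ℂ) : ℂ) ≠ 0 := by exact_mod_cast (hdpos χ).ne'
  have hdψ : (charDegree (ψ : G → ℂ) : ℂ) ≠ 0 := by exact_mod_cast (hdpos ψ).ne'
  rw [hd χ, hd ψ] at e1' hid'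
  by_cases hχa : χ = R.a
  · subst hχa
    rw [R.a_w] at hχw
    rw [R.a_z] at ez' hid'
    have hmδ : m R.a = -R.δ := by
      have : m R.a * R.δ = -1 := by exact_mod_cast hχw
      rcases R.hδ with e | e <;> rw [e] at this ⊢ <;> omega
    have hψz : (ψ : G → ℂ) h.z = 0 := by
      rw [hχw] at ez'
      have : (m ψ : ℂ) * (ψ : G → ℂ) h.z = 0 := by linear_combination ez'
      exact (mul_eq_zero.1 this).resolve_left (by rcases hmψ with e | e <;> rw [e] <;> norm_num)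
    rw [hψz, hmδ, zero_pow two_ne_zero, zero_div, mul_zero, add_zero] at hid'
    have hE : (Nat.card G : ℤ) * (v - 1) = 192 * (Nat.card h.O : ℤ) ^ 3 * v := by
      apply Int.cast_injective (α := ℂ)
      rw [hv]
      push_cast at hid' ⊢
      field_simp at hid'
      rcases R.hδ with e | e <;> rw [e] at hid' ⊢ <;> push_cast at hid' ⊢
      · linear_combination hid'
      · linear_combination -hid'
    refine no_case_a ho' hv' (mul_left_cancel₀ h64 ?_)
    have hv0 : v ≠ 0 := by omega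
    refine mul_left_cancel₀ hv0 ?_
    linear_combination -(v - 1) * hord + (v - 1) ^ 2 * hE
  · obtain ⟨t, ht, hw', hz'⟩ : ∃ t : ℤ, (t = 1 ∨ t = -1) ∧ (χ : G → ℂ) h.w = -(t : ℂ) ∧
        (χ : G → ℂ) h.z = t := by
      rcases R.vanish χ hw0 with rfl | rfl | rfl | rfl
      · exact absurd rfl hχ1
      · exact absurd rfl hχa
      · exact ⟨R.t, R.ht, R.b_w, R.b_z⟩
      · exact ⟨R.t', R.ht', R.c_w, R.c_z⟩
    rw [hw'] at hχw
    rw [hz'] at ez' hid'
    have hmt : m χ = t := by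
      have : m χ * -t = -1 := by exact_mod_cast hχw
      rcases ht with e | e <;> rw [e] at this ⊢ <;> omega
    rw [hmt] at e1' ez' hid'
    have htt : (t : ℂ) * t = 1 := by rcases ht with e | e <;> rw [e] <;> norm_num
    set u : ℤ := t * (charDegree (χ : G → ℂ) : ℤ) with hu
    set d₂ : ℕ := charDegree (ψ : G → ℂ) with hd₂
    have hd2 : m ψ * d₂ = -1 - u := by
      apply Int.cast_injective (α := ℂ)
      rw [hu]; push_cast
      linear_combination e1'
    have hψz : (m ψ : ℂ) * (ψ : G → ℂ) h.z = -2 := by linear_combination ez' - htt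
    have hw4' : orderOf h.w = 4 := h.orderOf_w
    have hu4 : 4 ∣ u - 1 := by
      have h4 := four_dvd_degree_sub (f := t) hw4' χ (e := -t) (by rw [hw']; push_cast; rfl) (by rw [hw2]; exact hz')
      rw [hu]
      rcases ht with e | e <;> rw [e] at h4 ⊢ <;> omega
    have hzne : h.z ≠ 1 := fun e => by
      have := h.orderOf_z
      rw [e, orderOf_one] at this; omega
    have hu1 : u ≠ 1 := by
      intro e
      refine hzne (eq_one_of_norm_value hG χ hχ1 ?_)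
      have h1 : t = 1 ∧ charDegree (χ : G → ℂ) = 1 := by
        rw [hu] at e
        rcases ht with e' | e' <;> rw [e'] at e <;> omega
      rw [hz', h1.1, h1.2]; simp
    have hu3 : u ≠ -3 := by
      intro e
      refine hzne (eq_one_of_norm_value hG ψ hψ1 ?_)
      have h2' : d₂ = 2 := by
        rcases hmψ with e' | e' <;> rw [e'] at hd2 <;> omega
      rw [← hd₂, h2']
      have hn := congrArg norm hψz
      rcases hmψ with e' | e' <;> rw [e'] at hn <;> simpa using hn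
    have hu' : u ≤ -7 ∨ 5 ≤ u := by omega
    have hE : (Nat.card G : ℤ) * (u - 1) ^ 2 = 192 * (Nat.card h.O : ℤ) ^ 3 * (u * (u + 1)) := by
      apply Int.cast_injective (α := ℂ)
      push_cast
      have hψz2 : (ψ : G → ℂ) h.z = -2 * (m ψ : ℂ) := by
        have : (m ψ : ℂ) * m ψ = 1 := by rcases hmψ with e | e <;> rw [e] <;> norm_num
        linear_combination (m ψ : ℂ) * hψz - (ψ : G → ℂ) h.z * this
      have hd2' : (d₂ : ℂ) = (m ψ : ℂ) * (-1 - (u : ℂ)) := by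
        have : (m ψ : ℂ) * m ψ = 1 := by rcases hmψ with e | e <;> rw [e] <;> norm_num
        have hd2c : (m ψ : ℂ) * (d₂ : ℂ) = -1 - (u : ℂ) := by exact_mod_cast hd2
        linear_combination (m ψ : ℂ) * hd2c - (d₂ : ℂ) * this
      have hχd : (charDegree (χ : G → ℂ) : ℂ) = (t : ℂ) * u := by
        rw [hu]; push_cast
        linear_combination -(charDegree (χ : G → ℂ) : ℂ) * htt
      have hu0 : (u : ℂ) ≠ 0 := by exact_mod_cast (show u ≠ 0 by omega)
      have hu10 : (u : ℂ) + 1 ≠ 0 := by exact_mod_cast (show u + 1 ≠ 0 by omega)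
      rw [hψz2, hd2', hχd] at hid'
      have hu11 : (-1 : ℂ) - u ≠ 0 := fun e => hu10 (by linear_combination -e)
      rcases ht with e | e <;> rcases hmψ with e' | e' <;> rw [e, e'] at hid' <;> push_cast at hid' <;>
        field_simp at hid' <;> first | linear_combination hid' | linear_combination -hid'
    refine no_case_b ho' hv' R.v_mod hu' hu4 (mul_left_cancel₀ h64 ?_)
    linear_combination (u - 1) ^ 2 * hord * (-1) + (v - 1) ^ 2 * hE

end Hyp

end CfsgLib.SmallCent
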