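import Cfsg.Agent.Lib.SmallCent.Exceptional
import Mathlib.GroupTheory.Transfer

/-!
# The case `O₂ = 1`, `H/O ≅ S₄`: the special classes have no further fusion
-/

set_option autoImplicit false

noncomputable section

namespace CfsgLib.SmallCent

open DihedralGroup CfsgLib.Invol

variable {G : Type*} [Group G] [Finite G]

namespace Hyp

variable {h : Hyp G}

/-- The special elements. -/
def LinData.special (D : LinData h) : Set G := {g | ∃ hg : g ∈ h.L, D.Λ ⟨g, hg⟩ ≠ 1}

theorem LinData.Λ_eq_one_of_pow (D : LinData h) {l : h.L} {k : ℕ} (hk : l ^ (2 ^ k) = 1) : D.Λ l = 1 := by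
  have h1 : orderOf (D.Λ l) ∣ 2 ^ k := orderOf_dvd_of_pow_eq_one (by rw [← map_pow, hk, map_one])
  have h2 : orderOf (D.Λ l) ∣ 3 * Nat.card h.O := orderOf_dvd_of_pow_eq_one (D.pow_eq l)
  exact orderOf_eq_one_iff.1 (Nat.eq_one_of_dvd_coprimes
    ((Nat.coprime_two_left.2 ((by decide : Odd 3).mul h.odd_O)).pow_left k) h1 h2)

/-- An element of `H` that moves `L` into itself normalises the core. -/
theorem mem_H_of_L_conj (h2 : h.O2 = ⊥) (hO : h.O ≠ ⊥) {g : G} (hg : ∀ l ∈ h.L, g * l * g⁻¹ ∈ h.L) : g ∈ h.H := by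
  obtain ⟨x, hx, hx1⟩ : ∃ x ∈ h.O, x ≠ 1 := by
    by_contra hno
    push Not at hno
    exact hO ((Subgroup.eq_bot_iff_forall _).2 hno)
  have heq : h.L.map (MulAut.conj g).toMonoidHom = h.L := by
    refine Subgroup.eq_of_le_of_card_ge ?_ (by rw [Subgroup.card_map_of_injective (MulAut.conj g).injective])
    rintro _ ⟨l, hl, rfl⟩
    exact hg l hl
  obtain ⟨m, hm, hm1, hm2, hm3⟩ := exists_cyc h2
  have hzs : h.z * h.s ≠ h.z := fun e => by
    have h1 : h.s = 1 := mul_eq_left.1 e
    have := h.orderOf_s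
    rw [h1, orderOf_one] at this; omega
  have key : ∀ y ∈ h.O, g * y * g⁻¹ ∈ h.O := by
    intro y hy
    set y' := g * y * g⁻¹ with hy'
    have hy'L : y' ∈ h.L := hg y (h.O_le_L hy)
    have hcen : ∀ l ∈ h.L, Commute y' l := by
      intro l hl
      rw [← heq] at hl
      obtain ⟨l', hl', rfl⟩ := hl
      exact (h.commute_L hl' hy).symm.conj g
    obtain ⟨a, ha, v, hv, e⟩ := h.decomp_x ((O1_eq h2).ge hx) hx1 (hcen _ (V1_le_L h2 h.z_mem_V1)) (h.commute_L hy'L hx)
    have hcv : Commute v m := by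
      have : v = a⁻¹ * y' := by rw [e, inv_mul_cancel_left]
      rw [this]
      exact (h.commute_L hm ha).symm.inv_left.mul_left (hcen m hm)
    have hmv : m * v * m⁻¹ = v := by rw [← hcv.eq, mul_inv_cancel_right]
    rcases h.cases_V1 hv with e1 | e1 | e1 | e1 <;> rw [e1] at hmv
    · rw [e, e1, mul_one]; exact ha
    · rw [hm1] at hmv; exact absurd hmv hzs
    · rw [hm3] at hmv; exact absurd hmv h.z_ne_s
    · rw [hm2] at hmv
      have : h.z = 1 := mul_eq_right.1 hmv.symm
      have h' := h.orderOf_z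
      rw [this, orderOf_one] at h'; omega
  have heqO : h.O.map (MulAut.conj g).toMonoidHom = h.O := by
    refine Subgroup.eq_of_le_of_card_ge ?_ (by rw [Subgroup.card_map_of_injective (MulAut.conj g).injective])
    rintro _ ⟨y, hy, rfl⟩
    exact key y hy
  show g ∈ Subgroup.normalizer (h.O : Set G)
  rw [Subgroup.mem_normalizer_iff]
  intro y
  refine ⟨key y, fun hy => ?_⟩
  rw [← heqO] at hy
  obtain ⟨y', hy', e⟩ := hy
  rwa [← (MulAut.conj g).injective e]

variable [IsSimpleGroup G]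

/-- Moving a nontrivial element of the core inside the core forces membership in `H`. -/
theorem mem_H_of_core_conj (h2 : h.O2 = ⊥) {g x : G} (hx : x ∈ h.O) (hx1 : x ≠ 1) (hgx : g * x * g⁻¹ ∈ h.O) :
    g ∈ h.H := by
  have hO : h.O ≠ ⊥ := fun e => hx1 (Subgroup.mem_bot.1 (e ▸ hx))
  refine mem_H_of_L_conj h2 hO fun l hl => ?_
  rw [← centralizer_eq_L h2 hgx (fun e => hx1 (conj_eq_one_iff.1 e))]
  exact Subgroup.mem_centralizer_singleton_iff.2 ((h.commute_L hl hx).conj g).eq

/-- The fusion of elements of order three in the special set. -/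
theorem LinData.ti_three (D : LinData h) (h2 : h.O2 = ⊥) (ho : 5 ≤ Nat.card h.O)
    (h12 : Nat.card h.L = 12 * Nat.card h.O) (hex : ∀ x ∈ h.O, x ^ 3 = 1) {g t : G} (htL : t ∈ h.L)
    (ht3 : t ^ 3 = 1) (ht : D.Λ ⟨t, htL⟩ ≠ 1) (ht'L : g * t * g⁻¹ ∈ h.L) : g ∈ h.H := by
  classical
  haveI : Fact (Nat.Prime 2) := ⟨Nat.prime_two⟩
  haveI : Fact (Nat.Prime 3) := ⟨Nat.prime_three⟩
  have hO : h.O ≠ ⊥ := fun e => by rw [e, Subgroup.card_bot] at ho; omega
  have hO3 : IsPGroup 3 h.O := fun x => ⟨1, Subtype.ext (by simpa using hex x x.2)⟩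
  obtain ⟨n, hn⟩ := IsPGroup.iff_card.1 hO3
  have hn2 : 2 ≤ n := by
    by_contra hlt
    interval_cases n <;> rw [hn] at ho <;> norm_num at ho
  have hfac : (Nat.card h.L).factorization 3 = n + 1 := by
    rw [h12, hn, show 12 * 3 ^ n = 4 * 3 ^ (n + 1) by ring, Nat.factorization_mul (by norm_num) (by positivity),
      Finsupp.add_apply, Nat.factorization_eq_zero_of_not_dvd (by norm_num), Nat.prime_three.factorization_pow,
      Finsupp.single_eq_same, zero_add]
  obtain ⟨P⟩ := (inferInstance : Nonempty (Sylow 3 h.L))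
  haveI hOn : (h.O.subgroupOf h.L).Normal := Subgroup.normal_subgroupOf_of_le_normalizer h.L_le_H
  have hOP : h.O.subgroupOf h.L ≤ (P : Subgroup h.L) := by
    obtain ⟨Q, hQ⟩ := (hO3.of_equiv (Subgroup.subgroupOfEquivOfLe h.O_le_L).symm).exists_le_sylow
    obtain ⟨k, hk⟩ := MulAction.exists_smul_eq h.L Q P
    intro y hy
    rw [← hk, Sylow.smul_def, Sylow.pointwise_smul_def]
    have : k⁻¹ * y * k ∈ (Q : Subgroup h.L) := hQ (by
      have := hOn.conj_mem y hy k⁻¹
      simpa using this)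
    have h' := Subgroup.smul_mem_pointwise_smul _ (MulAut.conj k) _ this
    simpa [MulAut.smul_def, mul_assoc] using h'
  set Pg := (P : Subgroup h.L).map h.L.subtype with hPg
  have hPc : Nat.card Pg = 3 ^ (n + 1) := by
    rw [hPg, Subgroup.card_map_of_injective h.L.subtype_injective, P.card_eq_multiplicity, hfac]
  have hPL : Pg ≤ h.L := Subgroup.map_subtype_le _
  have hOPg : h.O ≤ Pg := fun y hy => ⟨⟨y, h.O_le_L hy⟩, hOP hy, rfl⟩
  have hPcomm : ∀ a ∈ Pg, ∀ b ∈ Pg, a * b = b * a := by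
    set K := h.O.subgroupOf Pg
    have hKcen : K ≤ Subgroup.center Pg := by
      intro y hy
      rw [Subgroup.mem_center_iff]
      intro a
      exact Subtype.ext (h.commute_L (hPL a.2) hy).eq
    haveI : K.Normal := ⟨fun k hk a => by
      rw [Subgroup.mem_center_iff.1 (hKcen hk) a, mul_inv_cancel_right]; exact hk⟩
    haveI : IsCyclic (Pg ⧸ K) := isCyclic_of_prime_card (p := 3) (by
      have h1 := K.card_mul_index
      rw [Nat.card_congr (Subgroup.subgroupOfEquivOfLe hOPg).toEquiv, hPc, hn, pow_succ, Subgroup.index_eq_card] at h1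
      exact Nat.eq_of_mul_eq_mul_left (pow_pos (by norm_num) n) h1)
    intro a ha b hb
    exact congrArg Subtype.val (commutative_of_cyclic_center_quotient (QuotientGroup.mk' K)
      (by rw [QuotientGroup.ker_mk']; exact hKcen) ⟨a, ha⟩ ⟨b, hb⟩)
  have hmeet : ∀ c : G, (∀ y ∈ h.O, c * y * c⁻¹ ∈ Pg) → c ∈ h.H := by
    intro c hc
    set O' := h.O.map (MulAut.conj c).toMonoidHom with hO'
    have hO'P : O' ≤ Pg := by rintro _ ⟨y, hy, rfl⟩; exact hc y hy
    have hne : h.O ⊓ O' ≠ ⊥ := by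
      intro e
      have hinj : Function.Injective (fun p : h.O × O' =>
          (⟨(p.1 : G) * p.2, mul_mem (hOPg p.1.2) (hO'P p.2.2)⟩ : Pg)) := by
        rintro ⟨a, b⟩ ⟨a', b'⟩ e'
        have e'' : (a : G) * b = a' * b' := congrArg Subtype.val e'
        have h1 : (a' : G)⁻¹ * a = b' * (b : G)⁻¹ := by
          rw [inv_mul_eq_iff_eq_mul, ← mul_assoc, ← e'', mul_inv_cancel_right]
        have hm : (a' : G)⁻¹ * a ∈ h.O ⊓ O' :=
          Subgroup.mem_inf.2 ⟨mul_mem (inv_mem a'.2) a.2, by rw [h1]; exact mul_mem b'.2 (inv_mem b.2)⟩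
        rw [e, Subgroup.mem_bot] at hm
        have ha : (a : G) = a' := (inv_mul_eq_one.1 hm).symm
        exact Prod.ext (Subtype.ext ha) (Subtype.ext (by rw [ha] at e''; exact mul_left_cancel e''))
      have := Nat.card_le_card_of_injective _ hinj
      rw [Nat.card_prod, hPc, hO', Subgroup.card_map_of_injective (MulAut.conj c).injective, hn, pow_succ] at this
      have h9 : 9 ≤ 3 ^ n := le_trans (by norm_num) (Nat.pow_le_pow_right (by norm_num : 0 < 3) hn2)
      nlinarith
    obtain ⟨y, hy, hy1⟩ : ∃ y ∈ h.O ⊓ O', y ≠ 1 := by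
      by_contra hno
      push Not at hno
      exact hne ((Subgroup.eq_bot_iff_forall _).2 hno)
    obtain ⟨x, hx, hxe⟩ := hy.2
    refine mem_H_of_core_conj h2 hx (fun e => hy1 ?_) ?_
    · rw [← hxe, e, map_one]
    · show (MulAut.conj c).toMonoidHom x ∈ h.O
      rw [hxe]; exact hy.1
  have hNH : Subgroup.normalizer (Pg : Set G) ≤ h.H := fun c hc =>
    hmeet c fun y hy => (Subgroup.mem_normalizer_iff.1 hc y).1 (hOPg hy)
  have hfacG : (Nat.card G).factorization 3 = n + 1 := by
    refine le_antisymm ?_ ?_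
    · by_contra hlt
      have hd := Sylow.prime_pow_dvd_card_normalizer (p := 3) (n := n + 1)
        ((Nat.prime_three.pow_dvd_iff_le_factorization Nat.card_pos.ne').2 (by omega)) hPc
      have hd' := hd.trans (Subgroup.card_dvd_of_le hNH)
      rw [card_H h2 hO, h12, hn, show 2 * (12 * 3 ^ n) = 3 ^ (n + 1) * 8 by ring,
        pow_succ 3 (n + 1)] at hd'
      have := Nat.dvd_of_mul_dvd_mul_left (pow_pos (by norm_num) (n + 1)) hd'
      norm_num at this
    · exact (Nat.prime_three.pow_dvd_iff_le_factorization Nat.card_pos.ne').1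
        (hPc ▸ Subgroup.card_subgroup_dvd_card Pg)
  let Q : Sylow 3 G := Sylow.ofCard Pg (by rw [hPc, hfacG])
  have hQ : (Q : Subgroup G) = Pg := Sylow.coe_ofCard _ _
  haveI : IsMulCommutative (Q : Subgroup G) := ⟨⟨fun a b => Subtype.ext (hPcomm _ (hQ ▸ a.2) _ (hQ ▸ b.2))⟩⟩
  -- move both elements into the Sylow subgroup
  have hinto : ∀ a : G, (ha : a ∈ h.L) → a ^ 3 = 1 → ∃ l ∈ h.L, l * a * l⁻¹ ∈ Pg := by
    intro a ha ha3
    have hp : IsPGroup 3 (Subgroup.zpowers (⟨a, ha⟩ : h.L)) := by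
      intro x
      refine ⟨1, Subtype.ext ?_⟩
      obtain ⟨j, hj⟩ := x.2
      rw [SubmonoidClass.coe_pow, pow_one, ← hj]
      show ((⟨a, ha⟩ : h.L) ^ j) ^ 3 = 1
      rw [← zpow_natCast, ← zpow_mul, mul_comm, zpow_mul, zpow_natCast,
        show (⟨a, ha⟩ : h.L) ^ 3 = 1 from Subtype.ext ha3, one_zpow]
    obtain ⟨l, hl⟩ := CfsgLib.Transfer.exists_conj_mem_sylow P hp
    exact ⟨l, l.2, _, hl _ (Subgroup.mem_zpowers _), rfl⟩
  obtain ⟨l, hl, hlt⟩ := hinto t htL ht3
  obtain ⟨l', hl', hlt'⟩ := hinto (g * t * g⁻¹) ht'L (by rw [conj_pow, ht3]; group)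
  set t1 := l * t * l⁻¹ with ht1
  have ht1L : t1 ∈ h.L := mul_mem (mul_mem hl htL) (inv_mem hl)
  have ht1Λ : D.Λ ⟨t1, ht1L⟩ ≠ 1 := by
    rw [show (⟨t1, ht1L⟩ : h.L) = ⟨l, hl⟩ * ⟨t, htL⟩ * (⟨l, hl⟩ : h.L)⁻¹ from Subtype.ext rfl, map_mul, map_mul,
      map_inv, mul_comm (D.Λ ⟨l, hl⟩), mul_inv_cancel_right]
    exact ht
  set g1 := l' * g * l⁻¹ with hg1
  have hg1t : g1⁻¹⁻¹ * t1 * g1⁻¹ ∈ (Q : Subgroup G) := by
    rw [hQ, inv_inv, ht1, hg1]
    convert hlt' using 1
    group
  obtain ⟨m, hm, hme⟩ := Q.conj_eq_normalizer_conj_of_mem t1 g1⁻¹ ((show t1 ∈ (Q : Subgroup G) by rw [hQ]; exact hlt)) hg1t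
  have hmH : m ∈ h.H := hNH (by rw [← hQ]; exact hm)
  have hcent : Commute (m * g1) t1 := by
    refine mul_inv_eq_iff_eq_mul.1 ?_
    calc m * g1 * t1 * (m * g1)⁻¹ = m * (g1⁻¹⁻¹ * t1 * g1⁻¹) * m⁻¹ := by group
      _ = t1 := by rw [hme]; group
  -- the centralizer of `t1` lies in `H`
  suffices hCH : ∀ c : G, Commute c t1 → c ∈ h.H by
    have h1 : g1 ∈ h.H := by
      have := mul_mem (inv_mem hmH) (hCH _ hcent)
      rwa [inv_mul_cancel_left] at this
    have := mul_mem (mul_mem (inv_mem (h.L_le_H hl')) h1) (h.L_le_H hl)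
    rwa [hg1, show l'⁻¹ * (l' * g * l⁻¹) * l = g by group] at this
  have ht1_1 : t1 ≠ 1 := fun e => ht1Λ (by
    rw [show (⟨t1, ht1L⟩ : h.L) = 1 from Subtype.ext e, map_one])
  set X := Subgroup.centralizer ({t1} : Set G) with hX
  have hPX : Pg ≤ X := fun a ha => Subgroup.mem_centralizer_singleton_iff.2 (hPcomm a ha t1 hlt)
  by_cases he : 2 ∣ Nat.card X
  · -- an involution centralizes `t1`
    obtain ⟨i, hi⟩ := exists_prime_orderOf_dvd_card' (G := X) 2 he
    have hi2 : orderOf (i : G) = 2 := by rw [Subgroup.orderOf_coe]; exact hi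
    have ht1o : ¬ 2 ∣ orderOf t1 := by
      intro h'
      have : orderOf t1 ∣ 3 := orderOf_dvd_of_pow_eq_one (by rw [ht1, conj_pow, ht3]; group)
      exact absurd (h'.trans this) (by norm_num)
    obtain ⟨y, hy, hye⟩ : t1 ∈ h.oddC i :=
      (h.mem_oddC hi2).2 ⟨(show Commute (i : G) t1 from Subgroup.mem_centralizer_singleton_iff.1 i.2).symm, ht1o⟩
    set c := h.toInv i with hc
    have hy1 : y ≠ 1 := fun e => ht1_1 (by rw [← hye, e, map_one])
    have hXc : ∀ a : G, Commute a t1 ↔ c⁻¹ * a * c ∈ h.L := by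
      intro a
      rw [← centralizer_eq_L h2 hy hy1, Subgroup.mem_centralizer_singleton_iff,
        show t1 = c * y * c⁻¹ from hye.symm]
      constructor
      · intro hh
        have := (show Commute a (c * y * c⁻¹) from hh).conj c⁻¹
        rw [inv_inv, show c⁻¹ * (c * y * c⁻¹) * c = y by group] at this
        exact this.eq
      · intro hh
        have := (show Commute (c⁻¹ * a * c) y from hh).conj c
        rwa [show c * (c⁻¹ * a * c) * c⁻¹ = a by group] at this
    have hcH : c ∈ h.H := by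
      refine hmeet c fun x hx => ?_
      -- `c O c⁻¹` is a central 3-subgroup of `X`, so lies in `Pg`
      have hxX : c * x * c⁻¹ ∈ X := Subgroup.mem_centralizer_singleton_iff.2 ((hXc _).2 (by
        rw [show c⁻¹ * (c * x * c⁻¹) * c = x by group]; exact h.O_le_L hx)).eq
      have hcomm : ∀ a ∈ Pg, Commute a (c * x * c⁻¹) := by
        intro a ha
        have haL := (hXc a).1 (Subgroup.mem_centralizer_singleton_iff.1 (hPX ha))
        have := (h.commute_L haL hx).conj c
        rwa [show c * (c⁻¹ * a * c) * c⁻¹ = a by group] at this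
      have hp : IsPGroup 3 (Subgroup.zpowers (c * x * c⁻¹)) := by
        refine IsPGroup.of_card_dvd_pow (n := 1) ?_
        rw [Nat.card_zpowers, pow_one]
        exact orderOf_dvd_of_pow_eq_one (by rw [conj_pow, hex x hx]; group)
      have hn' : Subgroup.zpowers (c * x * c⁻¹) ≤ Subgroup.normalizer ((Q : Subgroup G) : Set G) := by
        rw [Subgroup.zpowers_le, hQ, Subgroup.mem_normalizer_iff]
        intro a
        constructor
        · intro ha; rw [← (hcomm a ha).eq, mul_inv_cancel_right]; exact ha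
        · intro ha
          have h' := (hcomm _ ha).eq
          have : a = c * x * c⁻¹ * a * (c * x * c⁻¹)⁻¹ := by
            have e2 := mul_left_cancel (a := c * x * c⁻¹) (by
              calc c * x * c⁻¹ * (c * x * c⁻¹ * a * (c * x * c⁻¹)⁻¹)
                  = c * x * c⁻¹ * a * (c * x * c⁻¹)⁻¹ * (c * x * c⁻¹) := h'.symm
                _ = c * x * c⁻¹ * a := by group)
            exact e2.symm
          rw [this]; exact ha
      have hsup := hp.to_sup_of_normal_right' Q.2 hn'
      have := (Q.3 hsup le_sup_right).le (Subgroup.mem_sup_left (Subgroup.mem_zpowers _))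
      rwa [hQ] at this
    intro a ha
    have := mul_mem (mul_mem hcH (h.L_le_H ((hXc a).1 ha))) (inv_mem hcH)
    rwa [show c * (c⁻¹ * a * c) * c⁻¹ = a by group] at this
  · -- odd centralizer: Burnside's transfer theorem
    obtain ⟨PX, hPXe⟩ : ∃ PX : Sylow 3 X, (PX : Subgroup X) = Pg.subgroupOf X := by
      refine ⟨Sylow.ofCard (Pg.subgroupOf X) ?_, Sylow.coe_ofCard _ _⟩
      rw [Nat.card_congr (Subgroup.subgroupOfEquivOfLe hPX).toEquiv, hPc]
      congr 1
      refine le_antisymm ((Nat.prime_three.pow_dvd_iff_le_factorization Nat.card_pos.ne').1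
        (hPc ▸ Subgroup.card_dvd_of_le hPX)) (hfacG ▸ ?_)
      exact (Nat.factorization_le_iff_dvd Nat.card_pos.ne' Nat.card_pos.ne').2 (Subgroup.card_subgroup_dvd_card X) 3
    have hXodd : Odd (Nat.card X) := Nat.not_even_iff_odd.1 fun e => he (even_iff_two_dvd.1 e)
    have hle : Subgroup.normalizer ((PX : Subgroup X) : Set X) ≤ Subgroup.centralizer ((PX : Subgroup X) : Set X) := by
      intro k hk
      have hkn : (k : G) ∈ Subgroup.normalizer (Pg : Set G) := by
        rw [Subgroup.mem_normalizer_iff]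
        intro a
        have hiff := fun b : X => Subgroup.mem_normalizer_iff.1 hk b
        simp only [hPXe, Subgroup.mem_subgroupOf, Subgroup.coe_mul, Subgroup.coe_inv] at hiff
        constructor
        · intro ha; exact (hiff ⟨a, hPX ha⟩).1 ha
        · intro ha
          have haX : a ∈ X := by
            have := mul_mem (mul_mem (inv_mem k.2) (hPX ha)) k.2
            rwa [show (k : G)⁻¹ * ((k : G) * a * (k : G)⁻¹) * k = a by group] at this
          exact (hiff ⟨a, haX⟩).2 ha
      have hkL : (k : G) ∈ h.L := odd_mem_L h2 hO (hNH hkn) (not_two_dvd_orderOf hXodd k.2)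
      -- an odd element of `L` normalising `Pg` lies in it
      have hkP : (k : G) ∈ Pg := by
        have hko : orderOf (k : G) ∣ 3 ^ (n + 1) := by
          have h1 : orderOf (k : G) ∣ 4 * 3 ^ (n + 1) := by
            have := Subgroup.orderOf_mk (H := h.L) (k : G) hkL ▸ orderOf_dvd_natCard (⟨(k : G), hkL⟩ : h.L)
            rwa [h12, hn, show 12 * 3 ^ n = 4 * 3 ^ (n + 1) by ring] at this
          refine Nat.Coprime.dvd_of_dvd_mul_left ?_ h1
          exact ((Nat.prime_two.coprime_iff_not_dvd.2 (not_two_dvd_orderOf hXodd k.2)).symm.pow_right 2)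
        have hp : IsPGroup 3 (Subgroup.zpowers (k : G)) :=
          IsPGroup.of_card_dvd_pow (n := n + 1) (by rw [Nat.card_zpowers]; exact hko)
        have hsup := hp.to_sup_of_normal_right' Q.2 (by rw [Subgroup.zpowers_le, hQ]; exact hkn)
        have := (Q.3 hsup le_sup_right).le (Subgroup.mem_sup_left (Subgroup.mem_zpowers _))
        rwa [hQ] at this
      refine Subgroup.mem_centralizer_iff.2 fun a ha => Subtype.ext ?_
      rw [hPXe] at ha
      exact hPcomm _ ha _ hkP
    set M := (MonoidHom.transferSylow PX hle).ker with hM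
    have hMc : ¬ 3 ∣ Nat.card M := MonoidHom.not_dvd_card_ker_transferSylow PX hle
    have hMbot : M = ⊥ := by
      set M' := M.map X.subtype with hM'
      have hnc : ¬ IsCyclic h.O := fun hc => by
        obtain ⟨a, ha⟩ := hc.exists_ofOrder_eq_natCard
        have : orderOf a ∣ 3 := orderOf_dvd_of_pow_eq_one (Subtype.ext (by simpa using hex a a.2))
        rw [ha] at this
        have := Nat.le_of_dvd (by norm_num) this
        omega
      have hM'c : Nat.card M' = Nat.card M := Subgroup.card_map_of_injective X.subtype_injective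
      have hnorm : h.O ≤ Subgroup.normalizer (M' : Set G) := by
        intro y hy
        have key : ∀ k : X, ∀ b ∈ M', (k : G) * b * (k : G)⁻¹ ∈ M' := by
          rintro k _ ⟨b, hb, rfl⟩
          exact ⟨k * b * k⁻¹, (inferInstance : M.Normal).conj_mem b hb k, rfl⟩
        rw [Subgroup.mem_normalizer_iff]
        intro b
        refine ⟨key ⟨y, hPX (hOPg hy)⟩ b, fun hb => ?_⟩
        have := key ⟨y, hPX (hOPg hy)⟩⁻¹ _ hb
        simpa [mul_assoc] using this
      have hgen := CfsgLib.Solvable.iSup_centralizer_eq (A := h.O) (K := M')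
        (fun a ha b hb => (h.O_comm ha hb).eq) hnc hnorm
        (by rw [hn, hM'c]; exact (Nat.prime_three.coprime_iff_not_dvd.2 hMc).pow_left n)
      have hbot : M' = ⊥ := by
        rw [← hgen, ← le_bot_iff]
        refine iSup₂_le fun a ha b hb => ?_
        rw [Subgroup.mem_bot]
        have hbL : b ∈ h.L := by
          rw [← centralizer_eq_L h2 ha.1 ha.2]; exact hb.2
        have hbo : ¬ 3 ∣ orderOf b := fun h' =>
          hMc (hM'c ▸ h'.trans (Subgroup.orderOf_mk b hb.1 ▸ orderOf_dvd_natCard _))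
        have hb2 : ¬ 2 ∣ orderOf b :=
          not_two_dvd_orderOf hXodd ((Subgroup.map_subtype_le M) hb.1)
        have hd := Subgroup.orderOf_mk b hbL ▸ orderOf_dvd_natCard (⟨b, hbL⟩ : h.L)
        rw [h12, hn, show 12 * 3 ^ n = 2 ^ 2 * 3 ^ (n + 1) by ring] at hd
        have hc : Nat.Coprime (orderOf b) (2 ^ 2 * 3 ^ (n + 1)) :=
          ((Nat.prime_two.coprime_iff_not_dvd.2 hb2).symm.pow_right 2).mul_right
            ((Nat.prime_three.coprime_iff_not_dvd.2 hbo).symm.pow_right _)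
        exact orderOf_eq_one_iff.1 (Nat.eq_one_of_dvd_coprimes hc dvd_rfl hd)
      exact Subgroup.map_eq_bot_iff_of_injective _ X.subtype_injective |>.1 hbot
    intro a ha
    have hc := MonoidHom.ker_transferSylow_isComplement' PX hle
    rw [← hM, hMbot, Subgroup.isComplement'_bot_left] at hc
    have : (⟨a, Subgroup.mem_centralizer_singleton_iff.2 ha.eq⟩ : X) ∈ (PX : Subgroup X) := hc ▸ Subgroup.mem_top _
    rw [hPXe, Subgroup.mem_subgroupOf] at this
    exact h.L_le_H (hPL this)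

/-- **The special set is fused only by `H`.** -/
theorem LinData.ti (D : LinData h) (h2 : h.O2 = ⊥) (ho : 5 ≤ Nat.card h.O)
    (h12 : Nat.card h.L = 12 * Nat.card h.O) {g t : G} (ht : t ∈ D.special) (hgt : g * t * g⁻¹ ∈ D.special) :
    g ∈ h.H := by
  haveI : Fact (Nat.Prime 2) := ⟨Nat.prime_two⟩
  obtain ⟨htL, htΛ⟩ := ht
  obtain ⟨ht'L, -⟩ := hgt
  have hO : h.O ≠ ⊥ := fun e => by rw [e, Subgroup.card_bot] at ho; omega
  by_cases h6 : t ^ 6 = 1
  swap
  · refine mem_H_of_core_conj h2 (D.pow_six t htL) h6 ?_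
    have := D.pow_six _ ht'L
    rwa [conj_pow] at this
  have hex : ∀ x ∈ h.O, x ^ 3 = 1 := by
    by_contra hno
    push Not at hno
    exact htΛ (D.six hno ⟨t, htL⟩ (Subtype.ext h6))
  by_cases h3 : t ^ 3 = 1
  · exact D.ti_three h2 ho h12 hex htL h3 htΛ ht'L
  -- otherwise the square is a nontrivial element of the core
  have key : ∀ a ∈ h.L, a ^ 6 = 1 → a ^ 3 ≠ 1 → a ^ 2 ∈ h.O := by
    intro a ha ha6 ha3
    have hv : a ^ 3 ∈ h.V1 := D.invol _ (pow_mem ha 3) (by rw [← pow_add]; exact ha6)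
    have hv2 : orderOf (a ^ 3) = 2 := orderOf_eq_prime (by rw [pow_two]; exact h.mul_self_V1 hv) ha3
    obtain ⟨l, hl, hle⟩ := L_fused h2 hO (pow_mem ha 3) hv2
    obtain ⟨x, hx, hx1⟩ : ∃ x ∈ h.O, x ≠ 1 := by
      by_contra hno
      push Not at hno
      exact hO ((Subgroup.eq_bot_iff_forall _).2 hno)
    have hc : Commute (l⁻¹ * a * l) h.z := by
      have := (Commute.self_pow a 3).conj l⁻¹
      rwa [inv_inv, ← hle, show l⁻¹ * (l * h.z * l⁻¹) * l = h.z by group] at this
    have hbL : l⁻¹ * a * l ∈ h.L := mul_mem (mul_mem (inv_mem hl) ha) hl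
    obtain ⟨y, hy, v, hv', e⟩ := h.decomp_x ((O1_eq h2).ge hx) hx1 hc (h.commute_L hbL hx)
    have hsq : (l⁻¹ * a * l) ^ 2 = y * y := by
      have hyv : Commute v y := h.commute_L (V1_le_L h2 hv') hy
      calc (l⁻¹ * a * l) ^ 2 = y * v * (y * v) := by rw [e, pow_two]
        _ = y * (v * y) * v := by group
        _ = y * y * (v * v) := by rw [hyv.eq]; group
        _ = y * y := by rw [h.mul_self_V1 hv', mul_one]
    have : a ^ 2 = l * (y * y) * l⁻¹ := by
      rw [← hsq, pow_two, pow_two]; group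
    rw [this]
    exact (Subgroup.mem_normalizer_iff.1 (h.L_le_H hl) _).1 (mul_mem hy hy)
  refine mem_H_of_core_conj h2 (key t htL h6 h3) (fun e => ?_) ?_
  · refine htΛ (D.Λ_eq_one_of_pow (k := 1) (Subtype.ext ?_))
    simpa using e
  · rw [← conj_pow]
    exact key _ ht'L (by rw [conj_pow, h6]; group) (fun e => h3 (conj_eq_one_iff.1 (by rwa [conj_pow] at e)))

end Hyp

end CfsgLib.SmallCent
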