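import Cfsg.Agent.Lib.SmallCent.OneSideCent
import Mathlib.GroupTheory.FiniteAbelian.Duality
import Mathlib.RingTheory.RootsOfUnity.AlgebraicallyClosed
import Mathlib.Analysis.Complex.Polynomial.Basic

/-!
# The case `O₂ = 1`, `H/O ≅ S₄`: the linear character of `L`
-/

set_option autoImplicit false

noncomputable section

namespace CfsgLib.SmallCent

open DihedralGroup CfsgLib.Invol

variable {G : Type*} [Group G] [Finite G]

namespace Hyp

variable {h : Hyp G}

theorem alt_four_invol : ∀ a b : Equiv.Perm (Fin 4), Equiv.Perm.sign a = 1 → Equiv.Perm.sign b = 1 →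
    a * a = 1 → b * b = 1 → a * b = b * a := by decide +kernel

/-- The involutions of `L` are those of the four-group. -/
theorem mem_V1_of_invol [IsSimpleGroup G] (h2 : h.O2 = ⊥) (hO : h.O ≠ ⊥)
    (h12 : Nat.card h.L = 12 * Nat.card h.O) {t : G} (ht : t ∈ h.L) (ht2 : t * t = 1) : t ∈ h.V1 := by
  haveI : Fact (Nat.Prime 2) := ⟨Nat.prime_two⟩
  obtain ⟨hn, h45⟩ := quotient_cases h2 hO
  obtain ⟨e⟩ : Nonempty (h.H ⧸ h.O.subgroupOf h.H ≃* Equiv.Perm (Fin 4)) := by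
    refine h45.resolve_right fun h5 => ?_
    have e1 := card_H_eq (h := h)
    rw [card_H h2 hO, Nat.card_congr h5.some.toEquiv, Nat.card_perm, Nat.card_fin,
      show Nat.factorial 5 = 120 from rfl, h12] at e1
    have : 0 < Nat.card h.O := Nat.card_pos
    omega
  set KH := h.O.subgroupOf h.H
  let f : h.H →* Equiv.Perm (Fin 4) := e.toMonoidHom.comp (QuotientGroup.mk' KH)
  have hfker : f.ker = KH := by
    ext g
    show e (QuotientGroup.mk' KH g) = 1 ↔ g ∈ KH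
    rw [EmbeddingLike.map_eq_one_iff]
    exact QuotientGroup.eq_one_iff g
  have hA : (h.L.subgroupOf h.H).map f = alternatingGroup (Fin 4) := Equiv.Perm.eq_alternatingGroup_of_index_eq_two (by
    rw [Subgroup.index_map_eq _ (e.surjective.comp (QuotientGroup.mk'_surjective KH))
      (hfker.le.trans fun k hk => h.O_le_L hk), index_L h2 hO])
  have hzL : h.z ∈ h.L := V1_le_L h2 h.z_mem_V1
  set tH : h.H := ⟨t, h.L_le_H ht⟩
  set zH : h.H := ⟨h.z, h.L_le_H hzL⟩
  have hsign : ∀ g : h.H, (g : G) ∈ h.L → Equiv.Perm.sign (f g) = 1 := fun g hg =>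
    Equiv.Perm.mem_alternatingGroup.1 (hA ▸ ⟨g, hg, rfl⟩)
  have hzz : h.z * h.z = 1 := h.mul_self_V1 h.z_mem_V1
  have hcomm := alt_four_invol (f tH) (f zH) (hsign tH ht) (hsign zH hzL)
    (by rw [← map_mul, ← map_one f]; exact congrArg f (Subtype.ext ht2))
    (by rw [← map_mul, ← map_one f]; exact congrArg f (Subtype.ext hzz))
  have hmem : tH * zH * tH⁻¹ * zH⁻¹ ∈ KH := by
    rw [← hfker, MonoidHom.mem_ker, map_mul, map_mul, map_mul, map_inv, map_inv, hcomm]; group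
  set k := t * h.z * t⁻¹ * h.z⁻¹ with hk
  have hkO : k ∈ h.O := hmem
  have hk1 : k = 1 := by
    refine eq_one_of_commute_inverted (t := t) (h.not_two_dvd_of_mem hkO) (h.commute_L ht hkO).symm ?_
    have hti : t⁻¹ = t := inv_eq_of_mul_eq_one_right ht2
    have hzi : h.z⁻¹ = h.z := inv_eq_of_mul_eq_one_right hzz
    rw [hk, mul_inv_rev, mul_inv_rev, mul_inv_rev, inv_inv, inv_inv, hzi, hti]
    calc t * (t * h.z * t * h.z) * t = (t * t) * (h.z * t * h.z * t) := by group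
      _ = h.z * (t * (h.z * t)) := by rw [ht2, one_mul]; group
  have hc : Commute t h.z := by
    rw [hk, mul_inv_eq_one] at hk1
    exact mul_inv_eq_iff_eq_mul.1 hk1
  obtain ⟨x, hx, hx1⟩ : ∃ x ∈ h.O, x ≠ 1 := by
    by_contra hno
    push Not at hno
    exact hO ((Subgroup.eq_bot_iff_forall _).2 hno)
  obtain ⟨y, hy, v, hv, rfl⟩ := h.decomp_x ((O1_eq h2).ge hx) hx1 hc (h.commute_L ht hx)
  have hyv : Commute v y := h.commute_L (V1_le_L h2 hv) hy
  have hy2 : orderOf y ∣ 2 := orderOf_dvd_of_pow_eq_one (by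
    calc y ^ 2 = y * y * (v * v) := by rw [h.mul_self_V1 hv, mul_one, pow_two]
      _ = y * (y * v) * v := by group
      _ = y * (v * y) * v := by rw [hyv.eq]
      _ = y * v * (y * v) := by group
      _ = 1 := ht2)
  rw [orderOf_eq_one_iff.1 (Nat.eq_one_of_dvd_coprimes
    (Nat.prime_two.coprime_iff_not_dvd.2 (h.not_two_dvd_of_mem hy)).symm dvd_rfl hy2), one_mul]
  exact hv

/-- The linear character used for the exceptional characters. -/
structure LinData (h : Hyp G) where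
  Λ : h.L →* ℂˣ
  x₀ : G
  x₀_mem : x₀ ∈ h.O
  x₀_ne : ∀ hx : x₀ ∈ h.L, Λ ⟨x₀, hx⟩ ≠ 1
  pow_eq : ∀ l : h.L, Λ l ^ (3 * Nat.card h.O) = 1
  conj_u : ∀ (l : h.L) (hu : h.u * l * h.u⁻¹ ∈ h.L), Λ ⟨h.u * l * h.u⁻¹, hu⟩ * Λ l = 1
  six : (∃ x ∈ h.O, x ^ 3 ≠ 1) → ∀ l : h.L, l ^ 6 = 1 → Λ l = 1
  u_cent : ∀ l ∈ h.L, Commute l h.u → l = 1 ∨ l = h.z
  invol : ∀ t ∈ h.L, t * t = 1 → t ∈ h.V1
  pow_six : ∀ l ∈ h.L, l ^ 6 ∈ h.O

theorem exists_linData [IsSimpleGroup G] (h2 : h.O2 = ⊥) (hO : h.O ≠ ⊥)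
    (h12 : Nat.card h.L = 12 * Nat.card h.O) : Nonempty (LinData h) := by
  classical
  haveI : Fact (Nat.Prime 2) := ⟨Nat.prime_two⟩
  haveI : Fact (Nat.Prime 3) := ⟨Nat.prime_three⟩
  set N := h.V1.subgroupOf h.L with hN
  have hVL : h.V1 ≤ h.L := V1_le_L h2
  have hinv : ∀ t ∈ h.L, t * t = 1 → t ∈ h.V1 := fun t ht h' => mem_V1_of_invol h2 hO h12 ht h'
  haveI : N.Normal := ⟨fun n hn g => by
    rw [hN, Subgroup.mem_subgroupOf] at hn ⊢
    refine hinv _ (g * n * g⁻¹).2 ?_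
    have : (n : h.L) * n = 1 := Subtype.ext (h.mul_self_V1 hn)
    have e : g * n * g⁻¹ * (g * n * g⁻¹) = 1 := by
      calc g * n * g⁻¹ * (g * n * g⁻¹) = g * (n * n) * g⁻¹ := by group
        _ = 1 := by rw [this]; group
    exact congrArg Subtype.val e⟩
  let M := h.L ⧸ N
  let p : h.L →* M := QuotientGroup.mk' N
  have hMc : Nat.card M = 3 * Nat.card h.O := by
    have h1 := N.card_mul_index
    rw [Nat.card_congr (Subgroup.subgroupOfEquivOfLe hVL).toEquiv, h.card_V1, h12, Subgroup.index_eq_card] at h1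
    show Nat.card (h.L ⧸ N) = _
    omega
  have hp0 : ∀ y : h.L, (y : G) ∈ h.O → p y = 1 → y = 1 := by
    intro y hy hpy
    rw [QuotientGroup.mk'_apply, QuotientGroup.eq_one_iff, hN, Subgroup.mem_subgroupOf] at hpy
    exact Subtype.ext (orderOf_eq_one_iff.1 (Nat.eq_one_of_dvd_coprimes
      (Nat.prime_two.coprime_iff_not_dvd.2 (h.not_two_dvd_of_mem hy)).symm dvd_rfl
      (orderOf_dvd_of_pow_eq_one (by rw [pow_two]; exact h.mul_self_V1 hpy))))
  set Z := (h.O.subgroupOf h.L).map p with hZ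
  have hZc : Nat.card Z = Nat.card h.O := by
    rw [hZ, ← Nat.card_congr (Subgroup.subgroupOfEquivOfLe h.O_le_L).toEquiv]
    refine (Nat.card_congr ?_).symm
    refine Equiv.ofBijective (fun y => ⟨p y.1, y.1, y.2, rfl⟩) ⟨?_, ?_⟩
    · intro a b e
      have e' : p a.1 = p b.1 := congrArg Subtype.val e
      have := hp0 (a.1⁻¹ * b.1) (mul_mem (inv_mem a.2) b.2) (by rw [map_mul, map_inv, e', inv_mul_cancel])
      exact Subtype.ext (inv_mul_eq_one.1 this)
    · rintro ⟨_, y, hy, rfl⟩; exact ⟨⟨y, hy⟩, rfl⟩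
  have hZcen : Z ≤ Subgroup.center M := by
    rintro _ ⟨y, hy, rfl⟩
    rw [Subgroup.mem_center_iff]
    intro a
    obtain ⟨l, rfl⟩ := QuotientGroup.mk'_surjective N a
    show p l * p y = p y * p l
    rw [← map_mul, ← map_mul]
    exact congrArg p (Subtype.ext (h.commute_L l.2 hy).eq)
  haveI hZn : Z.Normal := ⟨fun n hn g => by
    rw [(Subgroup.mem_center_iff.1 (hZcen hn) g), mul_inv_cancel_right]; exact hn⟩
  haveI : IsCyclic (M ⧸ Z) := isCyclic_of_prime_card (p := 3) (by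
    have h1 := Z.card_mul_index
    rw [hZc, hMc, Subgroup.index_eq_card, mul_comm 3] at h1
    exact Nat.eq_of_mul_eq_mul_left Nat.card_pos h1)
  letI : CommGroup M :=
    { (inferInstance : Group M) with
      mul_comm := commutative_of_cyclic_center_quotient (QuotientGroup.mk' Z)
        (by rw [QuotientGroup.ker_mk']; exact hZcen) }
  -- the subgroup to kill
  let T : Subgroup M := if (∃ x ∈ h.O, x ^ 3 ≠ 1) then (powMonoidHom 3 : M →* M).ker else ⊥
  obtain ⟨x₀, hx₀, hx₀T⟩ : ∃ x, ∃ hx : x ∈ h.O, p ⟨x, h.O_le_L hx⟩ ∉ T := by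
    by_cases hex : ∃ x ∈ h.O, x ^ 3 ≠ 1
    · obtain ⟨x, hx, hx3⟩ := hex
      refine ⟨x, hx, fun hT => hx3 ?_⟩
      simp only [T, if_pos (⟨x, hx, hx3⟩ : ∃ x ∈ h.O, x ^ 3 ≠ 1)] at hT
      rw [MonoidHom.mem_ker, powMonoidHom_apply, ← map_pow] at hT
      exact congrArg Subtype.val (hp0 _ (pow_mem hx 3) hT)
    · obtain ⟨x, hx, hx1⟩ : ∃ x ∈ h.O, x ≠ 1 := by
        by_contra hno
        push Not at hno
        exact hO ((Subgroup.eq_bot_iff_forall _).2 hno)
      refine ⟨x, hx, fun hT => hx1 ?_⟩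
      simp only [T, if_neg hex, Subgroup.mem_bot] at hT
      exact congrArg Subtype.val (hp0 _ hx hT)
  have hne : (QuotientGroup.mk (p ⟨x₀, h.O_le_L hx₀⟩) : M ⧸ T) ≠ 1 := fun e => hx₀T ((QuotientGroup.eq_one_iff _).1 e)
  obtain ⟨χ, hχ⟩ := CommGroup.exists_apply_ne_one_of_hasEnoughRootsOfUnity (M ⧸ T) ℂ hne
  let Λ : h.L →* ℂˣ := χ.comp ((QuotientGroup.mk' T).comp p)
  -- the action of `u`
  have huu : h.u * h.u = 1 := by rw [← pow_two, ← h.orderOf_u, pow_orderOf_eq_one]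
  have hui : h.u⁻¹ = h.u := inv_eq_of_mul_eq_one_right huu
  have huH : h.u ∈ h.H := h.C_le_H h.u_mem_C
  have hzu : h.u * h.z * h.u⁻¹ = h.z := by rw [(h.commute_u_z).eq, mul_inv_cancel_right]
  have hsu : h.u * h.s * h.u⁻¹ = h.z * h.s := by
    rw [u, s, z, ← map_inv, ← map_mul, ← map_mul, ← map_mul]; rfl
  have hzne : h.z * h.s ≠ h.s := fun e => by
    have h1 : h.z = 1 := mul_eq_right.1 e
    have := h.orderOf_z
    rw [h1, orderOf_one] at this
    omega
  have hfix : ∀ b : h.L, ∀ v ∈ h.V1, h.u * b * h.u⁻¹ = (b : G) * v → p b = 1 := by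
    intro b v hv e
    have hbz : (b : G) * h.z * (b : G)⁻¹ ∈ h.V1 := by
      have := (inferInstance : N.Normal).conj_mem ⟨h.z, hVL h.z_mem_V1⟩
        (by rw [hN, Subgroup.mem_subgroupOf]; exact h.z_mem_V1) b
      rw [hN, Subgroup.mem_subgroupOf] at this
      exact this
    have hufix : h.u * ((b : G) * h.z * (b : G)⁻¹) * h.u⁻¹ = (b : G) * h.z * (b : G)⁻¹ := by
      calc h.u * ((b : G) * h.z * (b : G)⁻¹) * h.u⁻¹
          = (h.u * b * h.u⁻¹) * (h.u * h.z * h.u⁻¹) * (h.u * b * h.u⁻¹)⁻¹ := by group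
        _ = (b : G) * (v * h.z * v⁻¹) * (b : G)⁻¹ := by rw [hzu, e]; group
        _ = _ := by rw [(h.commute_V1 hv h.z_mem_V1).eq, mul_inv_cancel_right]
    have hbc : Commute (b : G) h.z := by
      refine mul_inv_eq_iff_eq_mul.1 ?_
      rcases h.cases_V1 hbz with e1 | e1 | e1 | e1
      · exfalso
        have := congrArg orderOf e1
        rw [CfsgLib.Invol.orderOf_conj_eq, h.orderOf_z, orderOf_one] at this; omega
      · exact e1
      · rw [e1, hsu] at hufix; exact absurd hufix hzne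
      · rw [e1] at hufix
        exfalso
        have : h.u * (h.z * h.s) * h.u⁻¹ = h.s := by
          calc h.u * (h.z * h.s) * h.u⁻¹ = (h.u * h.z * h.u⁻¹) * (h.u * h.s * h.u⁻¹) := by group
            _ = h.s := by rw [hzu, hsu, ← mul_assoc, h.mul_self_V1 h.z_mem_V1, one_mul]
        exact hzne (hufix.symm.trans this)
    obtain ⟨x, hx, hx1⟩ : ∃ x ∈ h.O, x ≠ 1 := by
      by_contra hno
      push Not at hno
      exact hO ((Subgroup.eq_bot_iff_forall _).2 hno)
    obtain ⟨y, hy, v', hv', eb⟩ := h.decomp_x ((O1_eq h2).ge hx) hx1 hbc (h.commute_L b.2 hx)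
    have eb' : b = ⟨y, h.O_le_L hy⟩ * ⟨v', hVL hv'⟩ := Subtype.ext eb
    have hpv : p ⟨v', hVL hv'⟩ = 1 := (QuotientGroup.eq_one_iff _).2 (by rw [hN, Subgroup.mem_subgroupOf]; exact hv')
    rw [eb', map_mul, hpv, mul_one]
    have hy2 : (y * y : G) ∈ h.V1 := by
      have huv : h.u * v' * h.u⁻¹ ∈ h.V1 := hinv _ (h.L_conj huH (hVL hv')) (by
        calc _ = h.u * (v' * v') * h.u⁻¹ := by group
          _ = 1 := by rw [h.mul_self_V1 hv']; group)
      have h1 : y⁻¹ * (h.u * v' * h.u⁻¹) = y * (v' * v) := by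
        calc y⁻¹ * (h.u * v' * h.u⁻¹) = (h.u * y * h.u⁻¹) * (h.u * v' * h.u⁻¹) := by rw [u_inverts_O h2 hy]
          _ = h.u * (y * v') * h.u⁻¹ := by group
          _ = y * (v' * v) := by rw [← eb, e, eb]; group
      have hcy : Commute (y : G) (h.u * v' * h.u⁻¹) := (h.commute_L (hVL huv) hy).symm
      have h2' : (y * y : G) = (h.u * v' * h.u⁻¹) * (v' * v)⁻¹ := by
        rw [eq_mul_inv_iff_mul_eq]
        calc y * y * (v' * v) = y * (y⁻¹ * (h.u * v' * h.u⁻¹)) := by rw [mul_assoc, h1]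
          _ = _ := by group
      rw [h2']
      exact mul_mem huv (inv_mem (mul_mem hv' hv))
    have hy1 : (y : G) = 1 := by
      have hsq := h.mul_self_V1 hy2
      have h4 : orderOf y ∣ 2 ^ 2 := orderOf_dvd_of_pow_eq_one (by rw [show (2 : ℕ) ^ 2 = 2 * 2 from rfl, pow_mul, pow_two, pow_two]; exact hsq)
      exact orderOf_eq_one_iff.1 (Nat.eq_one_of_dvd_coprimes
        ((Nat.prime_two.coprime_iff_not_dvd.2 (h.not_two_dvd_of_mem hy)).symm.pow_right 2) dvd_rfl h4)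
    rw [show (⟨y, h.O_le_L hy⟩ : h.L) = 1 from Subtype.ext hy1, map_one]
  have hconj : ∀ (l : h.L) (hu : h.u * l * h.u⁻¹ ∈ h.L), p ⟨h.u * l * h.u⁻¹, hu⟩ * p l = 1 := by
    intro l hu
    rw [← map_mul]
    set b : h.L := ⟨h.u * l * h.u⁻¹, hu⟩ * l with hb
    have hpc : p (l * ⟨h.u * l * h.u⁻¹, hu⟩) = p b := by rw [hb, map_mul, map_mul]; exact mul_comm _ _
    rw [QuotientGroup.mk'_apply, QuotientGroup.mk'_apply, QuotientGroup.eq, hN, Subgroup.mem_subgroupOf] at hpc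
    refine hfix b (((b : G))⁻¹ * (h.u * b * h.u⁻¹)) ?_ (by group)
    have eub : h.u * (b : G) * h.u⁻¹ = (l : G) * (h.u * l * h.u⁻¹) := by
      show h.u * (h.u * (l : G) * h.u⁻¹ * l) * h.u⁻¹ = _
      calc h.u * (h.u * (l : G) * h.u⁻¹ * l) * h.u⁻¹ = h.u * h.u * (l : G) * (h.u⁻¹ * l * h.u⁻¹) := by group
        _ = (l : G) * (h.u * l * h.u⁻¹) := by
          rw [huu, one_mul]; nth_rewrite 1 [hui]; rfl
    rw [eub]
    have := inv_mem hpc
    simp only [Subgroup.coe_mul, Subgroup.coe_inv, mul_inv_rev, inv_inv, hb] at this ⊢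
    simpa [mul_assoc] using this
  refine ⟨⟨Λ, x₀, hx₀, fun hx e => hχ ?_, fun l => ?_, fun l hu => ?_, fun hex l hl => ?_, fun l hl hc => ?_, hinv, fun l hl => ?_⟩⟩
  · exact e
  · show χ (QuotientGroup.mk' T (p l)) ^ (3 * Nat.card h.O) = 1
    rw [← map_pow, ← map_pow, ← hMc, pow_card_eq_one', map_one, map_one]
  · show χ (QuotientGroup.mk' T (p _)) * χ (QuotientGroup.mk' T (p l)) = 1
    rw [← map_mul, ← map_mul, hconj l hu, map_one, map_one]
  · show χ (QuotientGroup.mk' T (p l)) = 1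
    rw [show QuotientGroup.mk' T (p l) = 1 from (QuotientGroup.eq_one_iff _).2 ?_, map_one]
    simp only [T, if_pos hex, MonoidHom.mem_ker, powMonoidHom_apply]
    have h6 : p l ^ 6 = 1 := by rw [← map_pow, hl, map_one]
    have hd : orderOf (p l ^ 3) ∣ 2 := orderOf_dvd_of_pow_eq_one (by rw [← pow_mul]; exact h6)
    have hd' : orderOf (p l ^ 3) ∣ 3 * Nat.card h.O := hMc ▸ orderOf_dvd_natCard _
    exact orderOf_eq_one_iff.1 (Nat.eq_one_of_dvd_coprimes
      (Nat.coprime_two_left.2 ((by decide : Odd 3).mul h.odd_O)) hd hd')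
  · have hp : p ⟨l, hl⟩ = 1 := hfix ⟨l, hl⟩ 1 (one_mem _) (by
      show h.u * l * h.u⁻¹ = l * 1
      rw [mul_one, ← hc.eq, mul_inv_cancel_right])
    rw [QuotientGroup.mk'_apply, QuotientGroup.eq_one_iff, hN, Subgroup.mem_subgroupOf] at hp
    rcases h.cases_V1 hp with e1 | e1 | e1 | e1
    · exact Or.inl e1
    · exact Or.inr e1
    · exfalso
      have e1' : l = h.s := e1
      rw [e1'] at hc
      rw [← hc.eq, mul_inv_cancel_right] at hsu
      exact hzne hsu.symm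
    · exfalso
      have e1' : l = h.z * h.s := e1
      rw [e1'] at hc
      have : Commute h.s h.u := by
        have := (h.commute_u_z.symm.inv_left).mul_left hc
        rwa [inv_mul_cancel_left] at this
      rw [← this.eq, mul_inv_cancel_right] at hsu
      exact hzne hsu.symm
  · have h3 : (p ⟨l, hl⟩) ^ 3 ∈ Z := by
      have hidx : Z.index = 3 := by
        have h1 := Z.card_mul_index
        rw [hZc, hMc, mul_comm 3] at h1
        exact Nat.eq_of_mul_eq_mul_left Nat.card_pos h1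
      have := Z.pow_index_mem (p ⟨l, hl⟩)
      rwa [hidx] at this
    obtain ⟨⟨y, hyL⟩, hy, hye⟩ := h3
    rw [← map_pow, QuotientGroup.mk'_apply, QuotientGroup.mk'_apply, QuotientGroup.eq, hN,
      Subgroup.mem_subgroupOf] at hye
    simp only [Subgroup.coe_mul, Subgroup.coe_inv, SubmonoidClass.coe_pow] at hye
    have hy' : y ∈ h.O := hy
    have hc : Commute y (y⁻¹ * l ^ 3) := (h.commute_L (hVL hye) hy').symm
    have e : l ^ 6 = y ^ 2 * (y⁻¹ * l ^ 3) ^ 2 := by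
      rw [← hc.mul_pow, mul_inv_cancel_left, ← pow_mul]
    rw [e, pow_two (y⁻¹ * l ^ 3), h.mul_self_V1 hye, mul_one]
    exact pow_mem hy' 2


end Hyp

end CfsgLib.SmallCent
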