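import Cfsg.Agent.Lib.SmallCent.Central
import Cfsg.Agent.Lib.Cores.BrauerWielandt
import Cfsg.Agent.Lib.Solvable.Generation

/-!
# The four-group `⟨z, s⟩` and the centralizers of elements of `O₁`
-/

set_option autoImplicit false

noncomputable section

namespace CfsgLib.SmallCent

open DihedralGroup CfsgLib.Invol
open scoped Pointwise

variable {G : Type*} [Group G] [Finite G]

theorem isV1_closed : ∀ a b : DihedralGroup 4, Hyp.isV1 a = true → Hyp.isV1 b = true →
    Hyp.isV1 (a * b) = true ∧ Hyp.isV1 a⁻¹ = true ∧ a * b = b * a ∧ a * a = 1 := by decide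

theorem isV1_cases : ∀ a : DihedralGroup 4, Hyp.isV1 a = true →
    a = 1 ∨ a = r 2 ∨ a = sr 0 ∨ a = r 2 * sr 0 := by decide

/-- The four-group inside the model. -/
def V1sub : Subgroup (DihedralGroup 4) where
  carrier := {d | Hyp.isV1 d = true}
  mul_mem' {a b} ha hb := (isV1_closed a b ha hb).1
  one_mem' := by decide
  inv_mem' {a} ha := (isV1_closed a a ha ha).2.1

namespace Hyp

variable (h : Hyp G)

/-- The four-group `⟨z, s⟩`. -/
def V1 : Subgroup G := V1sub.map h.ι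

theorem z_mem_V1 : h.z ∈ h.V1 := ⟨r 2, rfl, rfl⟩
theorem s_mem_V1 : h.s ∈ h.V1 := ⟨sr 0, rfl, rfl⟩
theorem zs_mem_V1 : h.z * h.s ∈ h.V1 := mul_mem h.z_mem_V1 h.s_mem_V1

theorem cases_V1 {v : G} (hv : v ∈ h.V1) : v = 1 ∨ v = h.z ∨ v = h.s ∨ v = h.z * h.s := by
  obtain ⟨d, hd, rfl⟩ := hv
  rcases isV1_cases d hd with rfl | rfl | rfl | rfl
  · exact Or.inl (map_one _)
  · exact Or.inr (Or.inl rfl)
  · exact Or.inr (Or.inr (Or.inl rfl))
  · exact Or.inr (Or.inr (Or.inr (map_mul _ _ _)))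

theorem card_V1 : Nat.card h.V1 = 4 := by
  rw [V1, Subgroup.card_map_of_injective h.hd.inj,
    show Nat.card V1sub = Nat.card {d : DihedralGroup 4 // Hyp.isV1 d = true} from rfl,
    Nat.card_eq_fintype_card, Fintype.card_subtype]
  rfl

theorem mul_self_V1 {v : G} (hv : v ∈ h.V1) : v * v = 1 := by
  obtain ⟨d, hd, rfl⟩ := hv
  rw [← map_mul, (isV1_closed d d hd hd).2.2.2, map_one]

theorem commute_V1 {v w : G} (hv : v ∈ h.V1) (hw : w ∈ h.V1) : Commute v w := by
  obtain ⟨d, hd, rfl⟩ := hv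
  obtain ⟨e, he, rfl⟩ := hw
  exact h.commute_ι (isV1_closed d e hd he).2.2.1

theorem isKleinFour_V1 : IsKleinFour h.V1 where
  card_four := h.card_V1
  exponent_two := by
    haveI : Nontrivial h.V1 := Finite.one_lt_card_iff_nontrivial.1 (by rw [h.card_V1]; norm_num)
    refine Monoid.exponent_eq_prime_iff (Nat.prime_two) |>.2 ?_
    intro g hg
    exact orderOf_eq_prime (Subtype.ext (by rw [pow_two]; exact h.mul_self_V1 g.2)) hg

theorem not_isCyclic_V1 : ¬ IsCyclic h.V1 :=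
  haveI := h.isKleinFour_V1
  IsKleinFour.not_isCyclic

theorem commute_zs_iff {g : G} : (∀ v ∈ h.V1, Commute g v) ↔ Commute g h.z ∧ Commute g h.s := by
  refine ⟨fun hg => ⟨hg _ h.z_mem_V1, hg _ h.s_mem_V1⟩, fun hg v hv => ?_⟩
  rcases h.cases_V1 hv with rfl | rfl | rfl | rfl
  · exact Commute.one_right g
  · exact hg.1
  · exact hg.2
  · exact hg.1.mul_right hg.2

theorem commute_z_s_zs {g : G} (h1 : Commute g h.z) (h2 : Commute g (h.z * h.s)) : Commute g h.s := by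
  have := (h1.inv_right).mul_right h2
  rwa [inv_mul_cancel_left] at this

/-- An odd subgroup invariant under the four-group is generated by its three fixed-point subgroups. -/
theorem fourGroup_le {K H : Subgroup G} (hK : Odd (Nat.card K)) (hn : h.V1 ≤ Subgroup.normalizer (K : Set G))
    (hz : ∀ k ∈ K, Commute k h.z → k ∈ H) (hs : ∀ k ∈ K, Commute k h.s → k ∈ H)
    (hzs : ∀ k ∈ K, Commute k (h.z * h.s) → k ∈ H) : K ≤ H := by
  rw [← CfsgLib.Solvable.iSup_centralizer_eq (A := h.V1) (K := K)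
    (fun a ha b hb => (h.commute_V1 ha hb).eq) h.not_isCyclic_V1 hn
    (by rw [h.card_V1, show 4 = 2 ^ 2 from rfl]; exact (Nat.coprime_two_left.2 hK).pow_left 2)]
  refine iSup₂_le fun a ha k hk => ?_
  have hc : Commute k a := Subgroup.mem_centralizer_singleton_iff.1 hk.2
  rcases h.cases_V1 ha.1 with rfl | rfl | rfl | rfl
  · exact absurd rfl ha.2
  · exact hz k hk.1 hc
  · exact hs k hk.1 hc
  · exact hzs k hk.1 hc

/-- The order formula for the four-group. -/
theorem fourGroup_card {K : Subgroup G} (hK : Odd (Nat.card K)) (hz : h.z ∈ Subgroup.normalizer (K : Set G))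
    (hs : h.s ∈ Subgroup.normalizer (K : Set G)) :
    Nat.card K * Nat.card (K ⊓ Subgroup.centralizer ({h.z, h.s} : Set G) : Subgroup G) ^ 2 =
      Nat.card (K ⊓ Subgroup.centralizer ({h.z} : Set G) : Subgroup G) *
        (Nat.card (K ⊓ Subgroup.centralizer ({h.s} : Set G) : Subgroup G) *
          Nat.card (K ⊓ Subgroup.centralizer ({h.z * h.s} : Set G) : Subgroup G)) := by
  haveI : Fact (Nat.Prime 2) := ⟨Nat.prime_two⟩
  have hzz : h.z ^ 2 = 1 := by rw [← h.orderOf_z, pow_orderOf_eq_one]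
  have hss : h.s ^ 2 = 1 := by rw [← h.orderOf_s, pow_orderOf_eq_one]
  have hb := CfsgLib.Cores.brauerWielandt (p := 2) hzz hss h.commute_s_z.symm (Nat.coprime_two_right.2 hK) hz hs
  have e : Subgroup.centralizer ((Subgroup.zpowers h.z ⊔ Subgroup.zpowers h.s : Subgroup G) : Set G) =
      Subgroup.centralizer ({h.z, h.s} : Set G) := by
    rw [CfsgLib.Cores.centralizer_eq_inf_of_gen]
    ext g
    rw [mem_centralizer_pair, Subgroup.mem_inf, Subgroup.mem_centralizer_singleton_iff,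
      Subgroup.mem_centralizer_singleton_iff]
    rfl
  have e1 : CfsgLib.Cores.lineGen (p := 2) h.z h.s (some (1 : Fin 2)) = h.z * h.s := by
    show h.s * h.z ^ 1 = _
    rw [pow_one, h.commute_s_z.eq]
  have e0 : CfsgLib.Cores.lineGen (p := 2) h.z h.s (some (0 : Fin 2)) = h.s := by
    show h.s * h.z ^ 0 = _
    rw [pow_zero, mul_one]
  rw [e, Fintype.prod_option, Fin.prod_univ_two, e0, e1] at hb
  exact hb

/-- A three-cycle on the involutions of the four-group, normalising it. -/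
theorem exists_three : ∃ c : G, c * h.z * c⁻¹ = h.z * h.s ∧ c * (h.z * h.s) * c⁻¹ = h.z ∧
    c * h.s * c⁻¹ = h.s := by
  obtain ⟨c, hcs, hcz, -⟩ := h.exists_fuse
  refine ⟨c, hcz, ?_, hcs⟩
  calc c * (h.z * h.s) * c⁻¹ = c * h.z * c⁻¹ * (c * h.s * c⁻¹) := by group
    _ = h.z := by rw [hcz, hcs, mul_assoc, h.mul_self_V1 h.s_mem_V1, mul_one]

/-- In `C(z)`, commuting with an element `x ≠ 1` of `O₁` forces the four-group coordinate. -/
theorem π_isV1_of_commute {x : G} (hx : x ∈ h.O1) (hx1 : x ≠ 1) {g : G} (hg : g ∈ h.C) (hc : Commute g x) :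
    isV1 (h.π ⟨g, hg⟩) = true := by
  set d := h.π ⟨g, hg⟩ with hd
  have hy := h.decomp hg
  rw [← hd] at hy
  obtain ⟨hxO, hxs⟩ := h.mem_O1.1 hx
  have hdx : Commute (h.ι d) x := by
    have h1 := (h.O_comm hy hxO).inv_left.mul_left hc
    rwa [mul_inv_rev, inv_inv, mul_assoc, inv_mul_cancel, mul_one] at h1
  by_contra hno
  have hwd : Commute h.w x := by
    have hcase : ∀ e : DihedralGroup 4, ¬ isV1 e = true →
        e = r 1 ∨ e = r 2 * r 1 ∨ e = sr 0 * r 1 ∨ e = r 2 * sr 0 * r 1 := by decide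
    have hz : Commute h.z x := (h.mem_C.1 (h.O_le hxO)).symm
    rcases hcase d hno with e | e | e | e <;> rw [e] at hdx
    · exact hdx
    · rw [map_mul] at hdx
      have := hz.inv_left.mul_left hdx
      rwa [show (h.z)⁻¹ * (h.ι (r 2) * h.ι (r 1)) = h.w from inv_mul_cancel_left _ _] at this
    · rw [map_mul] at hdx
      have := hxs.symm.inv_left.mul_left hdx
      rwa [show (h.s)⁻¹ * (h.ι (sr 0) * h.ι (r 1)) = h.w from inv_mul_cancel_left _ _] at this
    · rw [map_mul, map_mul] at hdx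
      have := (hz.mul_left hxs.symm).inv_left.mul_left hdx
      rwa [show (h.z * h.s)⁻¹ * (h.ι (r 2) * h.ι (sr 0) * h.ι (r 1)) = h.w from inv_mul_cancel_left _ _] at this
  exact hx1 (h.fpf hxO hwd.symm)

/-- Elements of `C(z) ∩ C(x)`: products of `O` and the four-group. -/
theorem decomp_x {x : G} (hx : x ∈ h.O1) (hx1 : x ≠ 1) {g : G} (hg : Commute g h.z) (hc : Commute g x) :
    ∃ y ∈ h.O, ∃ v ∈ h.V1, g = y * v :=
  ⟨_, h.decomp (h.mem_C.2 hg), h.ι (h.π ⟨g, h.mem_C.2 hg⟩),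
    ⟨_, h.π_isV1_of_commute hx hx1 _ hc, rfl⟩, (inv_mul_cancel_right _ _).symm⟩

theorem commute_O_x {x y : G} (hx : x ∈ h.O1) (hy : y ∈ h.O) : Commute y x := h.O_comm hy (h.mem_O1.1 hx).1

theorem commute_V1_x {x v : G} (hx : x ∈ h.O1) (hv : v ∈ h.V1) : Commute v x :=
  ((h.commute_zs_iff).2 ⟨h.mem_C.1 (h.O_le (h.mem_O1.1 hx).1), (h.mem_O1.1 hx).2⟩ v hv).symm

/-- `|C(z) ∩ C(x)| = 4|O|` for `x ≠ 1` in `O₁`. -/
theorem card_centralizer_z_x {x : G} (hx : x ∈ h.O1) (hx1 : x ≠ 1) :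
    Nat.card (Subgroup.centralizer ({h.z, x} : Set G)) = 4 * Nat.card h.O := by
  rw [← h.card_V1, mul_comm, ← Nat.card_prod]
  symm
  refine Nat.card_congr (Equiv.ofBijective
    (fun p : h.O × h.V1 => (⟨(p.1 : G) * p.2, ?_⟩ : Subgroup.centralizer ({h.z, x} : Set G))) ⟨?_, ?_⟩)
  · exact mem_centralizer_pair.2 ⟨(h.mem_C.1 (h.O_le p.1.2)).mul_left (h.commute_V1 p.2.2 h.z_mem_V1),
      (h.commute_O_x hx p.1.2).mul_left (h.commute_V1_x hx p.2.2)⟩
  · rintro ⟨a, v⟩ ⟨a', v'⟩ e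
    have e' : (a : G) * v = a' * v' := congrArg Subtype.val e
    have h1 : (a' : G)⁻¹ * a = v' * (v : G)⁻¹ := by
      rw [inv_mul_eq_iff_eq_mul, ← mul_assoc, ← e', mul_inv_cancel_right]
    obtain ⟨d, -, hd⟩ := mul_mem v'.2 (inv_mem v.2)
    have hd1 := h.eq_one_of_ι_mem (d := d) (by rw [hd, ← h1]; exact mul_mem (inv_mem a'.2) a.2)
    rw [hd1, map_one] at hd
    rw [← hd, inv_mul_eq_one] at h1
    exact Prod.ext (Subtype.ext h1.symm) (Subtype.ext (mul_inv_eq_one.1 hd.symm).symm)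
  · rintro ⟨g, hg⟩
    obtain ⟨hgz, hgx⟩ := mem_centralizer_pair.1 hg
    obtain ⟨y, hy, v, hv, e⟩ := h.decomp_x hx hx1 hgz hgx
    exact ⟨(⟨y, hy⟩, ⟨v, hv⟩), Subtype.ext e.symm⟩

/-- The centralizer of `x ∈ O₁ ∖ 1` has the four-group as a Sylow 2-subgroup. -/
theorem not_eight_dvd {x : G} (hx : x ∈ h.O1) (hx1 : x ≠ 1) :
    ¬ 8 ∣ Nat.card (Subgroup.centralizer ({x} : Set G)) := by
  intro h8
  haveI : Fact (Nat.Prime 2) := ⟨Nat.prime_two⟩
  obtain ⟨R, hR⟩ := Sylow.exists_subgroup_card_pow_prime 2 (n := 3) (G := Subgroup.centralizer ({x} : Set G)) h8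
  set R' := R.map (Subgroup.centralizer ({x} : Set G)).subtype with hR'
  have hc : Nat.card R' = 8 := by
    rw [hR', Subgroup.card_map_of_injective (Subgroup.subtype_injective _), hR]; rfl
  obtain ⟨Q, hQ⟩ := (IsPGroup.of_card (n := 3) (G := R') (p := 2) (by rw [hc]; rfl)).exists_le_sylow
  have hQR : R' = (Q : Subgroup G) := by
    refine Subgroup.eq_of_le_of_card_ge hQ ?_
    obtain ⟨g, hg⟩ := MulAction.exists_smul_eq G h.P Q
    rw [hc, ← hg, Sylow.smul_def, Sylow.pointwise_smul_def]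
    have : Nat.card ((MulAut.conj g • (h.P : Subgroup G)) : Subgroup G) = Nat.card (h.P : Subgroup G) :=
      (Nat.card_congr (Subgroup.equivSMul (MulAut.conj g) (h.P : Subgroup G)).toEquiv).symm
    rw [this, ← h.hd.range, Nat.card_congr (MonoidHom.ofInjective h.hd.inj).toEquiv.symm, DihedralGroup.nat_card]
  obtain ⟨g, hg⟩ := MulAction.exists_smul_eq G h.P Q
  have hw : g * h.w * g⁻¹ ∈ (Q : Subgroup G) := by
    rw [← hg, Sylow.smul_def, Sylow.pointwise_smul_def]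
    exact Subgroup.smul_mem_pointwise_smul h.w (MulAut.conj g) _ (by rw [← h.hd.range]; exact ⟨_, rfl⟩)
  rw [← hQR] at hw
  obtain ⟨⟨y, hy⟩, -, hye⟩ := hw
  have hcomm : Commute (g * h.w * g⁻¹) x := by
    rw [← hye]; exact Subgroup.mem_centralizer_singleton_iff.1 hy
  have hc' : Commute (g⁻¹ * x * g) h.w := by
    have := (hcomm.conj g⁻¹).symm
    simpa [mul_assoc] using this
  obtain ⟨k, hk⟩ := Subgroup.mem_zpowers_iff.1 (h.hcw _ hc')
  have h4 : orderOf x ∣ 4 := by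
    have : orderOf (g⁻¹ * x * g) = orderOf x := by simpa using orderOf_conj_eq g⁻¹ x
    rw [← this, ← hk]
    exact (orderOf_dvd_of_mem_zpowers ⟨k, rfl⟩).trans (h.orderOf_w (G := G)).dvd
  exact hx1 (orderOf_eq_one_iff.1 (Nat.eq_one_of_dvd_coprimes
    ((Nat.prime_two.coprime_iff_not_dvd.2 (h.not_two_dvd_of_mem (h.mem_O1.1 hx).1)).symm.pow_right 2) dvd_rfl h4))

end Hyp

end CfsgLib.SmallCent
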