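import Cfsg.Agent.Lib.SmallCent.TwoSides
import Cfsg.Agent.Lib.InvolChar.BSW.CaseTwo
import Cfsg.Agent.S3035

/-!
# The case `O₂ = 1`: the normalizer of the odd core
-/

set_option autoImplicit false

noncomputable section

namespace CfsgLib.SmallCent

open DihedralGroup CfsgLib.Invol

variable {G : Type*} [Group G] [Finite G]

theorem mem_of_index_two_odd {K : Subgroup G} (hK : K.index = 2) {g : G} (hg : ¬ 2 ∣ orderOf g) : g ∈ K :=
  mem_of_sq_mem hg (Subgroup.mul_self_mem_of_index_two hK g)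

namespace Hyp

variable (h : Hyp G)

/-- The normalizer of the odd core. -/
def H : Subgroup G := Subgroup.normalizer (h.O : Set G)

/-- The centralizer of the odd core in its normalizer. -/
def L : Subgroup G := h.H ⊓ Subgroup.centralizer (h.O : Set G)

theorem L_le_H : h.L ≤ h.H := inf_le_left

theorem commute_L {g x : G} (hg : g ∈ h.L) (hx : x ∈ h.O) : Commute g x :=
  (Subgroup.mem_centralizer_iff.1 hg.2 x hx).symm

theorem C_le_H : h.C ≤ h.H := by
  intro g hg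
  rw [H, Subgroup.mem_normalizer_iff]
  intro k
  refine ⟨fun hk => h.conj_mem_O hg hk, fun hk => ?_⟩
  have := h.conj_mem_O (inv_mem hg) hk
  rwa [inv_inv, show g⁻¹ * (g * k * g⁻¹) * g = k by group] at this

theorem O_le_L : h.O ≤ h.L := fun _ hx =>
  ⟨Subgroup.le_normalizer hx, Subgroup.mem_centralizer_iff.2 fun _ hy => (h.O_comm hy hx).eq⟩

theorem L_conj {g l : G} (hg : g ∈ h.H) (hl : l ∈ h.L) : g * l * g⁻¹ ∈ h.L := by
  refine Subgroup.mem_inf.2 ⟨mul_mem (mul_mem hg hl.1) (inv_mem hg), Subgroup.mem_centralizer_iff.2 fun x hx => ?_⟩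
  have hx' : g⁻¹ * x * g ∈ h.O := by
    have := (Subgroup.mem_normalizer_iff.1 (inv_mem hg) x).1 hx
    rwa [inv_inv] at this
  calc x * (g * l * g⁻¹) = g * ((g⁻¹ * x * g) * l) * g⁻¹ := by group
    _ = g * (l * (g⁻¹ * x * g)) * g⁻¹ := by rw [← (h.commute_L hl hx').eq]
    _ = g * l * g⁻¹ * x := by group

variable {h}

theorem O1_eq (h2 : h.O2 = ⊥) : h.O1 = h.O :=
  Subgroup.eq_of_le_of_card_ge inf_le_left (by rw [h.card_O_eq, h2, Subgroup.card_bot, mul_one])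

theorem O_oddC (h2 : h.O2 = ⊥) {t : G} (ht : t = h.z ∨ t = h.s ∨ t = h.z * h.s) : h.oddC t = h.O := by
  refine (Subgroup.eq_of_le_of_card_ge (fun x hx => ?_) (h.card_oddC t).le).symm
  have hx1 : x ∈ h.O1 := (O1_eq h2).ge hx
  refine (h.mem_oddC (h.orderOf_V1 ht)).2 ⟨(h.commute_V1_x hx1 ?_).symm, h.not_two_dvd_of_mem hx⟩
  rcases ht with rfl | rfl | rfl
  exacts [h.z_mem_V1, h.s_mem_V1, h.zs_mem_V1]

theorem u_inverts_O (h2 : h.O2 = ⊥) {x : G} (hx : x ∈ h.O) : h.u * x * h.u⁻¹ = x⁻¹ :=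
  h.u_inverts ((O1_eq h2).ge hx)

theorem V1_le_L (h2 : h.O2 = ⊥) : h.V1 ≤ h.L := by
  intro v hv
  refine ⟨h.C_le_H (h.mem_C.2 (h.commute_V1 hv h.z_mem_V1)), Subgroup.mem_centralizer_iff.2 fun x hx => ?_⟩
  exact ((h.commute_V1_x ((O1_eq h2).ge hx) hv).symm).eq

/-- An element of `L` permuting the involutions of the four-group cyclically. -/
theorem exists_cyc (h2 : h.O2 = ⊥) : ∃ m ∈ h.L, m * h.z * m⁻¹ = h.z * h.s ∧
    m * (h.z * h.s) * m⁻¹ = h.s ∧ m * h.s * m⁻¹ = h.z := by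
  obtain ⟨c, hcs, hcz, hinv⟩ := h.exists_fuse
  have hsO : h.oddC h.s = h.O := O_oddC h2 (Or.inr (Or.inl rfl))
  have hss : h.s * h.s = 1 := h.mul_self_V1 h.s_mem_V1
  have hzz : h.z * h.z = 1 := h.mul_self_V1 h.z_mem_V1
  have hwz : h.w * h.z * h.w⁻¹ = h.z := by rw [(h.mem_C.1 h.w_mem_C).eq, mul_inv_cancel_right]
  have hcent : ∀ x ∈ h.O, c * h.w * x * (c * h.w)⁻¹ = x := fun x hx => by
    calc c * h.w * x * (c * h.w)⁻¹ = c * (h.w * x * h.w⁻¹) * c⁻¹ := by group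
      _ = x := by rw [h.inverts hx, hinv _ (hsO.ge (inv_mem hx)), inv_inv]
  refine ⟨c * h.w, Subgroup.mem_inf.2 ⟨?_, Subgroup.mem_centralizer_iff.2 fun x hx => ?_⟩, ?_, ?_, ?_⟩
  · rw [H, Subgroup.mem_normalizer_iff]
    intro k
    refine ⟨fun hk => (hcent k hk).symm ▸ hk, fun hk => ?_⟩
    have e := hcent _ hk
    have : c * h.w * k * (c * h.w)⁻¹ = k := mul_left_cancel (mul_right_cancel e)
    rwa [this] at hk
  · exact (mul_inv_eq_iff_eq_mul.1 (hcent x hx)).symm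
  · calc c * h.w * h.z * (c * h.w)⁻¹ = c * (h.w * h.z * h.w⁻¹) * c⁻¹ := by group
      _ = h.z * h.s := by rw [hwz, hcz]
  · calc c * h.w * (h.z * h.s) * (c * h.w)⁻¹ = c * ((h.w * h.z * h.w⁻¹) * (h.w * h.s * h.w⁻¹)) * c⁻¹ := by group
      _ = h.s := by rw [hwz, h.w_conj_s, ← mul_assoc h.z h.z h.s, hzz, one_mul, hcs]
  · calc c * h.w * h.s * (c * h.w)⁻¹ = c * (h.w * h.s * h.w⁻¹) * c⁻¹ := by group
      _ = (c * h.z * c⁻¹) * (c * h.s * c⁻¹) := by rw [h.w_conj_s]; group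
      _ = h.z := by rw [hcz, hcs, mul_assoc, hss, mul_one]

theorem u_not_mem_L (h2 : h.O2 = ⊥) (hO : h.O ≠ ⊥) : h.u ∉ h.L := by
  intro hu
  refine hO ((Subgroup.eq_bot_iff_forall _).2 fun x hx => ?_)
  exact eq_one_of_commute_inverted (h.not_two_dvd_of_mem hx) (h.commute_L hu hx).symm (u_inverts_O h2 hx)

/-- Every involution of `L` is conjugate in `L` into the four-group, hence to `z`. -/
theorem L_fused (h2 : h.O2 = ⊥) (hO : h.O ≠ ⊥) {t : G} (ht : t ∈ h.L) (ht2 : orderOf t = 2) :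
    ∃ l ∈ h.L, l * h.z * l⁻¹ = t := by
  haveI : Fact (Nat.Prime 2) := ⟨Nat.prime_two⟩
  obtain ⟨x, hx, hx1⟩ : ∃ x ∈ h.O, x ≠ 1 := by
    by_contra hno
    push Not at hno
    exact hO ((Subgroup.eq_bot_iff_forall _).2 hno)
  have hLX : h.L ≤ Subgroup.centralizer ({x} : Set G) := fun l hl =>
    Subgroup.mem_centralizer_singleton_iff.2 (h.commute_L hl hx).eq
  obtain ⟨P, hPe, -⟩ := h.exists_sylow ((O1_eq h2).ge hx) hx1 (V1_le_L h2) hLX
  obtain ⟨a, ha⟩ := CfsgLib.Invol.exists_mem_sylow_orderOf_two P (t := (⟨t, ht⟩ : h.L))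
    (by rw [Subgroup.orderOf_mk]; exact ht2)
  rw [hPe, Subgroup.mem_subgroupOf] at ha
  have ha' : (a : G) * t * (a : G)⁻¹ ∈ h.V1 := ha
  obtain ⟨m, hm, hm1, hm2, hm3⟩ := exists_cyc h2
  have key : ∃ l ∈ h.L, l * h.z * l⁻¹ = (a : G) * t * (a : G)⁻¹ := by
    rcases h.cases_V1 ha' with e | e | e | e
    · exfalso
      have := congrArg orderOf e
      rw [CfsgLib.Invol.orderOf_conj_eq, ht2, orderOf_one] at this
      omega
    · exact ⟨1, one_mem _, by rw [e]; group⟩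
    · refine ⟨m * m, mul_mem hm hm, ?_⟩
      calc m * m * h.z * (m * m)⁻¹ = m * (m * h.z * m⁻¹) * m⁻¹ := by group
        _ = _ := by rw [hm1, hm2, e]
    · exact ⟨m, hm, by rw [hm1, e]⟩
  obtain ⟨l, hl, e⟩ := key
  refine ⟨(a : G)⁻¹ * l, mul_mem (inv_mem a.2) hl, ?_⟩
  calc (a : G)⁻¹ * l * h.z * ((a : G)⁻¹ * l)⁻¹ = (a : G)⁻¹ * (l * h.z * l⁻¹) * a := by group
    _ = t := by rw [e]; group

/-- Members of `H` lie in `L` or in `L u`. -/
theorem H_cases (h2 : h.O2 = ⊥) (hO : h.O ≠ ⊥) {g : G} (hg : g ∈ h.H) : g ∈ h.L ∨ g * h.u ∈ h.L := by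
  obtain ⟨l, hl, hlz⟩ := L_fused h2 hO (h.L_conj hg (V1_le_L h2 h.z_mem_V1))
    (by rw [CfsgLib.Invol.orderOf_conj_eq]; exact h.orderOf_z)
  have hc : l⁻¹ * g ∈ h.C := by
    refine h.mem_C.2 (mul_inv_eq_iff_eq_mul.1 ?_)
    calc l⁻¹ * g * h.z * (l⁻¹ * g)⁻¹ = l⁻¹ * (g * h.z * g⁻¹) * l := by group
      _ = h.z := by rw [← hlz]; group
  have hy := h.decomp hc
  set d := h.π ⟨l⁻¹ * g, hc⟩
  have e : g = l * (l⁻¹ * g * (h.ι d)⁻¹) * h.ι d := by group
  have hd : ∀ d : DihedralGroup 4, isV1 d = true ∨ isV1 (d * sr 1) = true := by decide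
  rcases hd d with hd' | hd'
  · left
    rw [e]
    exact mul_mem (mul_mem hl (h.O_le_L hy)) (V1_le_L h2 ⟨d, hd', rfl⟩)
  · right
    rw [e, mul_assoc _ (h.ι d) h.u, u, ← map_mul]
    exact mul_mem (mul_mem hl (h.O_le_L hy)) (V1_le_L h2 ⟨_, hd', rfl⟩)

theorem index_L (h2 : h.O2 = ⊥) (hO : h.O ≠ ⊥) : (h.L.subgroupOf h.H).index = 2 := by
  rw [Subgroup.index_eq_two_iff]
  refine ⟨⟨h.u, h.C_le_H h.u_mem_C⟩, fun b => ?_⟩
  rw [Subgroup.mem_subgroupOf, Subgroup.mem_subgroupOf, Subgroup.coe_mul]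
  rcases H_cases h2 hO b.2 with hb | hb
  · exact Or.inr ⟨hb, fun hbu => u_not_mem_L h2 hO (by simpa using mul_mem (inv_mem hb) hbu)⟩
  · exact Or.inl ⟨hb, fun hb' => u_not_mem_L h2 hO (by simpa using mul_mem (inv_mem hb') hb)⟩

/-- Elements of `H` outside `L` invert `O`. -/
theorem inverts_of_not_mem (h2 : h.O2 = ⊥) (hO : h.O ≠ ⊥) {g x : G} (hg : g ∈ h.H) (hgL : g ∉ h.L)
    (hx : x ∈ h.O) : g * x * g⁻¹ = x⁻¹ := by
  rcases H_cases h2 hO hg with hl | hl
  · exact absurd hl hgL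
  · have huu : h.u⁻¹ = h.u := inv_eq_of_mul_eq_one_right (by rw [← pow_two, ← h.orderOf_u, pow_orderOf_eq_one])
    calc g * x * g⁻¹ = (g * h.u) * (h.u⁻¹ * x * h.u) * (g * h.u)⁻¹ := by group
      _ = x⁻¹ := by
        have e : h.u⁻¹ * x * h.u = x⁻¹ := by
          rw [huu]; nth_rewrite 2 [← huu]; exact u_inverts_O h2 hx
        rw [e, (h.commute_L hl (inv_mem hx)).eq, mul_inv_cancel_right]

theorem odd_mem_L (h2 : h.O2 = ⊥) (hO : h.O ≠ ⊥) {g : G} (hg : g ∈ h.H) (ho : ¬ 2 ∣ orderOf g) : g ∈ h.L := by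
  have := mem_of_index_two_odd (index_L h2 hO) (g := ⟨g, hg⟩) (by rwa [Subgroup.orderOf_mk])
  exact this

theorem card_H (h2 : h.O2 = ⊥) (hO : h.O ≠ ⊥) : Nat.card h.H = 2 * Nat.card h.L := by
  rw [← (h.L.subgroupOf h.H).card_mul_index, index_L h2 hO,
    Nat.card_congr (Subgroup.subgroupOfEquivOfLe h.L_le_H).toEquiv, mul_comm]

/-- An odd subgroup normalised by the four-group is contained in `O`. -/
theorem le_O_of_odd (h2 : h.O2 = ⊥) {K : Subgroup G} (hK : Odd (Nat.card K))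
    (hn : h.V1 ≤ Subgroup.normalizer (K : Set G)) : K ≤ h.O := by
  have key : ∀ t, (t = h.z ∨ t = h.s ∨ t = h.z * h.s) → ∀ k ∈ K, Commute k t → k ∈ h.O := fun t ht k hk hc =>
    (O_oddC h2 ht).le ((h.mem_oddC (h.orderOf_V1 ht)).2 ⟨hc, not_two_dvd_orderOf hK hk⟩)
  exact h.fourGroup_le hK hn (key _ (Or.inl rfl)) (key _ (Or.inr (Or.inl rfl))) (key _ (Or.inr (Or.inr rfl)))

set_option maxHeartbeats 2000000 in
/-- The quotient `H/O` is `S₄` or `S₅`. -/
theorem quotient_cases [IsSimpleGroup G] (h2 : h.O2 = ⊥) (hO : h.O ≠ ⊥) :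
    ∃ (_ : (h.O.subgroupOf h.H).Normal),
      Nonempty (h.H ⧸ h.O.subgroupOf h.H ≃* Equiv.Perm (Fin 4)) ∨
      Nonempty (h.H ⧸ h.O.subgroupOf h.H ≃* Equiv.Perm (Fin 5)) := by
  haveI : Fact (Nat.Prime 2) := ⟨Nat.prime_two⟩
  haveI hn : (h.O.subgroupOf h.H).Normal := Subgroup.normal_in_normalizer
  refine ⟨hn, ?_⟩
  set KH := h.O.subgroupOf h.H
  have hKHc : Nat.card KH = Nat.card h.O :=
    Nat.card_congr (Subgroup.subgroupOfEquivOfLe Subgroup.le_normalizer).toEquiv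
  let q := QuotientGroup.mk' KH
  let ιH : DihedralGroup 4 →* h.H := h.ι.codRestrict h.H fun d => h.C_le_H (h.ι_mem_C d)
  set z' := q (ιH (r 2)) with hz'
  have hinj : Function.Injective (q.comp ιH) := by
    rw [← MonoidHom.ker_eq_bot_iff, Subgroup.eq_bot_iff_forall]
    intro d hd
    refine h.eq_one_of_ι_mem ?_
    have := (QuotientGroup.eq_one_iff (N := KH) (ιH d)).1 hd
    exact this
  have hz2 : orderOf z' = 2 := by
    rw [hz', show q (ιH (r 2)) = (q.comp ιH) (r 2) from rfl, orderOf_injective _ hinj]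
    exact orderOf_eq_prime (by rw [pow_two]; decide) (by decide)
  have hrange : (q.comp ιH).range = Subgroup.centralizer ({z'} : Set (h.H ⧸ KH)) := by
    refine le_antisymm ?_ ?_
    · rintro _ ⟨d, rfl⟩
      refine Subgroup.mem_centralizer_singleton_iff.2 ?_
      rw [hz', show q (ιH (r 2)) = (q.comp ιH) (r 2) from rfl, ← map_mul, ← map_mul]
      exact congrArg _ (by revert d; decide)
    · intro y hy
      have hP : IsPGroup 2 (Subgroup.zpowers (ιH (r 2))) := IsPGroup.of_card (n := 1) (by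
        rw [Nat.card_zpowers, ← Subgroup.orderOf_coe]; exact h.orderOf_z)
      have hy'' : y ∈ (Subgroup.centralizer ((Subgroup.zpowers (ιH (r 2)) : Subgroup h.H) : Set h.H)).map
          (QuotientGroup.mk' KH) := by
        rw [CfsgLib.Cores.map_mk'_centralizer_of_coprime (N := KH) hP
          (by rw [hKHc]; exact Nat.coprime_two_right.2 h.odd_O), MonoidHom.map_zpowers]
        refine Subgroup.mem_centralizer_iff.2 fun a ha => ?_
        obtain ⟨k, rfl⟩ := ha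
        exact ((show Commute y z' from Subgroup.mem_centralizer_singleton_iff.1 hy).zpow_right k).eq.symm
      obtain ⟨g, hg, rfl⟩ := hy''
      have hgC : (g : G) ∈ h.C := h.mem_C.2
        (congrArg Subtype.val (Subgroup.mem_centralizer_iff.1 hg _ (Subgroup.mem_zpowers _))).symm
      refine ⟨h.π ⟨g, hgC⟩, ?_⟩
      show (QuotientGroup.mk (ιH (h.π ⟨g, hgC⟩)) : h.H ⧸ KH) = QuotientGroup.mk g
      rw [QuotientGroup.eq, Subgroup.mem_subgroupOf]
      show (h.ι (h.π ⟨g, hgC⟩))⁻¹ * (g : G) ∈ h.O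
      have := h.conj_mem_O (inv_mem (h.ι_mem_C (h.π ⟨g, hgC⟩))) (h.decomp hgC)
      rwa [inv_inv, show (h.ι (h.π ⟨g, hgC⟩))⁻¹ * ((g : G) * (h.ι (h.π ⟨g, hgC⟩))⁻¹) * h.ι (h.π ⟨g, hgC⟩) =
        (h.ι (h.π ⟨g, hgC⟩))⁻¹ * (g : G) by group] at this
  have hiso : Nonempty (Subgroup.centralizer ({z'} : Set (h.H ⧸ KH)) ≃* DihedralGroup 4) :=
    ⟨(MulEquiv.subgroupCongr hrange.symm).trans (MonoidHom.ofInjective hinj).symm⟩
  obtain ⟨x, hx, hx1⟩ : ∃ x ∈ h.O, x ≠ 1 := by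
    by_contra hno
    push Not at hno
    exact hO ((Subgroup.eq_bot_iff_forall _).2 hno)
  have hLX : h.L ≤ Subgroup.centralizer ({x} : Set G) := fun l hl =>
    Subgroup.mem_centralizer_singleton_iff.2 (h.commute_L hl hx).eq
  have hfus : ∀ a b : h.L, orderOf a = 2 → orderOf b = 2 → IsConj a b := by
    intro a b ha hb
    obtain ⟨l, hl, e⟩ := L_fused h2 hO a.2 (by rw [Subgroup.orderOf_coe]; exact ha)
    obtain ⟨l', hl', e'⟩ := L_fused h2 hO b.2 (by rw [Subgroup.orderOf_coe]; exact hb)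
    refine isConj_iff.2 ⟨⟨l' * l⁻¹, mul_mem hl' (inv_mem hl)⟩, Subtype.ext ?_⟩
    show l' * l⁻¹ * (a : G) * (l' * l⁻¹)⁻¹ = b
    rw [← e, ← e']; group
  have hbd := (h.bounds ((O1_eq h2).ge hx) hx1 (V1_le_L h2) hLX hfus).1
  rw [O1_eq h2, inf_eq_right.2 h.O_le_L] at hbd
  have hHc : Nat.card h.H = Nat.card (h.H ⧸ KH) * Nat.card h.O := by
    rw [← Subgroup.index_eq_card, ← hKHc, mul_comm, Subgroup.card_mul_index]
  have hsmall : Nat.card (h.H ⧸ KH) < 192 := by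
    have ho : 0 < Nat.card h.O := Nat.card_pos
    rw [card_H h2 hO] at hHc
    by_contra hge
    nlinarith [mul_le_mul_of_nonneg_right (not_lt.1 hge) ho.le, sq_nonneg (Nat.card h.O)]
  obtain hcore | h4 | h5 | ⟨⟨e⟩⟩ | ⟨⟨e⟩⟩ := Cfsg.Agent.S3035.result z' hz2 hiso
  · exfalso
    haveI hOqn : (Cfsg.oddCore (h.H ⧸ KH)).Normal := by
      haveI := CfsgLib.Cores.pPrimeCore_characteristic (G := h.H ⧸ KH) 2
      exact (inferInstance : (Cfsg.pPrimeCore 2 (h.H ⧸ KH)).Normal)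
    set Oq := Cfsg.oddCore (h.H ⧸ KH) with hOq
    set Kq := Oq.comap q with hKq
    have hKodd : Odd (Nat.card Kq) := by
      rw [← Nat.not_even_iff_odd]
      intro he
      obtain ⟨t, ht⟩ := exists_prime_orderOf_dvd_card' (G := Kq) 2 (even_iff_two_dvd.1 he)
      have hto : orderOf (q (t : h.H)) ∣ 2 := by
        rw [← ht, ← Subgroup.orderOf_coe]; exact orderOf_map_dvd q _
      have hq1 : q (t : h.H) = 1 := orderOf_eq_one_iff.1 (Nat.eq_one_of_dvd_coprimes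
        (Nat.prime_two.coprime_iff_not_dvd.2 (not_two_dvd_orderOf (K := Oq) (x := q (t : h.H)) CfsgLib.Cores.odd_card_oddCore t.2)).symm
        dvd_rfl hto)
      have htO : ((t : h.H) : G) ∈ h.O := (QuotientGroup.eq_one_iff (N := KH) (t : h.H)).1 hq1
      refine h.not_two_dvd_of_mem htO ?_
      rw [Subgroup.orderOf_coe, Subgroup.orderOf_coe, ht]
    haveI : Kq.Normal := Subgroup.Normal.comap hOqn q
    have hle := le_O_of_odd h2 (K := Kq.map h.H.subtype)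
      (by rw [Subgroup.card_map_of_injective h.H.subtype_injective]; exact hKodd)
      (fun v hv => by
        have hvH : v ∈ h.H := h.L_le_H (V1_le_L h2 hv)
        rw [Subgroup.mem_normalizer_iff]
        intro k
        constructor
        · rintro ⟨k', hk', rfl⟩
          exact ⟨⟨v, hvH⟩ * k' * ⟨v, hvH⟩⁻¹, Subgroup.Normal.conj_mem inferInstance k' hk' _, rfl⟩
        · rintro ⟨k', hk', e⟩
          refine ⟨⟨v, hvH⟩⁻¹ * k' * (⟨v, hvH⟩⁻¹)⁻¹, Subgroup.Normal.conj_mem inferInstance k' hk' _, ?_⟩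
          show v⁻¹ * ((k' : h.H) : G) * v⁻¹⁻¹ = k
          rw [show ((k' : h.H) : G) = v * k * v⁻¹ from e]; group)
    have hbot : Oq = ⊥ := by
      refine (Subgroup.eq_bot_iff_forall _).2 fun y hy => ?_
      obtain ⟨k, rfl⟩ := QuotientGroup.mk'_surjective KH y
      exact (QuotientGroup.eq_one_iff k).2 (hle ⟨k, hy, rfl⟩)
    rw [hbot, sup_bot_eq] at hcore
    obtain ⟨m, hm, hm1, -, -⟩ := exists_cyc h2
    have hc : Commute (q ⟨m, h.L_le_H hm⟩) z' := Subgroup.mem_centralizer_singleton_iff.1 (hcore.ge (Subgroup.mem_top _))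
    have hq1 : q (⟨m, h.L_le_H hm⟩ * ιH (r 2) * (⟨m, h.L_le_H hm⟩ : h.H)⁻¹ * (ιH (r 2))⁻¹) = 1 := by
      rw [map_mul, map_mul, map_mul, map_inv, map_inv, ← hz', hc.eq, mul_inv_cancel_right, mul_inv_cancel]
    have hsO : m * h.z * m⁻¹ * h.z⁻¹ ∈ h.O := (QuotientGroup.eq_one_iff (N := KH) _).1 hq1
    rw [hm1, (h.commute_V1 h.z_mem_V1 h.s_mem_V1).eq, mul_inv_cancel_right] at hsO
    exact h.not_two_dvd_of_mem hsO (h.orderOf_s (G := G)).symm.dvd
  · exact Or.inl h4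
  · exact Or.inr h5
  · exfalso
    haveI : Fact (Nat.Prime 7) := ⟨by norm_num⟩
    have h168 : Nat.card (h.H ⧸ KH) = 168 := by
      rw [Nat.card_congr e.toEquiv, ← Nat.card_congr (CfsgLib.A8.glEquivSL fun g =>
        (CfsgLib.A8.zmod_two_cases _).resolve_left
          ((Matrix.isUnit_iff_isUnit_det (g : Matrix (Fin 3) (Fin 3) (ZMod 2))).1 g.isUnit).ne_zero).toEquiv]
      exact CfsgLib.InvolChar.SubgroupsA8.gl3_card
    set LH := h.L.subgroupOf h.H
    haveI : LH.Normal := Subgroup.normal_of_index_eq_two (index_L h2 hO)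
    set Lq := LH.map q with hLq
    have hLidx : Lq.index = 2 := by
      rw [hLq, Subgroup.index_map_eq _ (QuotientGroup.mk'_surjective KH) (by
        rw [QuotientGroup.ker_mk']; exact fun k hk => h.O_le_L hk), index_L h2 hO]
    have hL84 : Nat.card Lq = 84 := by
      have := Lq.card_mul_index
      rw [hLidx, h168] at this; omega
    obtain ⟨P⟩ := (inferInstance : Nonempty (Sylow 7 Lq))
    have hP7 : Nat.card (P : Subgroup Lq) = 7 := by
      rw [P.card_eq_multiplicity, hL84, show (84 : ℕ).factorization 7 = 1 by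
        rw [show (84 : ℕ) = 7 * 12 by norm_num, Nat.factorization_mul (by norm_num) (by norm_num),
          Finsupp.add_apply, (by norm_num : Nat.Prime 7).factorization_self,
          Nat.factorization_eq_zero_of_not_dvd (by norm_num)]]
      rfl
    have hPi : (P : Subgroup Lq).index = 12 := by
      have := (P : Subgroup Lq).card_mul_index
      rw [hP7, hL84] at this; omega
    have hn1 : Nat.card (Sylow 7 Lq) = 1 := by
      have h1 := card_sylow_modEq_one 7 Lq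
      have h2 : Nat.card (Sylow 7 Lq) ∣ 12 := hPi ▸ Sylow.card_dvd_index P
      have h3 := Nat.le_of_dvd (by norm_num) h2
      unfold Nat.ModEq at h1
      interval_cases hh : Nat.card (Sylow 7 Lq) <;> simp_all
    haveI : (P : Subgroup Lq).Normal :=
      haveI : Subsingleton (Sylow 7 Lq) := (Nat.card_eq_one_iff_unique.1 hn1).1
      Sylow.normal_of_subsingleton P
    set Pq := (P : Subgroup Lq).map Lq.subtype with hPq
    have hPqc : Nat.card Pq = 7 := by rw [hPq, Subgroup.card_map_of_injective Lq.subtype_injective, hP7]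
    set Kq := Pq.comap q with hKq
    have hKodd : Odd (Nat.card Kq) := by
      rw [← Nat.not_even_iff_odd]
      intro he
      obtain ⟨t, ht⟩ := exists_prime_orderOf_dvd_card' (G := Kq) 2 (even_iff_two_dvd.1 he)
      have hto : orderOf (q (t : h.H)) ∣ 2 := by
        rw [← ht, ← Subgroup.orderOf_coe]; exact orderOf_map_dvd q _
      have hq1 : q (t : h.H) = 1 := orderOf_eq_one_iff.1 (Nat.eq_one_of_dvd_coprimes
        (Nat.prime_two.coprime_iff_not_dvd.2 (not_two_dvd_orderOf (K := Pq) (x := q (t : h.H)) (by rw [hPqc]; decide) t.2)).symm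
        dvd_rfl hto)
      have htO : ((t : h.H) : G) ∈ h.O := (QuotientGroup.eq_one_iff (N := KH) (t : h.H)).1 hq1
      refine h.not_two_dvd_of_mem htO ?_
      rw [Subgroup.orderOf_coe, Subgroup.orderOf_coe, ht]
    have hconj : ∀ v : h.H, (v : G) ∈ h.L → ∀ k ∈ Kq, v * k * v⁻¹ ∈ Kq := by
      intro v hv k hk
      obtain ⟨p, hp, hpe⟩ := hk
      show q (v * k * v⁻¹) ∈ Pq
      refine ⟨⟨q v, v, hv, rfl⟩ * p * (⟨q v, v, hv, rfl⟩ : Lq)⁻¹, Subgroup.Normal.conj_mem inferInstance p hp _, ?_⟩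
      show q v * (p : h.H ⧸ KH) * (q v)⁻¹ = _
      rw [map_mul, map_mul, map_inv]
      exact congrArg (fun y => q v * y * (q v)⁻¹) hpe
    have hle := le_O_of_odd h2 (K := Kq.map h.H.subtype)
      (by rw [Subgroup.card_map_of_injective h.H.subtype_injective]; exact hKodd)
      (fun v hv => by
        have hvL : v ∈ h.L := V1_le_L h2 hv
        have hvH : v ∈ h.H := h.L_le_H hvL
        rw [Subgroup.mem_normalizer_iff]
        intro k
        constructor
        · rintro ⟨k', hk', rfl⟩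
          exact ⟨⟨v, hvH⟩ * k' * ⟨v, hvH⟩⁻¹, hconj ⟨v, hvH⟩ hvL k' hk', rfl⟩
        · rintro ⟨k', hk', e⟩
          refine ⟨⟨v, hvH⟩⁻¹ * k' * (⟨v, hvH⟩⁻¹)⁻¹, hconj (⟨v, hvH⟩⁻¹) (inv_mem hvL) k' hk', ?_⟩
          show v⁻¹ * ((k' : h.H) : G) * v⁻¹⁻¹ = k
          rw [show ((k' : h.H) : G) = v * k * v⁻¹ from e]; group)
    have hbot : Pq = ⊥ := by
      refine (Subgroup.eq_bot_iff_forall _).2 fun y hy => ?_
      obtain ⟨k, rfl⟩ := QuotientGroup.mk'_surjective KH y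
      exact (QuotientGroup.eq_one_iff k).2 (hle ⟨k, hy, rfl⟩)
    rw [hbot, Subgroup.card_bot] at hPqc
    omega
  · exfalso
    have h360 : Nat.card (h.H ⧸ KH) = 360 := by
      rw [Nat.card_congr e.toEquiv, nat_card_alternatingGroup]; rw [Nat.card_fin]; rfl
    omega

end Hyp

end CfsgLib.SmallCent
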