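import Cfsg.Agent.Lib.SmallCent.OneSide

/-!
# The case `O₂ = 1`: centralizers of the elements of the odd core
-/

set_option autoImplicit false

noncomputable section

namespace CfsgLib.SmallCent

open DihedralGroup CfsgLib.Invol

variable {G : Type*} [Group G] [Finite G]

namespace Hyp

variable {h : Hyp G}

theorem card_H_eq :
    Nat.card h.H = Nat.card (h.H ⧸ h.O.subgroupOf h.H) * Nat.card h.O := by
  rw [← Subgroup.index_eq_card, ← Nat.card_congr (Subgroup.subgroupOfEquivOfLe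
    (h.O_le_L.trans h.L_le_H)).toEquiv, mul_comm, Subgroup.card_mul_index]

theorem card_L_cases [IsSimpleGroup G] (h2 : h.O2 = ⊥) (hO : h.O ≠ ⊥) :
    Nat.card h.L = 12 * Nat.card h.O ∨ Nat.card h.L = 60 * Nat.card h.O := by
  obtain ⟨hn, h4 | h5⟩ := quotient_cases h2 hO
  · left
    have e1 := card_H_eq (h := h)
    rw [card_H h2 hO, Nat.card_congr h4.some.toEquiv, Nat.card_perm, Nat.card_fin,
      show Nat.factorial 4 = 24 from rfl] at e1
    omega
  · right
    have e1 := card_H_eq (h := h)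
    rw [card_H h2 hO, Nat.card_congr h5.some.toEquiv, Nat.card_perm, Nat.card_fin,
      show Nat.factorial 5 = 120 from rfl] at e1
    omega

/-- **The centralizer of a nontrivial element of the odd core.** -/
theorem centralizer_eq_L [IsSimpleGroup G] (h2 : h.O2 = ⊥) {x : G} (hx : x ∈ h.O) (hx1 : x ≠ 1) :
    Subgroup.centralizer ({x} : Set G) = h.L := by
  haveI : Fact (Nat.Prime 2) := ⟨Nat.prime_two⟩
  have hO : h.O ≠ ⊥ := fun e => hx1 (Subgroup.mem_bot.1 (e ▸ hx))
  set X := Subgroup.centralizer ({x} : Set G) with hX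
  have hLX : h.L ≤ X := fun l hl => Subgroup.mem_centralizer_singleton_iff.2 (h.commute_L hl hx).eq
  have hx' : x ∈ h.O1 := (O1_eq h2).ge hx
  have hXH : X ⊓ h.H ≤ h.L := by
    intro g hg
    by_contra hgL
    have e := inverts_of_not_mem h2 hO hg.2 hgL hx
    exact hx1 (eq_one_of_commute_inverted (h.not_two_dvd_of_mem hx)
      (show Commute g x from Subgroup.mem_centralizer_singleton_iff.1 hg.1).symm e)
  refine le_antisymm ?_ hLX
  by_contra hne
  have hVX : h.V1 ≤ X := (V1_le_L h2).trans hLX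
  obtain ⟨P, hPe, hPk⟩ := h.exists_sylow hx' hx1 hVX le_rfl
  obtain ⟨m, hm, hm1, hm2, hm3⟩ := exists_cyc h2
  -- fusion in `X`
  have hfus : ∀ t : G, t ∈ X → orderOf t = 2 → ∃ g ∈ X, g * h.z * g⁻¹ = t := by
    intro t ht ht2
    obtain ⟨a, ha⟩ := CfsgLib.Invol.exists_mem_sylow_orderOf_two P (t := (⟨t, ht⟩ : X))
      (by rw [Subgroup.orderOf_mk]; exact ht2)
    rw [hPe, Subgroup.mem_subgroupOf] at ha
    have ha' : (a : G) * t * (a : G)⁻¹ ∈ h.V1 := ha
    have key : ∃ l ∈ X, l * h.z * l⁻¹ = (a : G) * t * (a : G)⁻¹ := by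
      rcases h.cases_V1 ha' with e | e | e | e
      · exfalso
        have := congrArg orderOf e
        rw [CfsgLib.Invol.orderOf_conj_eq, ht2, orderOf_one] at this
        omega
      · exact ⟨1, one_mem _, by rw [e]; group⟩
      · refine ⟨m * m, hLX (mul_mem hm hm), ?_⟩
        calc m * m * h.z * (m * m)⁻¹ = m * (m * h.z * m⁻¹) * m⁻¹ := by group
          _ = _ := by rw [hm1, hm2, e]
      · exact ⟨m, hLX hm, by rw [hm1, e]⟩
    obtain ⟨l, hl, e⟩ := key
    refine ⟨(a : G)⁻¹ * l, mul_mem (inv_mem a.2) hl, ?_⟩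
    calc (a : G)⁻¹ * l * h.z * ((a : G)⁻¹ * l)⁻¹ = (a : G)⁻¹ * (l * h.z * l⁻¹) * a := by group
      _ = t := by rw [e]; group
  have hone : ∀ a b : X, orderOf a = 2 → orderOf b = 2 → IsConj a b := by
    intro a b ha hb
    obtain ⟨l, hl, e⟩ := hfus a a.2 (by rw [Subgroup.orderOf_coe]; exact ha)
    obtain ⟨l', hl', e'⟩ := hfus b b.2 (by rw [Subgroup.orderOf_coe]; exact hb)
    refine isConj_iff.2 ⟨⟨l' * l⁻¹, mul_mem hl' (inv_mem hl)⟩, Subtype.ext ?_⟩
    show l' * l⁻¹ * (a : G) * (l' * l⁻¹)⁻¹ = b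
    rw [← e, ← e']; group
  have hbd := (h.bounds hx' hx1 hVX le_rfl hone).1
  have hOX : h.O ≤ X := h.O_le_L.trans hLX
  rw [O1_eq h2, inf_eq_right.2 hOX] at hbd
  set d := (h.L.subgroupOf X).index with hd
  have hXc : Nat.card h.L * d = Nat.card X := by
    rw [hd, ← Nat.card_congr (Subgroup.subgroupOfEquivOfLe hLX).toEquiv, Subgroup.card_mul_index]
  have ho0 : 0 < Nat.card h.O := Nat.card_pos
  have hd7 : d ≤ 7 := by
    have h12 : 12 * Nat.card h.O ≤ Nat.card h.L := by
      rcases card_L_cases h2 hO with e | e <;> omega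
    by_contra h8
    have h1 : 12 * Nat.card h.O * 8 ≤ Nat.card X := hXc ▸ Nat.mul_le_mul h12 (by omega)
    nlinarith [Nat.mul_le_mul_right ((4 * Nat.card h.O) ^ 2) h1]
  -- centralizers of the involutions of the four-group lie in `L`
  have hcz : ∀ g ∈ X, Commute g h.z → g ∈ h.L := by
    intro g hg hgz
    obtain ⟨y, hy, v, hv, rfl⟩ := h.decomp_x hx' hx1 hgz (Subgroup.mem_centralizer_singleton_iff.1 hg)
    exact mul_mem (h.O_le_L hy) (V1_le_L h2 hv)
  have hemb : ∀ g ∈ X, ∀ v ∈ h.L, orderOf v = 2 → g⁻¹ * v * g ∈ h.L → g ∈ h.L := by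
    intro g hg v hv hv2 hgv
    obtain ⟨l1, hl1, e1⟩ := L_fused h2 hO hv hv2
    obtain ⟨l2, hl2, e2⟩ := L_fused h2 hO hgv (by
      have := CfsgLib.Invol.orderOf_conj_eq g⁻¹ v
      rw [inv_inv] at this
      rw [this]; exact hv2)
    have hc : Commute (l1⁻¹ * g * l2) h.z := by
      refine mul_inv_eq_iff_eq_mul.1 ?_
      calc l1⁻¹ * g * l2 * h.z * (l1⁻¹ * g * l2)⁻¹ = l1⁻¹ * (g * (l2 * h.z * l2⁻¹) * g⁻¹) * l1 := by group
        _ = l1⁻¹ * v * l1 := by rw [e2]; group
        _ = h.z := by rw [← e1]; group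
    have := mul_mem (mul_mem hl1 (hcz _ (mul_mem (mul_mem (inv_mem (hLX hl1)) hg) (hLX hl2)) hc)) (inv_mem hl2)
    rwa [show l1 * (l1⁻¹ * g * l2) * l2⁻¹ = g by group] at this
  have hfix : ∀ (v : X), (v : G) ∈ h.L → orderOf v = 2 → ∀ c : X ⧸ h.L.subgroupOf X, v • c = c →
      c = ((1 : X) : X ⧸ h.L.subgroupOf X) := by
    intro v hv hv2 c hc
    obtain ⟨g, rfl⟩ := QuotientGroup.mk_surjective c
    rw [MulAction.Quotient.smul_mk, QuotientGroup.eq, Subgroup.mem_subgroupOf, smul_eq_mul] at hc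
    have hgv : (g : G)⁻¹ * (v : G) * g ∈ h.L := by
      have := inv_mem hc
      rwa [← Subgroup.coe_inv, mul_inv_rev, inv_inv, Subgroup.coe_mul, Subgroup.coe_inv, Subgroup.coe_mul, ← mul_assoc] at this
    rw [QuotientGroup.eq, Subgroup.mem_subgroupOf]
    simpa using inv_mem (hemb g g.2 v hv (by rw [Subgroup.orderOf_coe]; exact hv2) hgv)
  have hd1 : d ≠ 1 := fun e => hne fun g hg => by
    have := (Subgroup.index_eq_one.1 e).ge (Subgroup.mem_top (⟨g, hg⟩ : X))
    exact this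
  have h4d : 4 ∣ d - 1 := by
    classical
    haveI := Fintype.ofFinite (X ⧸ h.L.subgroupOf X)
    set V := h.V1.subgroupOf X
    have hVone : ∀ v : V, v • ((1 : X) : X ⧸ h.L.subgroupOf X) = ((1 : X) : X ⧸ h.L.subgroupOf X) := by
      intro v
      show (((v : X) * 1 : X) : X ⧸ h.L.subgroupOf X) = ((1 : X) : X ⧸ h.L.subgroupOf X)
      rw [mul_one, QuotientGroup.eq, Subgroup.mem_subgroupOf]
      simpa using inv_mem (V1_le_L h2 v.2)
    have hVfree : ∀ (v : V) (c : X ⧸ h.L.subgroupOf X), v • c = c → v = 1 ∨ c = ((1 : X) : X ⧸ h.L.subgroupOf X) := by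
      intro v c hc
      by_cases hv : v = 1
      · exact Or.inl hv
      · refine Or.inr (hfix v (V1_le_L h2 v.2) (orderOf_eq_prime ?_ fun e => hv (Subtype.ext e)) c hc)
        refine Subtype.ext ?_
        simp only [SubmonoidClass.coe_pow, OneMemClass.coe_one, pow_two]
        exact h.mul_self_V1 v.2
    let S := {c : X ⧸ h.L.subgroupOf X // c ≠ ((1 : X) : X ⧸ h.L.subgroupOf X)}
    letI : MulAction V S :=
      { smul := fun v c => ⟨v • c.1, fun e => c.2 (by
          rw [← inv_smul_smul v c.1, e, hVone])⟩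
        one_smul := fun c => Subtype.ext (one_smul V c.1)
        mul_smul := fun a b c => Subtype.ext (mul_smul a b c.1) }
    have hc4 : Nat.card V = 4 := by
      rw [Nat.card_congr (Subgroup.subgroupOfEquivOfLe hVX).toEquiv, h.card_V1]
    have hfree : ∀ c : S, MulAction.stabilizer V c = ⊥ := fun c =>
      (Subgroup.eq_bot_iff_forall _).2 fun v hv =>
        (hVfree v c.1 (congrArg Subtype.val (MulAction.mem_stabilizer_iff.1 hv))).resolve_right c.2
    have := CfsgLib.InvolChar.BSW.dvd_of_free (E := V) (α := S) hfree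
    rw [hc4, show Nat.card S = d - 1 by
      rw [hd, Subgroup.index_eq_card, Nat.card_eq_fintype_card, Nat.card_eq_fintype_card, Fintype.card_subtype_compl,
        Fintype.card_subtype_eq]] at this
    exact this
  have hd5 : d = 5 := by
    have h0 : d ≠ 0 := Subgroup.index_ne_zero_of_finite
    omega
  -- the kernel of the action on five points
  set Kc := (h.L.subgroupOf X).normalCore with hKc
  have hKodd : Odd (Nat.card Kc) := by
    rw [← Nat.not_even_iff_odd]
    intro he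
    obtain ⟨t, ht⟩ := exists_prime_orderOf_dvd_card' (G := Kc) 2 (even_iff_two_dvd.1 he)
    obtain ⟨g, hg⟩ : ∃ g : X, g ∉ h.L.subgroupOf X := by
      by_contra hall
      push Not at hall
      exact hne fun g hg => hall ⟨g, hg⟩
    have ht' : ((t : X) : G) ∈ h.L := (Subgroup.normalCore_le (h.L.subgroupOf X)) t.2
    have hgt : g⁻¹ * (t : X) * g⁻¹⁻¹ ∈ Kc := Subgroup.Normal.conj_mem inferInstance _ t.2 _
    refine hg (Subgroup.mem_subgroupOf.2 (hemb g g.2 _ ht' ?_ ?_))
    · rw [Subgroup.orderOf_coe, Subgroup.orderOf_coe]; exact ht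
    · have := (Subgroup.normalCore_le (h.L.subgroupOf X)) hgt
      simpa [Subgroup.mem_subgroupOf] using this
  have hKn : ∀ g : X, ∀ k ∈ Kc.map X.subtype, (g : G) * k * (g : G)⁻¹ ∈ Kc.map X.subtype := by
    rintro g _ ⟨k, hk, rfl⟩
    exact ⟨g * k * g⁻¹, Subgroup.Normal.conj_mem inferInstance k hk g, rfl⟩
  have hKO : Kc.map X.subtype ≤ h.O := le_O_of_odd h2
    (by rw [Subgroup.card_map_of_injective X.subtype_injective]; exact hKodd)
    (fun v hv => Subgroup.mem_normalizer_iff.2 fun k => ⟨hKn ⟨v, hVX hv⟩ k, fun hk => by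
      have := hKn ⟨v, hVX hv⟩⁻¹ _ hk
      simpa [mul_assoc] using this⟩)
  have hidx : Kc.index ∣ 120 := by
    rw [hKc, Subgroup.normalCore_eq_ker, Subgroup.index_ker]
    have h' := Subgroup.card_subgroup_dvd_card (MulAction.toPermHom X (X ⧸ h.L.subgroupOf X)).range
    rw [Nat.card_perm, ← Subgroup.index_eq_card, ← hd, hd5] at h'
    exact h'
  have hKc' := Kc.card_mul_index
  have hKle : Nat.card Kc ∣ Nat.card h.O := by
    rw [← Subgroup.card_map_of_injective X.subtype_injective]; exact Subgroup.card_dvd_of_le hKO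
  obtain ⟨k, hk⟩ := hKle
  have hkodd : Odd k := (Nat.odd_mul.1 (hk ▸ h.odd_O)).2
  have hKeq : Kc.map X.subtype = h.O := by
    refine Subgroup.eq_of_le_of_card_ge hKO ?_
    rw [Subgroup.card_map_of_injective X.subtype_injective, hk]
    have hk1 : k = 1 := by
      rcases card_L_cases h2 hO with e | e
      · have e' : Nat.card Kc * Kc.index = Nat.card Kc * (60 * k) := by rw [hKc', ← hXc, e, hd5, hk]; ring
        have e2 := Nat.eq_of_mul_eq_mul_left Nat.card_pos e'
        rw [e2, show (120 : ℕ) = 60 * 2 from rfl] at hidx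
        exact Nat.eq_one_of_dvd_coprimes (Nat.coprime_two_right.2 hkodd) dvd_rfl
          (Nat.dvd_of_mul_dvd_mul_left (by norm_num) hidx)
      · have e' : Nat.card Kc * Kc.index = Nat.card Kc * (300 * k) := by rw [hKc', ← hXc, e, hd5, hk]; ring
        have e2 := Nat.eq_of_mul_eq_mul_left Nat.card_pos e'
        have := Nat.le_of_dvd (by norm_num) hidx
        rw [e2] at this
        have := hkodd.pos
        omega
    rw [hk1, mul_one]
  -- so `O` is normal in `X`
  refine hne fun g hg => hXH ⟨hg, ?_⟩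
  show g ∈ Subgroup.normalizer (h.O : Set G)
  rw [Subgroup.mem_normalizer_iff]
  intro y
  rw [← hKeq]
  refine ⟨hKn ⟨g, hg⟩ y, fun hy => ?_⟩
  have := hKn ⟨g, hg⟩⁻¹ _ hy
  simpa [mul_assoc] using this

/-- If `H/O` is `S₅` then `|O| = 3`. -/
theorem three_of_sixty [IsSimpleGroup G] (hG : ¬ IsMulCommutative G) (h2 : h.O2 = ⊥) (hO : h.O ≠ ⊥)
    (h60 : Nat.card h.L = 60 * Nat.card h.O) : Nat.card h.O = 3 := by
  haveI : Fact (Nat.Prime 2) := ⟨Nat.prime_two⟩
  obtain ⟨hn, h45⟩ := quotient_cases h2 hO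
  obtain ⟨e⟩ : Nonempty (h.H ⧸ h.O.subgroupOf h.H ≃* Equiv.Perm (Fin 5)) := by
    refine h45.resolve_left fun h4 => ?_
    have e1 := card_H_eq (h := h)
    rw [card_H h2 hO, Nat.card_congr h4.some.toEquiv, Nat.card_perm, Nat.card_fin,
      show Nat.factorial 4 = 24 from rfl, h60] at e1
    have : 0 < Nat.card h.O := Nat.card_pos
    omega
  set KH := h.O.subgroupOf h.H
  let q := QuotientGroup.mk' KH
  set LH := h.L.subgroupOf h.H with hLH
  haveI : LH.Normal := Subgroup.normal_of_index_eq_two (index_L h2 hO)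
  let f : h.H →* Equiv.Perm (Fin 5) := e.toMonoidHom.comp q
  have hfsurj : Function.Surjective f := e.surjective.comp (QuotientGroup.mk'_surjective KH)
  have hfker : f.ker = KH := by
    ext g
    show e (q g) = 1 ↔ g ∈ KH
    rw [EmbeddingLike.map_eq_one_iff]
    exact QuotientGroup.eq_one_iff g
  have hA : LH.map f = alternatingGroup (Fin 5) := Equiv.Perm.eq_alternatingGroup_of_index_eq_two (by
    rw [Subgroup.index_map_eq _ hfsurj (hfker.le.trans fun k hk => h.O_le_L hk), index_L h2 hO])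
  set uH : h.H := ⟨h.u, h.C_le_H h.u_mem_C⟩
  have huu : uH * uH = 1 := Subtype.ext (by
    show h.u * h.u = 1
    rw [← pow_two, ← h.orderOf_u, pow_orderOf_eq_one])
  have hodd : f uH ∉ alternatingGroup (Fin 5) := by
    rw [← hA]
    rintro ⟨l, hl, e'⟩
    have : l⁻¹ * uH ∈ f.ker := by rw [MonoidHom.mem_ker, map_mul, map_inv, e', inv_mul_cancel]
    rw [hfker] at this
    refine u_not_mem_L h2 hO ?_
    have h' := mul_mem (show (l : G) ∈ h.L from hl) (h.O_le_L (show ((l⁻¹ * uH : h.H) : G) ∈ h.O from this))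
    simpa [uH] using h'
  obtain ⟨ρ, hρ3, hρ1, hρc⟩ : ∃ ρ : Equiv.Perm (Fin 5), ρ ^ 3 = 1 ∧ ρ ≠ 1 ∧ ρ * f uH = f uH * ρ := by
    have key : ∀ σ : Equiv.Perm (Fin 5), σ * σ = 1 → Equiv.Perm.sign σ = -1 →
        ∃ a b : Fin 5, a ≠ b ∧ σ = Equiv.swap a b := by
      decide +kernel
    have hsw : ∃ a b : Fin 5, a ≠ b ∧ f uH = Equiv.swap a b := key _ (by rw [← map_mul, huu, map_one])
      ((Int.units_eq_one_or _).resolve_left fun hh => hodd hh)
    obtain ⟨a, b, hab, hs⟩ := hsw
    rw [hs]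
    have key2 : ∀ a b : Fin 5, a ≠ b → ∃ c d g : Fin 5, c ≠ d ∧ d ≠ g ∧ c ≠ g ∧
        (Equiv.swap c d * Equiv.swap d g) ^ 3 = 1 ∧ (Equiv.swap c d * Equiv.swap d g) ≠ 1 ∧
        (Equiv.swap c d * Equiv.swap d g) * Equiv.swap a b = Equiv.swap a b * (Equiv.swap c d * Equiv.swap d g) := by
      decide +kernel
    obtain ⟨c, d, g, -, -, -, r1, r2, r3⟩ := key2 a b hab
    exact ⟨_, r1, r2, r3⟩
  -- lift it to a member of `L` commuting with `u`
  have hP : IsPGroup 2 (Subgroup.zpowers uH) := IsPGroup.of_card (n := 1) (by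
    rw [Nat.card_zpowers, ← Subgroup.orderOf_coe]; exact h.orderOf_u)
  have hKHc : Nat.card KH = Nat.card h.O :=
    Nat.card_congr (Subgroup.subgroupOfEquivOfLe Subgroup.le_normalizer).toEquiv
  obtain ⟨g, hgc, hge⟩ : e.symm ρ ∈ (Subgroup.centralizer ((Subgroup.zpowers uH : Subgroup h.H) : Set h.H)).map
      (QuotientGroup.mk' KH) := by
    rw [CfsgLib.Cores.map_mk'_centralizer_of_coprime (N := KH) hP
      (by rw [hKHc]; exact Nat.coprime_two_right.2 h.odd_O), MonoidHom.map_zpowers]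
    refine Subgroup.mem_centralizer_iff.2 fun a ha => ?_
    obtain ⟨k, rfl⟩ := ha
    have hc : Commute (e.symm ρ) (q uH) := e.injective (by rw [map_mul, map_mul, e.apply_symm_apply]; exact hρc)
    exact (hc.zpow_right k).eq.symm
  have hfg : f g = ρ := by
    show e (q g) = ρ
    rw [show q g = e.symm ρ from hge, e.apply_symm_apply]
  have hgu : Commute g uH := (Subgroup.mem_centralizer_iff.1 hgc _ (Subgroup.mem_zpowers _)).symm
  -- an odd power
  have hog : 0 < orderOf g := orderOf_pos g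
  obtain ⟨a, m, hm, ham⟩ : ∃ a m, ¬ 2 ∣ m ∧ orderOf g = 2 ^ a * m :=
    Nat.exists_eq_pow_mul_and_not_dvd hog.ne' 2 (by norm_num)
  set r := g ^ (2 ^ a) with hr
  have hro : ¬ 2 ∣ orderOf r := by
    rw [hr, orderOf_pow_of_dvd (pow_ne_zero _ two_ne_zero) (ham ▸ dvd_mul_right _ _), ham,
      Nat.mul_div_cancel_left _ (pow_pos two_pos a)]
    exact hm
  have hfr : f r ≠ 1 := by
    rw [hr, map_pow, hfg]
    intro h1
    have h3 : orderOf ρ = 3 := orderOf_eq_prime hρ3 hρ1
    have := orderOf_dvd_of_pow_eq_one h1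
    rw [h3] at this
    exact absurd ((Nat.prime_three).dvd_of_dvd_pow this) (by norm_num)
  have hrO : (r : G) ∉ h.O := fun hh => hfr (by
    rw [← MonoidHom.mem_ker, hfker]; exact hh)
  have hrc : Commute (r : G) h.u := congrArg Subtype.val (hgu.pow_left (2 ^ a)).eq
  have hro' : ¬ 2 ∣ orderOf (r : G) := by rwa [Subgroup.orderOf_coe]
  have hrL : (r : G) ∈ h.L := odd_mem_L h2 hO r.2 hro'
  -- the odd part of `C(u)`
  set T := h.oddC h.u with hT
  have hrT : (r : G) ∈ T := (h.mem_oddC h.orderOf_u).2 ⟨hrc, hro'⟩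
  obtain ⟨y, hy, hye⟩ := hrT
  set t := h.toInv h.u with ht
  have hr1 : (r : G) ≠ 1 := fun e1 => hrO (e1 ▸ one_mem _)
  have hy1 : y ≠ 1 := fun e1 => hr1 (by rw [← hye, e1, map_one])
  have hCr : ∀ c : G, Commute c (r : G) → t⁻¹ * c * t ∈ h.L := by
    intro c hc
    rw [← centralizer_eq_L h2 hy hy1]
    refine Subgroup.mem_centralizer_singleton_iff.2 ?_
    have h' := hc.conj t⁻¹
    rw [inv_inv, ← hye] at h'
    have e' : t⁻¹ * ((MulAut.conj t).toMonoidHom y) * t = y := by
      show t⁻¹ * (t * y * t⁻¹) * t = y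
      group
    rw [e'] at h'
    exact h'.eq
  let θ : h.O →* h.L :=
    { toFun := fun x => ⟨t⁻¹ * x * t, hCr x ((h.commute_L hrL x.2).symm)⟩
      map_one' := Subtype.ext (by simp)
      map_mul' := fun a b => Subtype.ext (by simp [mul_assoc]) }
  haveI hOL : (h.O.subgroupOf h.L).Normal := Subgroup.normal_subgroupOf_of_le_normalizer h.L_le_H
  let θ' : h.O →* h.L ⧸ h.O.subgroupOf h.L := (QuotientGroup.mk' _).comp θ
  have hinj : Function.Injective θ' := by
    rw [← MonoidHom.ker_eq_bot_iff, Subgroup.eq_bot_iff_forall]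
    intro x hx
    have hxm : t⁻¹ * (x : G) * t ∈ h.O := (QuotientGroup.eq_one_iff (N := h.O.subgroupOf h.L) (θ x)).1 hx
    have hxT : (x : G) ∈ T := ⟨_, hxm, by show t * (t⁻¹ * (x : G) * t) * t⁻¹ = x; group⟩
    refine Subtype.ext ?_
    exact eq_one_of_commute_inverted (h.not_two_dvd_of_mem x.2) ((h.mem_oddC h.orderOf_u).1 hxT).1
      (u_inverts_O h2 x.2)
  have hLqc : Nat.card (h.L ⧸ h.O.subgroupOf h.L) = 60 := by
    have := (h.O.subgroupOf h.L).card_mul_index
    rw [Nat.card_congr (Subgroup.subgroupOfEquivOfLe h.O_le_L).toEquiv, h60, mul_comm 60] at this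
    rw [← Subgroup.index_eq_card]
    exact Nat.eq_of_mul_eq_mul_left Nat.card_pos this
  have hd60 : Nat.card h.O ∣ 60 := hLqc ▸ Subgroup.card_dvd_of_injective θ' hinj
  have h15 : Nat.card h.O ∣ 15 := by
    refine ((Nat.coprime_two_right.2 h.odd_O).pow_right 2).dvd_of_dvd_mul_left ?_
    exact hd60
  have h3 : 3 ∣ Nat.card h.O := by
    have hdr : orderOf (r : G) ∣ Nat.card h.O := by
      have := orderOf_dvd_natCard (⟨(r : G), ⟨y, hy, hye⟩⟩ : T)
      rw [← Subgroup.orderOf_coe, h.card_oddC] at this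
      exact this
    refine dvd_trans ?_ hdr
    rw [Subgroup.orderOf_coe, ← (orderOf_eq_prime hρ3 hρ1 : orderOf ρ = 3)]
    have h' : orderOf (f r) = orderOf ρ := by
      rw [hr, map_pow, hfg]
      exact Nat.Coprime.orderOf_pow (by rw [orderOf_eq_prime hρ3 hρ1]; exact Nat.Coprime.pow_right a (by norm_num))
    rw [← h']; exact orderOf_map_dvd f r
  have h15' : Nat.card h.O ≠ 15 := by
    intro e15
    have hOe : IsCyclic h.O := by
      haveI : Fact (Nat.Prime 3) := ⟨Nat.prime_three⟩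
      haveI : Fact (Nat.Prime 5) := ⟨by norm_num⟩
      obtain ⟨a3, ha3⟩ := exists_prime_orderOf_dvd_card' (G := h.O) 3 (by rw [e15]; norm_num)
      obtain ⟨a5, ha5⟩ := exists_prime_orderOf_dvd_card' (G := h.O) 5 (by rw [e15]; norm_num)
      have hc : Commute a3 a5 := Subtype.ext (h.O_comm a3.2 a5.2).eq
      exact isCyclic_of_orderOf_eq_card (a3 * a5) (by
        rw [hc.orderOf_mul_eq_mul_orderOf_of_coprime (by rw [ha3, ha5]; norm_num), ha3, ha5, e15])
    set R := θ'.range
    have hR : Nat.card R = 15 := by rw [← Subgroup.index_ker, (MonoidHom.ker_eq_bot_iff _).2 hinj, Subgroup.index_bot, e15]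
    -- an element of order fifteen in `S₅`
    let η : h.L →* Equiv.Perm (Fin 5) := f.comp (Subgroup.inclusion h.L_le_H)
    have hη : η.ker = h.O.subgroupOf h.L := by
      ext l
      show Subgroup.inclusion h.L_le_H l ∈ f.ker ↔ _
      rw [hfker]; rfl
    obtain ⟨o15, ho15⟩ := hOe.exists_ofOrder_eq_natCard
    have hinj' : Function.Injective (η.comp θ) := by
      rw [← MonoidHom.ker_eq_bot_iff, Subgroup.eq_bot_iff_forall]
      intro x hx
      apply hinj
      rw [map_one]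
      refine (QuotientGroup.eq_one_iff (θ x)).2 ?_
      rw [← hη]; exact hx
    have key : orderOf ((η.comp θ) o15) = 15 := by rw [orderOf_injective _ hinj', ho15, e15]
    generalize hσ : (η.comp θ) o15 = σ at key
    revert key
    have hall : ∀ σ : Equiv.Perm (Fin 5), σ ^ 15 = 1 → σ ^ 5 = 1 ∨ σ ^ 3 = 1 := by decide +kernel
    intro key
    rcases hall σ (key ▸ pow_orderOf_eq_one σ) with hh | hh <;>
      have := orderOf_dvd_of_pow_eq_one hh <;> rw [key] at this <;> norm_num at this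
  have hle := Nat.le_of_dvd (by norm_num) h15
  obtain ⟨k, hk⟩ := h3
  rcases Nat.lt_or_ge k 2 with hk2 | hk2
  · have : 0 < Nat.card h.O := Nat.card_pos
    omega
  · exfalso
    have hk5 : k ∣ 5 := Nat.dvd_of_mul_dvd_mul_left (by norm_num : 0 < 3) (hk ▸ h15)
    rcases (Nat.dvd_prime (by norm_num : Nat.Prime 5)).1 hk5 with e1 | e1
    · omega
    · exact h15' (by omega)

end Hyp

end CfsgLib.SmallCent
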