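import Cfsg.Agent.Lib.SmallCent.ExcChars
import Mathlib.GroupTheory.Perm.Centralizer

/-!
# The order of a simple group in the setting
-/

set_option autoImplicit false

noncomputable section

namespace CfsgLib.SmallCent

open DihedralGroup CfsgLib.Invol

variable {G : Type*} [Group G] [Finite G]

theorem cube_root_seventeen : ∀ a : ZMod 17, a ^ 3 = 1 → a = 1 := by decide

/-- There is no simple group of order `3672`. -/
theorem not_simple_3672 [IsSimpleGroup G] : Nat.card G ≠ 3672 := by
  classical
  intro hc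
  haveI : Fact (Nat.Prime 17) := ⟨by norm_num⟩
  obtain ⟨P⟩ := (inferInstance : Nonempty (Sylow 17 G))
  have hP : Nat.card (P : Subgroup G) = 17 := by
    rw [P.card_eq_multiplicity, hc, show (3672 : ℕ) = 17 * 216 by norm_num,
      Nat.factorization_mul (by norm_num) (by norm_num), Finsupp.add_apply,
      (by norm_num : Nat.Prime 17).factorization_self, Nat.factorization_eq_zero_of_not_dvd (by norm_num)]
    rfl
  have hidx : (P : Subgroup G).index = 216 := by
    have := (P : Subgroup G).card_mul_index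
    rw [hP, hc] at this
    omega
  have h18 : Nat.card (Sylow 17 G) = 18 := by
    have h1 := card_sylow_modEq_one 17 G
    have h2 : Nat.card (Sylow 17 G) ∣ 216 := hidx ▸ Sylow.card_dvd_index P
    have hne : Nat.card (Sylow 17 G) ≠ 1 := fun e => by
      haveI : Subsingleton (Sylow 17 G) := (Nat.card_eq_one_iff_unique.1 e).1
      haveI : (P : Subgroup G).Normal := Sylow.normal_of_subsingleton P
      rcases (inferInstance : (P : Subgroup G).Normal).eq_bot_or_eq_top with e' | e'
      · rw [e', Subgroup.card_bot] at hP; omega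
      · rw [e', Subgroup.card_top, hc] at hP; omega
    have hle := Nat.le_of_dvd (by norm_num) h2
    unfold Nat.ModEq at h1
    generalize Nat.card (Sylow 17 G) = n at h1 h2 hne hle
    have key : ∀ n ≤ 216, n % 17 = 1 → n ∣ 216 → n ≠ 1 → n = 18 := by decide +kernel
    exact key n hle h1 h2 hne
  set f := MulAction.toPermHom G (Sylow 17 G) with hf
  have hinj : Function.Injective f := by
    rw [← MonoidHom.ker_eq_bot_iff]
    refine (MonoidHom.normal_ker f).eq_bot_or_eq_top.resolve_right fun e => ?_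
    have hN : Subgroup.normalizer (P : Set G) = ⊤ := by
      rw [eq_top_iff]
      intro g _
      rw [← Sylow.smul_eq_iff_mem_normalizer]
      have : f g = 1 := MonoidHom.mem_ker.1 (e ▸ Subgroup.mem_top g)
      exact congrArg (fun σ : Equiv.Perm (Sylow 17 G) => σ P) this
    have := P.card_eq_index_normalizer
    rw [h18, hN, Subgroup.index_top] at this
    omega
  have hN : Nat.card (Subgroup.normalizer (P : Set G)) = 204 := by
    have h1 := (Subgroup.normalizer (P : Set G)).card_mul_index
    rw [← P.card_eq_index_normalizer, h18, hc] at h1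
    omega
  haveI : Fact (Nat.Prime 3) := ⟨by norm_num⟩
  obtain ⟨x, hx⟩ := exists_prime_orderOf_dvd_card' (G := Subgroup.normalizer (P : Set G)) 3
    (by rw [hN]; norm_num)
  have hx3 : orderOf (x : G) = 3 := by rw [Subgroup.orderOf_coe]; exact hx
  obtain ⟨y, hy⟩ := exists_prime_orderOf_dvd_card' (G := (P : Subgroup G)) 17 (by rw [hP])
  have hy17 : orderOf (y : G) = 17 := by rw [Subgroup.orderOf_coe]; exact hy
  have hgen : Subgroup.zpowers (y : G) = (P : Subgroup G) :=
    Subgroup.eq_of_le_of_card_ge (Subgroup.zpowers_le.2 y.2) (by rw [hP, Nat.card_zpowers, hy17])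
  obtain ⟨k, hk⟩ : ∃ k : ℕ, (y : G) ^ k = (x : G) * y * (x : G)⁻¹ :=
    ((isOfFinOrder_of_finite (y : G)).mem_powers_iff_mem_zpowers.2
      (by rw [hgen]; exact (Subgroup.mem_normalizer_iff.1 x.2 (y : G)).1 y.2))
  have hiter : ∀ n : ℕ, (x : G) ^ n * y * ((x : G) ^ n)⁻¹ = (y : G) ^ (k ^ n) := by
    intro n
    induction n with
    | zero => simp
    | succ n ih =>
      calc (x : G) ^ (n + 1) * y * ((x : G) ^ (n + 1))⁻¹
          = (x : G) * ((x : G) ^ n * y * ((x : G) ^ n)⁻¹) * (x : G)⁻¹ := by rw [pow_succ']; group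
        _ = ((x : G) * y * (x : G)⁻¹) ^ (k ^ n) := by rw [ih, conj_pow]
        _ = _ := by rw [← hk, ← pow_mul, ← pow_succ']
  have hk1 : (y : G) ^ k = y := by
    have h3 := hiter 3
    rw [← hx3, pow_orderOf_eq_one, hx3] at h3
    simp only [one_mul, inv_one, mul_one] at h3
    have h4 : k ^ 3 ≡ 1 [MOD 17] := by
      rw [← hy17, ← pow_eq_pow_iff_modEq, pow_one]; exact h3.symm
    have h5 : k ≡ 1 [MOD 17] := by
      rw [← ZMod.natCast_eq_natCast_iff] at h4 ⊢
      push_cast at h4 ⊢
      exact cube_root_seventeen _ h4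
    calc (y : G) ^ k = (y : G) ^ 1 := by rw [pow_eq_pow_iff_modEq, hy17]; exact h5
      _ = y := pow_one _
  have hcomm : Commute (x : G) y := mul_inv_eq_iff_eq_mul.1 (hk.symm.trans hk1)
  haveI := Fintype.ofFinite (Sylow 17 G)
  set σ := f (y : G) with hσ
  have hσo : orderOf σ = 17 := by rw [hσ, orderOf_injective f hinj, hy17]
  obtain ⟨n, hn⟩ := Equiv.Perm.cycleType_prime_order (by rw [hσo]; norm_num : (orderOf σ).Prime)
  rw [hσo] at hn
  have hn0 : n = 0 := by
    have h1 := σ.sum_cycleType
    have h2 := σ.support.card_le_univ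
    rw [hn, Multiset.sum_replicate, smul_eq_mul] at h1
    rw [← Nat.card_eq_fintype_card, h18] at h2
    omega
  subst hn0
  have h17 := σ.nat_card_centralizer
  rw [hn, ← Nat.card_eq_fintype_card, h18] at h17
  norm_num [Multiset.replicate_succ] at h17
  have hmem : f (x : G) ∈ Subgroup.centralizer ({σ} : Set (Equiv.Perm (Sylow 17 G))) :=
    Subgroup.mem_centralizer_singleton_iff.2 (hcomm.map f).eq
  have := Subgroup.orderOf_mk (f (x : G)) hmem ▸ orderOf_dvd_natCard
    (⟨f (x : G), hmem⟩ : Subgroup.centralizer ({σ} : Set (Equiv.Perm (Sylow 17 G))))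
  rw [Nat.card_eq_fintype_card, h17, orderOf_injective f hinj, hx3] at this
  norm_num at this

namespace Hyp

variable {h : Hyp G}

theorem card_eq_of_O2_bot [IsSimpleGroup G] (hG : ¬ IsMulCommutative G) (h2 : h.O2 = ⊥) :
    Nat.card G = 168 ∨ Nat.card G = 360 ∨ Nat.card G = 2520 := by
  obtain ⟨g₀, hg₀, hcard⟩ := h.exists_card_eq
  by_cases hO : h.O = ⊥
  · have hidx : ∀ H : Subgroup G, H.index ≠ 2 := by
      intro H hH
      haveI := Subgroup.normal_of_index_eq_two hH
      rcases (inferInstance : H.Normal).eq_bot_or_eq_top with e | e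
      · rw [e, Subgroup.index_bot] at hH; omega
      · rw [e, Subgroup.index_top] at hH; omega
    have hC8 : Nat.card (Subgroup.centralizer ({h.z} : Set G)) = 8 := by
      have := h.card_C
      rw [hO, Subgroup.card_bot] at this
      exact this
    obtain ⟨-, h' | h'⟩ := CfsgLib.InvolChar.dihedral_eight hidx hC8 h.orderOf_z
      (a := h.w) h.w_mem_C h.orderOf_w (b := h.s) h.s_mem_C h.orderOf_s
      (by rw [s, w, ← map_inv, ← map_mul, ← map_mul, ← map_inv]; rfl)
    · exact Or.inl h'
    · exact Or.inr (Or.inl h')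
  right; right
  have ho1 : 1 < Nat.card h.O := Subgroup.one_lt_card_iff_ne_bot _ |>.2 hO
  have ho3 : Nat.card h.O = 3 := by
    by_contra hne
    obtain ⟨k, hk⟩ := h.odd_O
    have ho : 5 ≤ Nat.card h.O := by omega
    rcases card_L_cases h2 hO with h12 | h60
    · exact not_twelve hG h2 ho h12
    · exact hne (three_of_sixty hG h2 hO h60)
  obtain ⟨R⟩ := h.exists_rowData
  set v := R.δ * (Cfsg.charDegree (R.a : G → ℂ) : ℤ) with hv
  obtain ⟨i, hi⟩ : (8 : ℤ) ∣ v - 1 := R.v_mod
  have heq := R.order_eq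
  rw [hcard, ho3, h2, Subgroup.card_bot, O1_eq h2, ho3, ← hv, show v = 4 * (2 * i) + 1 by omega] at heq
  push_cast at heq
  have h3 := order_three (g := (g₀ : ℤ)) (j := 2 * i) ((Int.odd_coe_nat _).2 hg₀)
    (by exact_mod_cast hg₀.pos) (mul_left_cancel₀ (show (128 : ℤ) ≠ 0 by norm_num) (by linear_combination heq))
  rcases h3 with h3 | h3
  · rw [hcard]; exact_mod_cast h3
  · exact absurd (by rw [hcard]; exact_mod_cast h3) (not_simple_3672 (G := G))

/-- **The order of a simple group in the setting.** -/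
theorem card_cases [IsSimpleGroup G] (h : Hyp G) (hG : ¬ IsMulCommutative G) :
    Nat.card G = 168 ∨ Nat.card G = 360 ∨ Nat.card G = 2520 := by
  by_cases h2 : h.O2 = ⊥
  · exact card_eq_of_O2_bot hG h2
  by_cases h1 : h.O1 = ⊥
  · exact card_eq_of_O2_bot (h := h.swap) hG (h.swap_O2.trans h1)
  exfalso
  rcases le_total (Nat.card h.O1) (Nat.card h.O2) with hle | hle
  · exact not_two_sides (h := h) hG h1 hle
  · exact not_two_sides (h := h.swap) hG (by rw [h.swap_O1]; exact h2) (by rw [h.swap_O1, h.swap_O2]; exact hle)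

end Hyp

end CfsgLib.SmallCent
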