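import Cfsg.Agent.Lib.SmallCent.TwoSidesCore
import Cfsg.Agent.Lib.SmallSimple.AtMost1092.Tools

/-!
# Both fixed-point subgroups of the odd core cannot be nontrivial
-/

set_option autoImplicit false

noncomputable section

namespace CfsgLib.SmallCent

open DihedralGroup CfsgLib.Invol

variable {G : Type*} [Group G] [Finite G]

theorem relIndex_sup_of_normalizer {A K : Subgroup G} (hn : A ≤ Subgroup.normalizer (K : Set G)) :
    K.relIndex (A ⊔ K) = K.relIndex A := by
  have hN : A ⊔ K ≤ Subgroup.normalizer (K : Set G) := sup_le hn Subgroup.le_normalizer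
  rw [← Subgroup.relIndex_subgroupOf hN, ← Subgroup.relIndex_subgroupOf hn,
    Subgroup.subgroupOf_sup hn Subgroup.le_normalizer]
  haveI : (K.subgroupOf (Subgroup.normalizer (K : Set G))).Normal := Subgroup.normal_in_normalizer
  exact Subgroup.relIndex_sup_right ..

theorem card_mul_relIndex {H K : Subgroup G} (hHK : H ≤ K) : Nat.card H * H.relIndex K = Nat.card K := by
  rw [← Subgroup.relIndex_bot_left H, Subgroup.relIndex_mul_relIndex ⊥ H K bot_le hHK, Subgroup.relIndex_bot_left]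

theorem odd_sup_of_le_normalizer {A K : Subgroup G} (hA : Odd (Nat.card A)) (hK : Odd (Nat.card K))
    (hn : A ≤ Subgroup.normalizer (K : Set G)) : Odd (Nat.card (A ⊔ K : Subgroup G)) := by
  haveI : (K.subgroupOf (A ⊔ K)).Normal :=
    Subgroup.normal_subgroupOf_of_le_normalizer (sup_le hn Subgroup.le_normalizer)
  have h1 := (K.subgroupOf (A ⊔ K)).card_mul_index
  rw [← h1, Nat.card_congr (Subgroup.subgroupOfEquivOfLe le_sup_right).toEquiv]
  refine hK.mul ?_
  have h2 : K.relIndex (A ⊔ K) ∣ Nat.card A := by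
    rw [relIndex_sup_of_normalizer hn]
    exact Subgroup.relIndex_dvd_card K A
  exact hA.of_dvd_nat h2

theorem mem_of_sq_mem {K : Subgroup G} {y : G} (ho : ¬ 2 ∣ orderOf y) (h2 : y * y ∈ K) : y ∈ K := by
  obtain ⟨m, hm⟩ := Nat.odd_iff.2 (Nat.two_dvd_ne_zero.1 ho)
  have : y = (y * y) ^ (m + 1) := by
    rw [← pow_two, ← pow_mul, show 2 * (m + 1) = orderOf y + 1 by omega, pow_succ, pow_orderOf_eq_one, one_mul]
  rw [this]
  exact pow_mem h2 _

namespace Hyp

variable {h : Hyp G}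

/-- The involutions of `C(x)` generate this subgroup. -/
def L0 (x : G) : Subgroup G := Subgroup.closure {g | Commute g x ∧ orderOf g = 2}

omit [Finite G] in
theorem L0_le (x : G) : L0 x ≤ Subgroup.centralizer ({x} : Set G) := by
  rw [L0, Subgroup.closure_le]
  exact fun g hg => Subgroup.mem_centralizer_singleton_iff.2 hg.1

omit [Finite G] in
theorem L0_conj {x g l : G} (hg : Commute g x) (hl : l ∈ L0 x) : g * l * g⁻¹ ∈ L0 x := by
  have hle : (L0 x).map (MulAut.conj g).toMonoidHom ≤ L0 x := by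
    rw [L0, MonoidHom.map_closure, Subgroup.closure_le]
    rintro _ ⟨a, ⟨ha, ha2⟩, rfl⟩
    refine Subgroup.subset_closure ⟨?_, (CfsgLib.Invol.orderOf_conj_eq g a).trans ha2⟩
    show Commute (g * a * g⁻¹) x
    have := ha.conj g
    rwa [show g * x * g⁻¹ = x by rw [hg.eq, mul_inv_cancel_right]] at this
  exact hle ⟨l, hl, rfl⟩

theorem V1_le_L0 {x : G} (hx : x ∈ h.O1) : h.V1 ≤ L0 x := by
  intro v hv
  rcases h.cases_V1 hv with e | e | e | e
  · rw [e]; exact one_mem _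
  all_goals exact Subgroup.subset_closure ⟨h.commute_V1_x hx hv, h.orderOf_V1 (by tauto)⟩

theorem oddC_le_centralizer {x : G} (hx : x ∈ h.O1) {t : G} (ht : t = h.z ∨ t = h.s ∨ t = h.z * h.s) :
    h.oddC t ≤ Subgroup.centralizer ({x} : Set G) := by
  have hxt : x ∈ h.oddC t := by
    refine (h.mem_oddC (h.orderOf_V1 ht)).2 ⟨(h.commute_V1_x hx ?_).symm, h.not_two_dvd_of_mem (h.mem_O1.1 hx).1⟩
    rcases ht with rfl | rfl | rfl
    exacts [h.z_mem_V1, h.s_mem_V1, h.zs_mem_V1]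
  exact fun y hy => Subgroup.mem_centralizer_singleton_iff.2 (h.oddC_comm hy hxt).eq

theorem O2_le_L0 {x : G} (hx : x ∈ h.O1) : h.O2 ≤ L0 x := by
  intro b hb
  obtain ⟨hbO, -⟩ := h.mem_O2.1 hb
  refine mem_of_sq_mem (h.not_two_dvd_of_mem hbO) ?_
  have h1 : b * h.s * b⁻¹ ∈ L0 x :=
    L0_conj (h.commute_O_x hx hbO) (V1_le_L0 hx h.s_mem_V1)
  have h2 := mul_mem h1 (inv_mem (V1_le_L0 hx h.s_mem_V1))
  rwa [show b * h.s * b⁻¹ * h.s⁻¹ = b * (h.s * b * h.s⁻¹)⁻¹ by group, h.s_inverts hb, inv_inv] at h2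

/-- Without fusion the odd parts of the three centralizers generate an odd subgroup. -/
theorem odd_K1_of_complement {x : G} (hx : x ∈ h.O1) {K : Subgroup (L0 x)}
    (hKodd : Odd (Nat.card K)) (hKall : ∀ g : L0 x, ¬ 2 ∣ orderOf g → g ∈ K) : Odd (Nat.card h.K1) := by
  set K' := K.map (L0 x).subtype with hK'
  have hK'odd : Odd (Nat.card K') := by
    rw [hK', Subgroup.card_map_of_injective (Subgroup.subtype_injective _)]; exact hKodd
  have hmem : ∀ g ∈ L0 x, ¬ 2 ∣ orderOf g → g ∈ K' := fun g hg ho =>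
    ⟨⟨g, hg⟩, hKall _ (by rwa [Subgroup.orderOf_mk]), rfl⟩
  have hnorm : h.O1 ≤ Subgroup.normalizer (K' : Set G) := by
    intro a ha
    have hax : Commute a x := h.commute_O_x hx (h.mem_O1.1 ha).1
    have key : ∀ g : G, Commute g x → ∀ k ∈ K', g * k * g⁻¹ ∈ K' := by
      intro g hg k hk
      obtain ⟨⟨k', hk'L⟩, hk'K, rfl⟩ := hk
      refine hmem _ (L0_conj hg hk'L) ?_
      rw [CfsgLib.Invol.orderOf_conj_eq]
      exact not_two_dvd_orderOf hK'odd ⟨⟨k', hk'L⟩, hk'K, rfl⟩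
    rw [Subgroup.mem_normalizer_iff]
    intro k
    refine ⟨key a hax k, fun hk => ?_⟩
    have := key a⁻¹ hax.inv_left _ hk
    rwa [inv_inv, show a⁻¹ * (a * k * a⁻¹) * a = k by group] at this
  have hbig : Odd (Nat.card (h.O1 ⊔ K' : Subgroup G)) := odd_sup_of_le_normalizer h.odd_O1 hK'odd hnorm
  have hO2 : h.O2 ≤ h.O1 ⊔ K' := fun b hb =>
    Subgroup.mem_sup_right (hmem b (O2_le_L0 hx hb) (h.not_two_dvd_of_mem (h.mem_O2.1 hb).1))
  have hside : ∀ t, (t = h.s ∨ t = h.z * h.s) → h.oddC t ≤ h.O1 ⊔ K' := by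
    intro t ht y hy
    have ht' : t = h.z ∨ t = h.s ∨ t = h.z * h.s := Or.inr ht
    have hyx : Commute y x := Subgroup.mem_centralizer_singleton_iff.1 (oddC_le_centralizer hx ht' hy)
    have htV : t ∈ h.V1 := by
      rcases ht with rfl | rfl
      exacts [h.s_mem_V1, h.zs_mem_V1]
    have hzt : h.z * t * h.z⁻¹ = t := by rw [(h.commute_V1 h.z_mem_V1 htV).eq, mul_inv_cancel_right]
    have hv : h.z * y * h.z⁻¹ ∈ h.oddC t := by
      have := h.conj_mem_oddC (g := h.z) (h.orderOf_V1 ht') hy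
      rwa [hzt] at this
    set v := h.z * y * h.z⁻¹ with hvdef
    have hcv : Commute y v := h.oddC_comm hy hv
    have h1 : y * v⁻¹ ∈ K' := by
      refine hmem _ ?_ (not_two_dvd_orderOf (h.odd_card_oddC t) (mul_mem hy (inv_mem hv)))
      rw [hvdef, show y * (h.z * y * h.z⁻¹)⁻¹ = y * h.z * y⁻¹ * h.z⁻¹ by group]
      exact mul_mem (L0_conj hyx (V1_le_L0 hx h.z_mem_V1)) (inv_mem (V1_le_L0 hx h.z_mem_V1))
    have h2 : y * v ∈ h.O1 := by
      have hz : Commute (y * v) h.z := by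
        refine (mul_inv_eq_iff_eq_mul.1 ?_).symm
        have hzz : h.z * h.z = 1 := h.mul_self_V1 h.z_mem_V1
        calc h.z * (y * v) * h.z⁻¹ = h.z * y * h.z⁻¹ * (h.z * h.z) * y * (h.z * h.z)⁻¹ := by rw [hvdef]; group
          _ = v * y := by rw [hzz, mul_one, inv_one, mul_one, ← hvdef]
          _ = y * v := hcv.eq.symm
      have hmem' := mul_mem hy hv
      obtain ⟨hct, ho⟩ := (h.mem_oddC (h.orderOf_V1 ht')).1 hmem'
      refine h.mem_O1.2 ⟨h.mem_O_of_odd (h.mem_C.2 hz) ho, ?_⟩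
      rcases ht with rfl | rfl
      · exact hct
      · exact h.commute_z_s_zs hz hct
    refine mem_of_sq_mem ((h.mem_oddC (h.orderOf_V1 ht')).1 hy).2 ?_
    have := mul_mem (Subgroup.mem_sup_right (S := h.O1) h1) (Subgroup.mem_sup_left (T := K') h2)
    rwa [show y * v⁻¹ * (y * v) = y * y by
      calc y * v⁻¹ * (y * v) = y * (v⁻¹ * y) * v := by group
        _ = y * (y * v⁻¹) * v := by rw [hcv.inv_right.eq]
        _ = y * y := by group] at this
  refine hbig.of_dvd_nat (Subgroup.card_dvd_of_le ?_)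
  refine sup_le (sup_le (fun y hy => ?_) (hside _ (Or.inl rfl))) (hside _ (Or.inr rfl))
  obtain ⟨a, ha, b, hb, rfl⟩ := h.exists_mul hy
  exact mul_mem (Subgroup.mem_sup_left ha) (hO2 hb)

/-- With fusion the centralizer of `x` is large. -/
theorem centralizer_large {x : G} (hx : x ∈ h.O1) (hx1 : x ≠ 1)
    (hone : ∀ a b : L0 x, orderOf a = 2 → orderOf b = 2 → IsConj a b) :
    96 * Nat.card h.O * Nat.card h.O2 ^ 2 < 5 * Nat.card (Subgroup.centralizer ({x} : Set G)) := by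
  set X := Subgroup.centralizer ({x} : Set G) with hX
  have hVL := V1_le_L0 (h := h) hx
  have hlin : ∀ f : L0 x →* ℂˣ, f = 1 := by
    intro f
    have hinv : ∀ g : L0 x, orderOf g = 2 → f g = f ⟨h.z, hVL h.z_mem_V1⟩ := by
      intro g hg
      obtain ⟨c, hc⟩ := isConj_iff.1 (hone ⟨h.z, hVL h.z_mem_V1⟩ g (by rw [Subgroup.orderOf_mk, h.orderOf_z]) hg)
      rw [← hc, map_mul, map_mul, map_inv, mul_comm (f c), mul_inv_cancel_right]
    have hμ : f ⟨h.z, hVL h.z_mem_V1⟩ = 1 := by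
      have e := hinv (⟨h.z, hVL h.z_mem_V1⟩ * ⟨h.s, hVL h.s_mem_V1⟩) (by
        rw [← Subgroup.orderOf_coe]; exact h.orderOf_zs)
      rw [map_mul, hinv ⟨h.s, hVL h.s_mem_V1⟩ (by rw [Subgroup.orderOf_mk, h.orderOf_s])] at e
      exact mul_eq_left.1 e
    refine MonoidHom.ext fun g => ?_
    obtain ⟨g, hg⟩ := g
    induction hg using Subgroup.closure_induction with
    | mem a ha => exact (hinv ⟨a, Subgroup.subset_closure ha⟩ ((Subgroup.orderOf_mk a _).trans ha.2)).trans hμ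
    | one => exact map_one f
    | mul a b ha hb iha ihb =>
      rw [show (⟨a * b, mul_mem ha hb⟩ : L0 x) = ⟨a, ha⟩ * ⟨b, hb⟩ from rfl, map_mul, iha, ihb]; simp
    | inv a ha iha =>
      rw [show (⟨a⁻¹, inv_mem ha⟩ : L0 x) = (⟨a, ha⟩ : L0 x)⁻¹ from rfl, map_inv, iha]; simp
  have hbd := (h.bounds hx hx1 hVL (L0_le x) hone).2 hlin
  -- the Frattini decomposition
  have hO1X : h.O1 ≤ X := fun a ha => Subgroup.mem_centralizer_singleton_iff.2 (h.commute_O_x hx (h.mem_O1.1 ha).1).eq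
  have hOX : h.O ≤ X := fun a ha => Subgroup.mem_centralizer_singleton_iff.2 (h.commute_O_x hx ha).eq
  have hXN : X ≤ Subgroup.normalizer (L0 x : Set G) := by
    intro g hg
    have hg' : Commute g x := Subgroup.mem_centralizer_singleton_iff.1 hg
    rw [Subgroup.mem_normalizer_iff]
    refine fun k => ⟨L0_conj hg', fun hk => ?_⟩
    have := L0_conj hg'.inv_left hk
    rwa [inv_inv, show g⁻¹ * (g * k * g⁻¹) * g = k by group] at this
  have hXeq : X = h.O1 ⊔ L0 x := by
    refine le_antisymm (fun y hy => ?_) (sup_le hO1X (L0_le x))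
    have hy' : Commute y x := Subgroup.mem_centralizer_singleton_iff.1 hy
    have hyz : y * h.z * y⁻¹ ∈ L0 x := L0_conj hy' (hVL h.z_mem_V1)
    obtain ⟨l, hl⟩ := isConj_iff.1 (hone ⟨h.z, hVL h.z_mem_V1⟩ ⟨_, hyz⟩ (by rw [Subgroup.orderOf_mk, h.orderOf_z])
      (by rw [Subgroup.orderOf_mk, CfsgLib.Invol.orderOf_conj_eq, h.orderOf_z]))
    have hl' : (l : G) * h.z * (l : G)⁻¹ = y * h.z * y⁻¹ := congrArg Subtype.val hl
    have hnz : Commute ((l : G)⁻¹ * y) h.z := by
      refine mul_inv_eq_iff_eq_mul.1 ?_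
      calc (l : G)⁻¹ * y * h.z * ((l : G)⁻¹ * y)⁻¹ = (l : G)⁻¹ * (y * h.z * y⁻¹) * l := by group
        _ = h.z := by rw [← hl']; group
    have hnx : Commute ((l : G)⁻¹ * y) x :=
      (show Commute (l : G) x from Subgroup.mem_centralizer_singleton_iff.1 (L0_le x l.2)).inv_left.mul_left hy'
    obtain ⟨a, ha, v, hv, e⟩ := h.decomp_x hx hx1 hnz hnx
    obtain ⟨a1, ha1, b, hb, rfl⟩ := h.exists_mul ha
    rw [show y = (l : G) * ((l : G)⁻¹ * y) by group, e]
    exact mul_mem (Subgroup.mem_sup_right l.2) (mul_mem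
      (mul_mem (Subgroup.mem_sup_left ha1) (Subgroup.mem_sup_right (O2_le_L0 hx hb))) (Subgroup.mem_sup_right (hVL hv)))
  have hXeq' : X = h.O ⊔ L0 x := le_antisymm
    (hXeq.le.trans (sup_le_sup_right (fun a ha => (h.mem_O1.1 ha).1) _)) (sup_le hOX (L0_le x))
  set d := (L0 x).relIndex X with hd
  have hd1 : d = (L0 x).relIndex h.O1 := by rw [hd, hXeq, relIndex_sup_of_normalizer (hO1X.trans hXN)]
  have hd2 : d = (L0 x).relIndex h.O := by rw [hd, hXeq', relIndex_sup_of_normalizer (hOX.trans hXN)]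
  have key : ∀ H : Subgroup G, Nat.card (L0 x ⊓ H : Subgroup G) * (L0 x).relIndex H = Nat.card H := by
    intro H
    rw [← Subgroup.inf_relIndex_right]
    exact card_mul_relIndex inf_le_right
  have e1 := key h.O1
  have e2 := key h.O
  have e3 : Nat.card (L0 x) * d = Nat.card X := card_mul_relIndex (L0_le x)
  rw [← hd1] at e1
  rw [← hd2] at e2
  have hd0 : 0 < d := Nat.pos_of_ne_zero fun e => by
    rw [e, mul_zero] at e3; exact absurd e3.symm Nat.card_pos.ne'
  have hbig : 24 * (4 * Nat.card h.O) ^ 3 < 5 * (Nat.card X * (4 * Nat.card h.O1) ^ 2) := by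
    rw [← e1, ← e2, ← e3]
    calc 24 * (4 * (Nat.card (L0 x ⊓ h.O : Subgroup G) * d)) ^ 3
        = 24 * (4 * Nat.card (L0 x ⊓ h.O : Subgroup G)) ^ 3 * d ^ 3 := by ring
      _ < 5 * (Nat.card (L0 x) * (4 * Nat.card (L0 x ⊓ h.O1 : Subgroup G)) ^ 2) * d ^ 3 :=
          Nat.mul_lt_mul_of_pos_right hbd (pow_pos hd0 3)
      _ = _ := by ring
  rw [h.card_O_eq] at hbig ⊢
  have h1 : 0 < 16 * Nat.card h.O1 ^ 2 := Nat.mul_pos (by norm_num) (pow_pos Nat.card_pos 2)
  refine Nat.lt_of_mul_lt_mul_left (a := 16 * Nat.card h.O1 ^ 2) ?_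
  linarith

/-- **Both fixed-point subgroups cannot be nontrivial.** -/
theorem not_two_sides [IsSimpleGroup G] (hG : ¬ IsMulCommutative G) (h1 : h.O1 ≠ ⊥)
    (hle : Nat.card h.O1 ≤ Nat.card h.O2) : False := by
  haveI : Fact (Nat.Prime 2) := ⟨Nat.prime_two⟩
  obtain ⟨x, hx, hx1⟩ : ∃ x ∈ h.O1, x ≠ 1 := by
    by_contra hno
    push Not at hno
    exact h1 ((Subgroup.eq_bot_iff_forall _).2 hno)
  have hone : 3 ≤ Nat.card h.O1 := by
    have h2 : 1 < Nat.card h.O1 := Finite.one_lt_card_iff_nontrivial.2 ((Subgroup.nontrivial_iff_ne_bot _).2 h1)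
    rcases h.odd_O1 with ⟨k, hk⟩; omega
  have ho : 9 ≤ Nat.card h.O := by rw [h.card_O_eq]; exact Nat.mul_le_mul hone (hone.trans hle)
  rcases h.dichotomy hx hx1 (V1_le_L0 hx) (L0_le x) with ⟨K, -, hK, hall⟩ | hfus
  · exact odd_K1_contradiction (odd_K1_of_complement hx hK hall) (by omega) hle
  have hbig := centralizer_large hx hx1 hfus
  set X := Subgroup.centralizer ({x} : Set G) with hX
  set M := Subgroup.normalizer (X : Set G) with hM
  have hconj : ∀ g : G, (g * x * g⁻¹ = x ∨ g * x * g⁻¹ = x⁻¹) → g ∈ M := by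
    intro g hg
    rw [hM, Subgroup.mem_normalizer_iff]
    intro k
    have e : ∀ k : G, Commute k (g * x * g⁻¹) ↔ Commute k x := by
      intro k
      rcases hg with e | e <;> rw [e]
      exact Commute.inv_right_iff
    simp only [hX, Subgroup.mem_centralizer_singleton_iff]
    refine ⟨fun hk => (e _).1 ((show Commute k x from hk).conj g), fun hk => ?_⟩
    have := ((e _).2 hk).conj g⁻¹
    rwa [inv_inv, show g⁻¹ * (g * k * g⁻¹) * g = k by group, show g⁻¹ * (g * x * g⁻¹) * g = x by group] at this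
  obtain ⟨hxO, hxs⟩ := h.mem_O1.1 hx
  have hwM : h.w ∈ M := hconj _ (Or.inr (h.inverts hxO))
  have hsM : h.s ∈ M := hconj _ (Or.inl (by rw [← hxs.eq, mul_inv_cancel_right]))
  have hwX : h.w ∉ X := fun hw => hx1 (h.fpf hxO (Subgroup.mem_centralizer_singleton_iff.1 hw).symm)
  have hPM : (h.P : Subgroup G) ≤ M := by
    rw [← h.hd.range]
    rintro _ ⟨d, rfl⟩
    rcases d with i | i
    · rw [← ZMod.natCast_zmod_val i, ← r_one_pow, map_pow]; exact pow_mem hwM _
    · rw [show sr i = sr 0 * r i by rw [sr_mul_r, zero_add], map_mul, ← ZMod.natCast_zmod_val i, ← r_one_pow,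
        map_pow]
      exact mul_mem hsM (pow_mem hwM _)
  have hXM : X ≤ M := Subgroup.le_normalizer
  have h2X : 2 * Nat.card X ≤ Nat.card M := by
    rw [← card_mul_relIndex hXM, mul_comm 2]
    refine Nat.mul_le_mul_left _ ?_
    have h0 : X.relIndex M ≠ 0 := Subgroup.index_ne_zero_of_finite
    have h1 : X.relIndex M ≠ 1 := fun e => hwX (Subgroup.relIndex_eq_one.1 e hwM)
    omega
  set n := M.index with hn
  have hodd : ¬ 2 ∣ n := fun h2 => h.P.not_dvd_index (h2.trans (Subgroup.index_dvd_of_le hPM))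
  have hne1 : n ≠ 1 := by
    intro e
    have hMt : M = ⊤ := Subgroup.index_eq_one.1 e
    haveI : X.Normal := Subgroup.normalizer_eq_top_iff.1 hMt
    rcases (inferInstance : X.Normal).eq_bot_or_eq_top with e' | e'
    · exact hx1 (Subgroup.mem_bot.1 (e' ▸ Subgroup.mem_centralizer_singleton_iff.2 rfl : x ∈ (⊥ : Subgroup G)))
    · exact hwX (e' ▸ Subgroup.mem_top _)
  have hGM : Nat.card M * n = Nat.card G := M.card_mul_index
  have hord := card_le_order (h := h)
  have hS : (Nat.card h.O1 + Nat.card h.O2) ^ 2 ≤ 4 * Nat.card h.O2 ^ 2 := by nlinarith [hle]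
  have hge : 81 ≤ Nat.card h.O * Nat.card h.O2 ^ 2 := by
    have : 9 ≤ Nat.card h.O2 ^ 2 := by nlinarith [hone, hle]
    exact Nat.mul_le_mul ho this
  set Q := Nat.card h.O * Nat.card h.O2 ^ 2 with hQ
  have hupper : Nat.card G ≤ 360 * Q := by
    rw [hQ]
    calc Nat.card G ≤ _ := hord
      _ ≤ 90 * Nat.card h.O * (4 * Nat.card h.O2 ^ 2) := Nat.mul_le_mul_left _ hS
      _ = _ := by ring
  have hlow : 192 * Q * n < 5 * Nat.card G + 1 := by
    rw [hQ, ← hGM]
    have : 192 * (Nat.card h.O * Nat.card h.O2 ^ 2) ≤ 5 * Nat.card M := by linarith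
    nlinarith
  have hn9 : n ≤ 9 := by
    by_contra hn9
    have : 192 * Q * 10 ≤ 192 * Q * n := Nat.mul_le_mul_left _ (by omega)
    omega
  have hfac := CfsgLib.SmallSimple.AtMost1092.index_factorial hG (H := M) rfl hne1
  obtain ⟨g₀, hg₀, hg⟩ := h.exists_card_eq
  rw [hg] at hfac hlow
  have hcop : ∀ m : ℕ, 2 * (8 * g₀) ∣ 16 * (2 ^ 3 * m) → g₀ ∣ m := fun m hm => by
    rw [show 2 * (8 * g₀) = 16 * g₀ by ring] at hm
    exact ((Nat.coprime_two_right.2 hg₀).pow_right 3).dvd_of_dvd_mul_left (Nat.dvd_of_mul_dvd_mul_left (by norm_num) hm)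
  have hn0 : 0 < n := Nat.pos_of_ne_zero Subgroup.index_ne_zero_of_finite
  rw [← hn] at hfac
  interval_cases hnv : n <;> try omega
  all_goals
    have h9 : g₀ ≤ 2835 := Nat.le_of_dvd (by norm_num) (hcop 2835 (hfac.trans (by norm_num [Nat.factorial])))
    first
    | omega
    | (have h7 : g₀ ≤ 315 := Nat.le_of_dvd (by norm_num)
        (((Nat.coprime_two_right.2 hg₀)).dvd_of_dvd_mul_left (show g₀ ∣ 2 * 315 from
          (Nat.dvd_of_mul_dvd_mul_left (k := 8) (by norm_num)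
            (show 8 * g₀ ∣ 8 * (2 * 315) from (dvd_mul_left _ 2).trans (hfac.trans (by norm_num [Nat.factorial]))))))
       omega)

end Hyp

end CfsgLib.SmallCent
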