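import Cfsg.Agent.Lib.SmallCent.CentX
import Cfsg.Agent.Lib.SmallCent.Rows
import Cfsg.Agent.Lib.InvolChar.D8
import Cfsg.Agent.Lib.Cores.PConstrained

/-!
# The subgroup generated by the odd parts of the three centralizers
-/

set_option autoImplicit false

noncomputable section

namespace CfsgLib.SmallCent

open DihedralGroup CfsgLib.Invol

variable {G : Type*} [Group G] [Finite G]

namespace Hyp

variable (h : Hyp G)

/-- Generated by the odd parts of the centralizers of `z`, `s`, `z s`. -/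
def K1 : Subgroup G := h.O ⊔ h.oddC h.s ⊔ h.oddC (h.z * h.s)

theorem orderOf_V1 {t : G} (ht : t = h.z ∨ t = h.s ∨ t = h.z * h.s) : orderOf t = 2 := by
  rcases ht with rfl | rfl | rfl
  exacts [h.orderOf_z, h.orderOf_s, h.orderOf_zs]

theorem oddC_le_K1 {t : G} (ht : t = h.z ∨ t = h.s ∨ t = h.z * h.s) : h.oddC t ≤ h.K1 := by
  rcases ht with rfl | rfl | rfl
  · exact h.oddC_z.le.trans (le_sup_left.trans le_sup_left)
  · exact le_sup_right.trans le_sup_left
  · exact le_sup_right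

theorem normalizes_K1 {g : G}
    (hg : ∀ t, (t = h.z ∨ t = h.s ∨ t = h.z * h.s) →
      (g * t * g⁻¹ = h.z ∨ g * t * g⁻¹ = h.s ∨ g * t * g⁻¹ = h.z * h.s)) :
    g ∈ Subgroup.normalizer (h.K1 : Set G) := by
  have hle : h.K1.map (MulAut.conj g).toMonoidHom ≤ h.K1 := by
    have key : ∀ t, (t = h.z ∨ t = h.s ∨ t = h.z * h.s) →
        (h.oddC t).map (MulAut.conj g).toMonoidHom ≤ h.K1 := by
      rintro t ht _ ⟨y, hy, rfl⟩
      exact h.oddC_le_K1 (hg t ht) (h.conj_mem_oddC (h.orderOf_V1 ht) hy)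
    rw [K1, Subgroup.map_sup, Subgroup.map_sup]
    refine sup_le (sup_le ?_ (key _ (Or.inr (Or.inl rfl)))) (key _ (Or.inr (Or.inr rfl)))
    exact (congrArg (Subgroup.map _) h.oddC_z.symm).le.trans (key _ (Or.inl rfl))
  have heq : h.K1.map (MulAut.conj g).toMonoidHom = h.K1 :=
    Subgroup.eq_of_le_of_card_ge hle (by rw [Subgroup.card_map_of_injective (MulAut.conj g).injective])
  rw [Subgroup.mem_normalizer_iff]
  intro y
  refine ⟨fun hy => heq ▸ ⟨y, hy, rfl⟩, fun hy => ?_⟩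
  rw [← heq] at hy
  obtain ⟨y', hy', e⟩ := hy
  rwa [← (MulAut.conj g).injective e]

theorem C_le_normalizer_K1 : h.C ≤ Subgroup.normalizer (h.K1 : Set G) := by
  intro g hg
  have hy := h.decomp hg
  set d := h.π ⟨g, hg⟩
  rw [show g = g * (h.ι d)⁻¹ * h.ι d by rw [inv_mul_cancel_right]]
  refine mul_mem (Subgroup.le_normalizer (h.oddC_le_K1 (Or.inl rfl) (h.oddC_z ▸ hy))) (h.normalizes_K1 ?_)
  have key : ∀ d e : DihedralGroup 4, (e = r 2 ∨ e = sr 0 ∨ e = r 2 * sr 0) →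
      (d * e * d⁻¹ = r 2 ∨ d * e * d⁻¹ = sr 0 ∨ d * e * d⁻¹ = r 2 * sr 0) := by decide
  intro t ht
  obtain ⟨e, he, rfl⟩ : ∃ e, (e = r 2 ∨ e = sr 0 ∨ e = r 2 * sr 0) ∧ h.ι e = t := by
    rcases ht with rfl | rfl | rfl
    · exact ⟨_, Or.inl rfl, rfl⟩
    · exact ⟨_, Or.inr (Or.inl rfl), rfl⟩
    · exact ⟨_, Or.inr (Or.inr rfl), map_mul _ _ _⟩
  rw [← map_inv, ← map_mul, ← map_mul]
  rcases key d e he with e' | e' | e' <;> rw [e']
  · exact Or.inl rfl
  · exact Or.inr (Or.inl rfl)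
  · exact Or.inr (Or.inr (map_mul _ _ _))

variable {h}

/-- The odd members of `K₁` centralizing an involution of the four-group. -/
theorem K1_inf_centralizer (hK : Odd (Nat.card h.K1)) {t : G} (ht : t = h.z ∨ t = h.s ∨ t = h.z * h.s) :
    h.K1 ⊓ Subgroup.centralizer ({t} : Set G) = h.oddC t := by
  refine le_antisymm (fun g hg => (h.mem_oddC (h.orderOf_V1 ht)).2
    ⟨Subgroup.mem_centralizer_singleton_iff.1 hg.2, not_two_dvd_orderOf hK hg.1⟩) (le_inf (h.oddC_le_K1 ht) ?_)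
  exact fun g hg => Subgroup.mem_centralizer_singleton_iff.2 ((h.mem_oddC (h.orderOf_V1 ht)).1 hg).1

theorem card_K1 (hK : Odd (Nat.card h.K1)) :
    Nat.card h.K1 = Nat.card h.O1 * Nat.card h.O2 ^ 3 := by
  have hn := h.C_le_normalizer_K1
  have e : h.K1 ⊓ Subgroup.centralizer ({h.z, h.s} : Set G) = h.O1 := by
    refine le_antisymm (fun g hg => ?_) (fun g hg => ⟨h.oddC_le_K1 (Or.inl rfl) (h.oddC_z ▸ (h.mem_O1.1 hg).1),
      mem_centralizer_pair.2 ⟨h.mem_C.1 (h.O_le (h.mem_O1.1 hg).1), (h.mem_O1.1 hg).2⟩⟩)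
    obtain ⟨hz, hs⟩ := mem_centralizer_pair.1 hg.2
    exact h.mem_O1.2 ⟨h.mem_O_of_odd (h.mem_C.2 hz) (not_two_dvd_orderOf hK hg.1), hs⟩
  have hf := h.fourGroup_card hK (hn h.z_mem_C) (hn h.s_mem_C)
  rw [e, K1_inf_centralizer hK (Or.inl rfl), K1_inf_centralizer hK (Or.inr (Or.inl rfl)),
    K1_inf_centralizer hK (Or.inr (Or.inr rfl)), h.card_oddC, h.card_oddC, h.card_oddC, h.card_O_eq] at hf
  exact Nat.eq_of_mul_eq_mul_right (pow_pos Nat.card_pos 2) (hf.trans (by ring))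

theorem card_le_order : Nat.card G ≤ 90 * Nat.card h.O * (Nat.card h.O1 + Nat.card h.O2) ^ 2 := by
  obtain ⟨R⟩ := h.exists_rowData
  set v := R.δ * (Cfsg.charDegree (R.a : G → ℂ) : ℤ) with hv
  have hv' : v ≤ -3 ∨ 9 ≤ v := by
    have h8 : (8 : ℤ) ∣ v - 1 := R.v_mod
    have h1 : v ≠ 1 := R.v_ne
    omega
  have he : (Nat.card G : ℤ) * (v - 1) ^ 2 =
      64 * Nat.card h.O * (Nat.card h.O1 + Nat.card h.O2 : ℤ) ^ 2 * (v * (v + 1)) := R.order_eq
  have he' : (Nat.card G : ℚ) * ((v : ℚ) - 1) ^ 2 =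
      64 * (Nat.card h.O : ℚ) * ((Nat.card h.O1 : ℚ) + Nat.card h.O2) ^ 2 * ((v : ℚ) * ((v : ℚ) + 1)) := by
    exact_mod_cast he
  exact_mod_cast order_le (Nat.cast_nonneg _)
    (hv'.imp (fun h => by exact_mod_cast h) fun h => by exact_mod_cast h) he'

theorem odd_K1_contradiction [IsSimpleGroup G] (hK : Odd (Nat.card h.K1)) (hO : 1 < Nat.card h.O)
    (hle : Nat.card h.O1 ≤ Nat.card h.O2) : False := by
  haveI : Fact (Nat.Prime 2) := ⟨Nat.prime_two⟩
  set n := Nat.card h.O2 with hn2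
  have hn := h.C_le_normalizer_K1
  have hcard := card_K1 hK
  have hzO : h.O ≤ h.K1 := le_sup_left.trans le_sup_left
  -- the fixed points of the other four-group
  have e2 : h.K1 ⊓ Subgroup.centralizer ({h.swap.z, h.swap.s} : Set G) = h.O2 := by
    refine le_antisymm (fun g hg => ?_) (fun g hg => ⟨hzO (h.mem_O2.1 hg).1,
      mem_centralizer_pair.2 ⟨h.mem_C.1 (h.O_le (h.mem_O2.1 hg).1), (h.mem_O2.1 hg).2⟩⟩)
    obtain ⟨hz, hs⟩ := mem_centralizer_pair.1 hg.2
    exact h.mem_O2.2 ⟨h.mem_O_of_odd (h.mem_C.2 hz) (not_two_dvd_orderOf hK hg.1), hs⟩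
  have hwN : h.w ∈ Subgroup.normalizer (h.K1 : Set G) := hn h.w_mem_C
  have hsu : h.swap.s = h.u := rfl
  have hwu : h.w * h.u * h.w⁻¹ = h.z * h.u := by
    rw [w, u, z, ← map_inv, ← map_mul, ← map_mul, ← map_mul]; rfl
  have hwu' : h.w⁻¹ * (h.z * h.u) * h.w = h.u := by rw [← hwu]; group
  have e3 : Nat.card (h.K1 ⊓ Subgroup.centralizer ({h.z * h.u} : Set G) : Subgroup G) =
      Nat.card (h.K1 ⊓ Subgroup.centralizer ({h.u} : Set G) : Subgroup G) := by
    symm
    refine Nat.card_congr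
      { toFun := fun g => ⟨h.w * g * h.w⁻¹, (Subgroup.mem_normalizer_iff.1 hwN _).1 g.2.1, ?_⟩
        invFun := fun g => ⟨h.w⁻¹ * g * h.w, ?_, ?_⟩
        left_inv := fun g => Subtype.ext (by group)
        right_inv := fun g => Subtype.ext (by group) }
    · rw [← hwu]
      exact Subgroup.mem_centralizer_singleton_iff.2
        ((show Commute (g : G) h.u from Subgroup.mem_centralizer_singleton_iff.1 g.2.2).conj h.w).eq
    · have := (Subgroup.mem_normalizer_iff.1 (inv_mem hwN) g).1 g.2.1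
      rwa [inv_inv] at this
    · have h' := (show Commute (g : G) (h.z * h.u) from Subgroup.mem_centralizer_singleton_iff.1 g.2.2).conj h.w⁻¹
      rw [inv_inv, hwu'] at h'
      exact Subgroup.mem_centralizer_singleton_iff.2 h'.eq
  set c := Nat.card (h.K1 ⊓ Subgroup.centralizer ({h.u} : Set G) : Subgroup G) with hc
  have hf := h.swap.fourGroup_card hK (hn h.z_mem_C) (hn h.u_mem_C)
  rw [e2, show h.swap.z = h.z from rfl, hsu, ← hc, e3, ← hn2,
    K1_inf_centralizer hK (Or.inl rfl), h.card_oddC, h.card_O_eq, ← hn2, hcard] at hf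
  have hcu : c = n ^ 2 := by
    have h1 : c * c = n ^ 2 * n ^ 2 :=
      Nat.eq_of_mul_eq_mul_left (Nat.mul_pos Nat.card_pos Nat.card_pos) (hf.symm.trans (by rw [hn2]; ring))
    exact Nat.mul_self_inj.1 h1
  have hsub : h.K1 ⊓ Subgroup.centralizer ({h.u} : Set G) ≤ h.oddC h.u := fun g hg =>
    (h.mem_oddC h.orderOf_u).2 ⟨Subgroup.mem_centralizer_singleton_iff.1 hg.2, not_two_dvd_orderOf hK hg.1⟩
  have hdvd := Subgroup.card_dvd_of_le hsub
  rw [← hc, hcu, h.card_oddC, h.card_O_eq, ← hn2] at hdvd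
  have hn0 : 0 < n := Nat.card_pos
  have heq : Nat.card h.O1 = n := by
    refine le_antisymm hle (Nat.le_of_dvd Nat.card_pos ?_)
    rw [pow_two] at hdvd
    exact Nat.dvd_of_mul_dvd_mul_right hn0 hdvd
  have hou : h.K1 ⊓ Subgroup.centralizer ({h.u} : Set G) = h.oddC h.u :=
    Subgroup.eq_of_le_of_card_ge hsub (by rw [← hc, hcu, h.card_oddC, h.card_O_eq, heq, ← hn2, pow_two])
  -- both four-groups give the same subgroup
  have hu2 : ∀ t, (t = h.z ∨ t = h.u ∨ t = h.z * h.u) → h.oddC t ≤ h.K1 := by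
    rintro t (rfl | rfl | rfl)
    · rw [h.oddC_z]; exact hzO
    · exact hou ▸ inf_le_left
    · intro g hg
      obtain ⟨hgc, hgo⟩ := (h.mem_oddC (h.swap.orderOf_zs)).1 hg
      have h' : h.w⁻¹ * g * h.w ∈ h.oddC h.u := by
        have := h.conj_mem_oddC (g := h.w⁻¹) (t := h.z * h.u) h.swap.orderOf_zs hg
        rw [inv_inv, hwu'] at this
        exact this
      have := (Subgroup.mem_normalizer_iff.1 hwN _).1 (hou ▸ h' : _ ∈ h.K1 ⊓ _).1
      rwa [show h.w * (h.w⁻¹ * g * h.w) * h.w⁻¹ = g by group] at this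
  have hsw : h.swap.K1 = h.K1 := by
    refine le_antisymm (sup_le (sup_le (h.swap_O.le.trans hzO) ?_) ?_) ?_
    · exact fun g hg => hu2 _ (Or.inr (Or.inl rfl))
        ((h.mem_oddC h.orderOf_u).2 ((h.swap.mem_oddC h.swap.orderOf_s).1 hg))
    · exact fun g hg => hu2 _ (Or.inr (Or.inr rfl))
        ((h.mem_oddC h.swap.orderOf_zs).2 ((h.swap.mem_oddC h.swap.orderOf_zs).1 hg))
    · have key : ∀ k ∈ h.K1, ∀ t, (t = h.z ∨ t = h.u ∨ t = h.z * h.u) → Commute k t → k ∈ h.swap.oddC t :=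
        fun k hk t ht hkt => (h.swap.mem_oddC (h.swap.orderOf_V1 ht)).2 ⟨hkt, not_two_dvd_orderOf hK hk⟩
      refine h.swap.fourGroup_le hK ?_ ?_ ?_ ?_
      · intro v hv
        rcases h.swap.cases_V1 hv with rfl | rfl | rfl | rfl
        · exact one_mem _
        · exact hn h.z_mem_C
        · exact hn h.u_mem_C
        · exact hn (mul_mem h.z_mem_C h.u_mem_C)
      · exact fun k hk hc => h.swap.oddC_le_K1 (Or.inl rfl) (key k hk _ (Or.inl rfl) hc)
      · exact fun k hk hc => h.swap.oddC_le_K1 (Or.inr (Or.inl rfl)) (key k hk _ (Or.inr (Or.inl rfl)) hc)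
      · exact fun k hk hc => h.swap.oddC_le_K1 (Or.inr (Or.inr rfl)) (key k hk _ (Or.inr (Or.inr rfl)) hc)
  -- fusing elements
  have fuse : ∀ h' : Hyp G, ∃ c ∈ Subgroup.normalizer (h'.K1 : Set G), c * h'.z * c⁻¹ = h'.z * h'.s := by
    intro h'
    obtain ⟨c, hc1, hc2, hc3⟩ := h'.exists_three
    refine ⟨c, h'.normalizes_K1 ?_, hc1⟩
    rintro t (rfl | rfl | rfl)
    · exact Or.inr (Or.inr hc1)
    · exact Or.inr (Or.inl hc3)
    · exact Or.inl hc2
  obtain ⟨c1, hc1N, hc1z⟩ := fuse h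
  obtain ⟨c2, hc2N, hc2z⟩ := fuse h.swap
  rw [hsw] at hc2N
  rw [show h.swap.z = h.z from rfl, hsu] at hc2z
  -- the quotient
  set N := Subgroup.normalizer (h.K1 : Set G) with hN
  set KN := h.K1.subgroupOf N with hKN
  haveI hKNn : KN.Normal := Subgroup.normal_in_normalizer
  have hKNc : Nat.card KN = Nat.card h.K1 :=
    Nat.card_congr (Subgroup.subgroupOfEquivOfLe Subgroup.le_normalizer).toEquiv
  let q := QuotientGroup.mk' KN
  let φ : h.C →* N ⧸ KN := q.comp (Subgroup.inclusion hn)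
  have hker : φ.ker = h.π.ker := by
    ext ⟨g, hg⟩
    show q _ = 1 ↔ h.π _ = 1
    rw [show (q (Subgroup.inclusion hn ⟨g, hg⟩) = 1) = (QuotientGroup.mk' KN ⟨g, hn hg⟩ = 1) from rfl,
      QuotientGroup.mk'_apply, QuotientGroup.eq_one_iff, hKN, Subgroup.mem_subgroupOf]
    constructor
    · intro hgK
      obtain ⟨_, h1⟩ := h.mem_O.1 (h.mem_O_of_odd hg (not_two_dvd_orderOf hK hgK))
      exact h1
    · exact fun h1 => hzO (h.mem_O.2 ⟨hg, h1⟩)
  have hrange : Nat.card φ.range = 8 := by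
    rw [← Subgroup.index_ker, hker, Subgroup.index_ker, MonoidHom.range_eq_top.2 (fun d => ⟨_, h.π_ι d⟩),
      Subgroup.card_top, DihedralGroup.nat_card]
  set z' := φ ⟨h.z, h.z_mem_C⟩ with hz'
  have hφinj : ∀ d : DihedralGroup 4, φ ⟨h.ι d, h.ι_mem_C d⟩ = 1 → d = 1 := fun d hd => by
    have : (⟨h.ι d, h.ι_mem_C d⟩ : h.C) ∈ φ.ker := hd
    rw [hker, MonoidHom.mem_ker, h.π_ι] at this
    exact this
  have hord : ∀ d : DihedralGroup 4, orderOf (φ ⟨h.ι d, h.ι_mem_C d⟩) = orderOf d := by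
    intro d
    refine orderOf_injective (φ.comp (h.ι.codRestrict h.C h.ι_mem_C)) ?_ d
    rw [← MonoidHom.ker_eq_bot_iff, Subgroup.eq_bot_iff_forall]
    exact fun e he => hφinj e he
  have hcentz : Subgroup.centralizer ({z'} : Set (N ⧸ KN)) = φ.range := by
    refine le_antisymm ?_ ?_
    · intro y hy
      have hP : IsPGroup 2 (Subgroup.zpowers (⟨h.z, hn h.z_mem_C⟩ : N)) := IsPGroup.of_card (n := 1)
        (by rw [Nat.card_zpowers, Subgroup.orderOf_mk, h.orderOf_z]; rfl)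
      have hy' : y ∈ Subgroup.centralizer ((Subgroup.zpowers z' : Subgroup (N ⧸ KN)) : Set (N ⧸ KN)) := by
        refine Subgroup.mem_centralizer_iff.2 fun a ha => ?_
        obtain ⟨k, rfl⟩ := ha
        exact ((show Commute y z' from Subgroup.mem_centralizer_singleton_iff.1 hy).zpow_right k).eq.symm
      have hy'' : y ∈ (Subgroup.centralizer ((Subgroup.zpowers (⟨h.z, hn h.z_mem_C⟩ : N) : Subgroup N) : Set N)).map
          (QuotientGroup.mk' KN) := by
        rw [CfsgLib.Cores.map_mk'_centralizer_of_coprime (N := KN) hP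
          (by rw [hKNc]; exact Nat.coprime_two_right.2 hK), MonoidHom.map_zpowers]
        exact hy'
      obtain ⟨g, hg, rfl⟩ := hy''
      refine ⟨⟨(g : G), h.mem_C.2 ?_⟩, rfl⟩
      exact (congrArg Subtype.val (Subgroup.mem_centralizer_iff.1 hg _ (Subgroup.mem_zpowers _))).symm
    · rintro _ ⟨g, rfl⟩
      refine Subgroup.mem_centralizer_singleton_iff.2 ?_
      rw [hz', ← map_mul, ← map_mul]
      exact congrArg φ (Subtype.ext (h.mem_C.1 g.2).eq)
  have hidx : ∀ M : Subgroup (N ⧸ KN), M.index ≠ 2 := by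
    intro M hM
    haveI := Subgroup.normal_of_index_eq_two hM
    have hsq : ∀ y : N ⧸ KN, y * y ∈ M := fun y => Subgroup.mul_self_mem_of_index_two hM y
    have hzM : z' ∈ M := by
      have : z' = φ ⟨h.w, h.w_mem_C⟩ * φ ⟨h.w, h.w_mem_C⟩ := by
        rw [← map_mul]; exact congrArg φ (Subtype.ext h.w_mul_w.symm)
      rw [this]; exact hsq _
    have hfused : ∀ (c : G) (t : h.C), c ∈ N → c * h.z * c⁻¹ = h.z * (t : G) → φ t ∈ M := by
      intro c t hc he
      have e : q ⟨c, hc⟩ * z' * (q ⟨c, hc⟩)⁻¹ = z' * φ t := by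
        rw [hz', ← map_mul φ]
        show q ⟨c, hc⟩ * q _ * (q ⟨c, hc⟩)⁻¹ = q _
        rw [← map_inv, ← map_mul, ← map_mul]
        exact congrArg q (Subtype.ext he)
      have := Subgroup.Normal.conj_mem inferInstance z' hzM (q ⟨c, hc⟩)
      rw [e] at this
      simpa using mul_mem (inv_mem hzM) this
    have hsM := hfused c1 ⟨h.s, h.s_mem_C⟩ hc1N hc1z
    have huM := hfused c2 ⟨h.u, h.u_mem_C⟩ hc2N hc2z
    have hall : φ.range ≤ M := by
      rintro _ ⟨⟨g, hg⟩, rfl⟩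
      have hgen : ∀ d : DihedralGroup 4, d ∈ Subgroup.closure ({sr 0, sr 1} : Set (DihedralGroup 4)) := by
        intro d
        have h0 : sr 0 ∈ Subgroup.closure ({sr 0, sr 1} : Set (DihedralGroup 4)) := Subgroup.subset_closure (Or.inl rfl)
        have h1 : sr 1 ∈ Subgroup.closure ({sr 0, sr 1} : Set (DihedralGroup 4)) := Subgroup.subset_closure (Or.inr rfl)
        have hr : r 1 ∈ Subgroup.closure ({sr 0, sr 1} : Set (DihedralGroup 4)) := by
          have := mul_mem h0 h1; rwa [sr_mul_sr, sub_zero] at this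
        rcases d with i | i
        · rw [← ZMod.natCast_zmod_val i, ← r_one_pow]; exact pow_mem hr _
        · rw [show sr i = sr 0 * r i by rw [sr_mul_r, zero_add], ← ZMod.natCast_zmod_val i, ← r_one_pow]
          exact mul_mem h0 (pow_mem hr _)
      have hι : φ ⟨h.ι (h.π ⟨g, hg⟩), h.ι_mem_C _⟩ ∈ M := by
        have : Subgroup.closure ({sr 0, sr 1} : Set (DihedralGroup 4)) ≤
            M.comap (φ.comp (h.ι.codRestrict h.C h.ι_mem_C)) := by
          rw [Subgroup.closure_le]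
          rintro d (rfl | rfl)
          · exact hsM
          · exact huM
        exact this (hgen _)
      have e : φ ⟨g, hg⟩ = φ ⟨h.ι (h.π ⟨g, hg⟩), h.ι_mem_C _⟩ := by
        rw [← mul_inv_eq_one, ← map_inv, ← map_mul]
        have : (⟨g, hg⟩ * (⟨h.ι (h.π ⟨g, hg⟩), h.ι_mem_C _⟩ : h.C)⁻¹) ∈ φ.ker := by
          rw [hker, MonoidHom.mem_ker, map_mul, map_inv, h.π_ι, mul_inv_cancel]
        exact this
      rw [e]; exact hι
    have h8 : 8 ∣ Nat.card M := hrange ▸ Subgroup.card_dvd_of_le hall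
    obtain ⟨g₀, hg₀, hG⟩ := h.exists_card_eq
    have h16 : 16 ∣ Nat.card G := by
      have h1 : 16 ∣ Nat.card (N ⧸ KN) := by
        rw [← M.card_mul_index, hM]; exact Nat.mul_dvd_mul h8 dvd_rfl
      exact (h1.trans (Subgroup.card_quotient_dvd_card _)).trans (Subgroup.card_subgroup_dvd_card N)
    rw [hG] at h16
    exact hg₀.not_two_dvd_nat (Nat.dvd_of_mul_dvd_mul_left (k := 8) (by norm_num) h16)
  obtain ⟨-, h168⟩ := CfsgLib.InvolChar.dihedral_eight hidx (z := z') (a := φ ⟨h.w, h.w_mem_C⟩)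
    (b := φ ⟨h.s, h.s_mem_C⟩) (by rw [hcentz]; exact hrange)
    (by rw [hz']; exact (hord (r 2)).trans (orderOf_eq_prime (by rw [pow_two]; decide) (by decide)))
    (hcentz ▸ ⟨_, rfl⟩) ((hord (r 1)).trans DihedralGroup.orderOf_r_one)
    (hcentz ▸ ⟨_, rfl⟩) ((hord (sr 0)).trans (DihedralGroup.orderOf_sr _))
    (by
      rw [← map_inv, ← map_mul, ← map_mul, ← map_inv]
      refine congrArg φ (Subtype.ext ?_)
      show h.s * h.w * h.s⁻¹ = h.w⁻¹
      rw [s, w, ← map_inv, ← map_mul, ← map_mul, ← map_inv]; rfl)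
  have h168' : 168 * n ^ 4 ≤ Nat.card N := by
    rw [← Subgroup.index_mul_card KN, hKNc, hcard, heq, ← hn2, Subgroup.index_eq_card]
    have h4 : n * n ^ 3 = n ^ 4 := by ring
    rw [h4]
    exact Nat.mul_le_mul_right _ (by rcases h168 with h' | h' <;> omega)
  have hG := card_le_order (h := h)
  rw [h.card_O_eq, heq, ← hn2] at hG
  have hidxN : N.index ≤ 2 := by
    by_contra hlt
    have h3 : 3 * (168 * n ^ 4) ≤ Nat.card G := by
      rw [← N.card_mul_index, mul_comm (Nat.card N)]; exact Nat.mul_le_mul (by omega) h168'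
    have h4 : 90 * (n * n) * (n + n) ^ 2 = 360 * n ^ 4 := by ring
    rw [h4] at hG
    have : 0 < n ^ 4 := pow_pos hn0 4
    omega
  have hK1ne : h.K1 ≠ ⊥ := fun e => by
    have := Subgroup.card_le_of_le hzO
    rw [e, Subgroup.card_bot] at this; omega
  have hK1top : h.K1 ≠ ⊤ := fun e => by
    obtain ⟨g₀, -, hG'⟩ := h.exists_card_eq
    rw [e, Subgroup.card_top, hG'] at hK
    exact (Nat.not_odd_iff_even.2 ⟨4 * g₀, by ring⟩) hK
  have hNtop : N = ⊤ := by
    rcases Nat.lt_or_ge N.index 2 with hlt | hge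
    · exact Subgroup.index_eq_one.1 (by have := N.index_ne_zero_of_finite; omega)
    · exfalso
      have h2 : N.index = 2 := le_antisymm hidxN hge
      haveI := Subgroup.normal_of_index_eq_two h2
      rcases (inferInstance : N.Normal).eq_bot_or_eq_top with e | e
      · exact hK1ne (le_bot_iff.1 (e ▸ Subgroup.le_normalizer))
      · rw [e, Subgroup.index_top] at h2; norm_num at h2
  haveI : h.K1.Normal := Subgroup.normalizer_eq_top_iff.1 hNtop
  rcases (inferInstance : h.K1.Normal).eq_bot_or_eq_top with e | e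
  · exact hK1ne e
  · exact hK1top e

end Hyp

end CfsgLib.SmallCent
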